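import Cfsg.Agent.Lib.OrthMult.Action
import Cfsg.Agent.Lib.PlusMult.Lift

/-!
A kernel element of three-power order descends from the stabiliser of a singular vector to the fixer of a
hyperbolic pair: the radical lifts to an abelian group with a complement to the kernel on which an involution
inverts everything.
-/

set_option autoImplicit false
set_option linter.unusedSectionVars false
set_option linter.unusedSimpArgs false

open scoped commutatorElement

namespace Cfsg.Agent.OrthMult.Descent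

open Cfsg.Agent.Forms Cfsg.Agent.Forms.QuadStd Cfsg.Agent.Forms.Reflections Cfsg.Agent.Classical.Orth PlusMult

universe u v

/-- Transfer: a central element of a derived group lies in the derived group of a subgroup of prime-to-`p`
index when its order is a power of `p`. -/
theorem mem_derived {E : Type v} [Group E] [Finite E] {L K : Subgroup E} (hKL : K ≤ L) {p : ℕ}
    [hp : Fact p.Prime] (hind : ¬ p ∣ K.relIndex L) {z : E} (hc : z ∈ Subgroup.center E) (hd : z ∈ ⁅L, L⁆)
    {n : ℕ} (hn : z ^ p ^ n = 1) : z ∈ ⁅K, K⁆ := by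
  have hzL : z ∈ L := Subgroup.commutator_le_self L hd
  obtain ⟨T, hT⟩ : ∃ T, T = K.subgroupOf L := ⟨_, rfl⟩
  obtain ⟨y, hy⟩ : ∃ y : L, y.1 = z := ⟨⟨z, hzL⟩, rfl⟩
  have hyc : ∀ g : L, g * y = y * g := fun g => Subtype.ext (by
    show g.1 * y.1 = y.1 * g.1
    rw [hy]; exact Subgroup.mem_center_iff.1 hc g.1)
  have key : ∀ (j : ℕ) (g₀ : L), g₀⁻¹ * y ^ j * g₀ ∈ T → g₀⁻¹ * y ^ j * g₀ = y ^ j := fun j g₀ _ => by
    rw [mul_assoc, ← ((show Commute g₀ y from hyc g₀).pow_right j).eq, inv_mul_cancel_left]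
  have hyd : y ∈ commutator L := by
    obtain ⟨y', h', e⟩ := (Subgroup.map_subtype_commutator L).ge hd
    rwa [show y = y' from Subtype.ext (hy.trans e.symm)]
  have h1 : MonoidHom.transfer (Abelianization.of : T →* Abelianization T) y = 1 :=
    Abelianization.commutator_subset_ker _ hyd
  rw [MonoidHom.transfer_eq_pow _ y key] at h1
  have h2 : (⟨y ^ T.index, MonoidHom.transfer_eq_pow_aux y key⟩ : T) ∈ commutator T :=
    (QuotientGroup.eq_one_iff _).1 h1
  have h4 : y ^ T.index ∈ (commutator T).map T.subtype := ⟨_, h2, rfl⟩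
  rw [Subgroup.map_subtype_commutator] at h4
  have h5 : z ^ T.index ∈ ⁅K, K⁆ := by
    have e : ⁅T, T⁆.map L.subtype ≤ ⁅K, K⁆ := by
      rw [Subgroup.map_commutator, hT, Subgroup.map_subgroupOf_eq_of_le hKL]
    exact e ⟨_, h4, by rw [map_pow, Subgroup.coe_subtype, hy]⟩
  have hcop : (orderOf z).Coprime T.index := by
    refine Nat.Coprime.coprime_dvd_left (orderOf_dvd_of_pow_eq_one hn) (Nat.Coprime.pow_left n ?_)
    rw [hp.out.coprime_iff_not_dvd, hT]
    exact hind
  obtain ⟨m, hm⟩ := exists_pow_eq_self_of_coprime (Nat.Coprime.symm hcop)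
  rw [← hm]
  exact pow_mem h5 m

variable {F : Type u} [Field F] [Fintype F] {ι : Type} [Fintype ι] [DecidableEq ι]
variable {Q : QuadraticForm F (ι → F)}

local notation "B" => QuadraticMap.polar Q

/-- The data at a hyperbolic pair. -/
structure Rad (Q : QuadraticForm F (ι → F)) (e f : ι → F) where
  /-- The pair. -/
  pair : IsPair Q e f
  /-- The radical as a function on all vectors. -/
  el : (ι → F) → Cfsg.Omega F ⇑Q
  el_act : ∀ w x, act (el w).1 x = x + QuadraticMap.polar Q x e • proj Q e f w -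
    QuadraticMap.polar Q x (proj Q e f w) • e - (Q (proj Q e f w) * QuadraticMap.polar Q x e) • e
  /-- The involution. -/
  ν : Cfsg.Omega F ⇑Q
  νe : act ν.1 e = e
  νf : act ν.1 f = f
  ν_neg : ∀ x, QuadraticMap.polar Q x e = 0 → QuadraticMap.polar Q x f = 0 → act ν.1 x = -x

variable {e f : ι → F} (R : Rad Q e f)

theorem Rad.el_e (w : ι → F) : act (R.el w).1 e = e := by
  obtain ⟨h1, -⟩ := proj_perp R.pair w
  rw [R.el_act, polar_self_zero R.pair.hu, QuadraticMap.polar_comm _ e, h1]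
  simp

theorem Rad.el_fix (w : ι → F) {s : ι → F} (hs : QuadraticMap.polar Q s e = 0)
    (hsw : QuadraticMap.polar Q s (proj Q e f w) = 0) : act (R.el w).1 s = s := by
  rw [R.el_act, hs, hsw]; simp

theorem Rad.el_conj {g : Cfsg.Omega F ⇑Q} (he : act g.1 e = e) (hf : act g.1 f = f) (w : ι → F) :
    g * R.el w * g⁻¹ = R.el (act g.1 w) := by
  have hp : proj Q e f (act g.1 w) = act g.1 (proj Q e f w) := by
    simp only [proj, map_sub, map_smul, he, hf]
    conv_lhs => rw [← he, ← hf, act_polar, act_polar, he, hf]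
  rw [mul_inv_eq_iff_eq_mul]
  refine Subtype.ext (act_ext fun x => ?_)
  rw [Subgroup.coe_mul, Subgroup.coe_mul, act_mul, act_mul, R.el_act, R.el_act, hp, act_map, map_sub, map_sub,
    map_add, map_smul, map_smul, map_smul, he, act_polar]
  have h1 : QuadraticMap.polar Q (act g.1 x) e = QuadraticMap.polar Q x e := by
    conv_lhs => rw [← he]
    exact act_polar g.1 x e
  rw [h1]

theorem Rad.el_add (w w' : ι → F) : R.el w * R.el w' = R.el (w + w') := by
  obtain ⟨h1, -⟩ := proj_perp R.pair w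
  obtain ⟨h2, -⟩ := proj_perp R.pair w'
  have h1' : QuadraticMap.polar Q e (proj Q e f w) = 0 := by rw [QuadraticMap.polar_comm]; exact h1
  have hp : proj Q e f (w + w') = proj Q e f w + proj Q e f w' := by
    simp only [proj, QuadraticMap.polar_add_left, add_smul]; abel
  refine Subtype.ext (act_ext fun x => ?_)
  simp only [Subgroup.coe_mul, act_mul, R.el_act, hp, QuadraticMap.map_add Q, QuadraticMap.polar_sub_left,
    QuadraticMap.polar_add_left, QuadraticMap.polar_add_right, QuadraticMap.polar_smul_left, smul_eq_mul,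
    polar_self_zero R.pair.hu, h1', h2, QuadraticMap.polar_comm _ (proj Q e f w') (proj Q e f w), mul_zero,
    sub_zero, add_zero]
  module

theorem Rad.el_zero : R.el 0 = 1 := by
  have h := R.el_add 0 0
  rw [add_zero] at h
  exact mul_eq_left.1 h

theorem Rad.el_neg (w : ι → F) : R.el (-w) = (R.el w)⁻¹ := by
  refine eq_inv_of_mul_eq_one_right ?_
  rw [R.el_add, add_neg_cancel, R.el_zero]

theorem Rad.ν_conj (w : ι → F) : R.ν * R.el w * R.ν⁻¹ = (R.el w)⁻¹ := by
  rw [R.el_conj R.νe R.νf, ← R.el_neg]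
  refine Subtype.ext (act_ext fun x => ?_)
  obtain ⟨h1, h2⟩ := proj_perp R.pair w
  have e1 : proj Q e f (act R.ν.1 w) = proj Q e f (-w) := by
    conv_lhs => rw [proj_add (Q := Q) e f w]
    rw [map_add, map_add, map_smul, map_smul, R.νe, R.νf, R.ν_neg _ h1 h2]
    simp only [proj, QuadraticMap.polar_add_left, QuadraticMap.polar_neg_left, QuadraticMap.polar_sub_left,
      QuadraticMap.polar_smul_left, smul_eq_mul, polar_self_zero R.pair.hu, polar_self_zero R.pair.hv,
      R.pair.huv, R.pair.hvu]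
    match_scalars <;> ring
  rw [R.el_act, R.el_act, e1]

variable {E : Type v} [Group E] [Finite E] {π : E →* Cfsg.Omega F ⇑Q}

/-- The vectors fixed by a preimage. -/
def fixL (π : E →* Cfsg.Omega F ⇑Q) (S : Set (ι → F)) : Subgroup E where
  carrier := {x | ∀ s ∈ S, act (π x).1 s = s}
  one_mem' := fun s _ => by rw [map_one, Subgroup.coe_one, act_one]
  mul_mem' := fun {x y} hx hy s hs => by rw [map_mul, Subgroup.coe_mul, act_mul, hy s hs, hx s hs]
  inv_mem' := fun {x} hx s hs => by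
    conv_lhs => rw [← hx s hs]
    rw [map_inv, Subgroup.coe_inv, ← act_mul, inv_mul_cancel, act_one]

/-- One step of the descent. -/
theorem step (h2 : (2 : F) ≠ 0) (hc : π.ker ≤ Subgroup.center E) (hs : Function.Surjective π)
    (hk : ∀ x, π x = 1 → ∃ n, x ^ 3 ^ n = 1)
    (hab : ∀ x y, (∃ w, π x = R.el w) → (∃ w, π y = R.el w) → Commute x y)
    {S : Set (ι → F)} (hSe : ∀ s ∈ S, QuadraticMap.polar Q s e = 0)
    (hSf : ∀ s ∈ S, QuadraticMap.polar Q s f = 0)
    (hind : ¬ 3 ∣ (fixL π (insert e S)).relIndex (fixL π S))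
    {z : E} (hz : π z = 1) (hzd : z ∈ ⁅fixL π S, fixL π S⁆) :
    z ∈ ⁅fixL π (insert f (insert e S)), fixL π (insert f (insert e S))⁆ := by
  classical
  haveI : Fact (Nat.Prime 3) := ⟨Nat.prime_three⟩
  obtain ⟨n, hn⟩ := hk z hz
  have hKL : fixL π (insert e S) ≤ fixL π S := fun x hx s hs => hx s (Set.mem_insert_of_mem _ hs)
  have hzK := mem_derived hKL hind (hc hz) hzd hn
  obtain ⟨K, hK⟩ : ∃ K, K = fixL π (insert e S) := ⟨_, rfl⟩
  obtain ⟨M, hM⟩ : ∃ M, M = fixL π (insert f (insert e S)) := ⟨_, rfl⟩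
  rw [← hK] at hzK
  rw [← hM]
  obtain ⟨t, ht⟩ := hs R.ν
  -- the inverted lifts
  obtain ⟨T, hT⟩ : ∃ T : Set E, T = {x | (∃ w, (∀ s ∈ S, QuadraticMap.polar Q s (proj Q e f w) = 0) ∧ π x = R.el w) ∧
      t * x * t⁻¹ = x⁻¹} := ⟨_, rfl⟩
  have T1 : (1 : E) ∈ T := by
    rw [hT]
    exact ⟨⟨0, fun s _ => by simp [proj], by rw [map_one, R.el_zero]⟩, by simp⟩
  have Tmul : ∀ x ∈ T, ∀ y ∈ T, x * y ∈ T := by
    intro x hx y hy
    rw [hT] at hx hy ⊢
    obtain ⟨⟨w, w0, wx⟩, hx'⟩ := hx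
    obtain ⟨⟨w', w0', wy⟩, hy'⟩ := hy
    refine ⟨⟨w + w', fun s hs' => ?_, by rw [map_mul, wx, wy, R.el_add]⟩, ?_⟩
    · have : proj Q e f (w + w') = proj Q e f w + proj Q e f w' := by
        simp only [proj, QuadraticMap.polar_add_left, add_smul]; abel
      rw [this, QuadraticMap.polar_add_right, w0 s hs', w0' s hs', add_zero]
    · rw [show t * (x * y) * t⁻¹ = (t * x * t⁻¹) * (t * y * t⁻¹) by group, hx', hy', _root_.mul_inv_rev,
        ((hab x y ⟨w, wx⟩ ⟨w', wy⟩).inv_inv).eq]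
  have Tinv : ∀ x ∈ T, x⁻¹ ∈ T := by
    intro x hx
    rw [hT] at hx ⊢
    obtain ⟨⟨w, w0, wx⟩, hx'⟩ := hx
    refine ⟨⟨-w, fun s hs' => ?_, by rw [map_inv, wx, R.el_neg]⟩, ?_⟩
    · have : proj Q e f (-w) = -proj Q e f w := by
        simp only [proj, QuadraticMap.polar_neg_left, neg_smul]; abel
      rw [this, QuadraticMap.polar_neg_right, w0 s hs', neg_zero]
    · rw [show t * x⁻¹ * t⁻¹ = (t * x * t⁻¹)⁻¹ by group, hx']
  have Tone : ∀ x ∈ T, π x = 1 → x = 1 := by
    intro x hx h1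
    rw [hT] at hx
    obtain ⟨-, hx'⟩ := hx
    obtain ⟨j, hj⟩ := hk x h1
    rw [Subgroup.mem_center_iff.1 (hc h1) t, mul_inv_cancel_right] at hx'
    have h22 : x ^ 2 = 1 := by rw [pow_two]; nth_rw 2 [hx']; exact mul_inv_cancel x
    have hg : x ^ (Nat.gcd (3 ^ j) 2) = 1 := pow_gcd_eq_one.2 ⟨hj, h22⟩
    rwa [(Nat.Coprime.pow_left j (show Nat.Coprime 3 2 by decide)).gcd_eq_one, pow_one] at hg
  -- every lift of the radical is a kernel element times an inverted one
  have Tcover : ∀ (w : ι → F), (∀ s ∈ S, QuadraticMap.polar Q s (proj Q e f w) = 0) →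
      ∀ x, π x = R.el w → ∃ y ∈ T, π y = R.el w ∧ y⁻¹ * x ∈ Subgroup.center E := by
    intro w w0 x wx
    obtain ⟨c, hc'⟩ : ∃ c, c = t * x * t⁻¹ * x := ⟨_, rfl⟩
    have hck : π c = 1 := by
      rw [hc', map_mul, map_mul, map_mul, map_inv, ht, wx, R.ν_conj, inv_mul_cancel]
    obtain ⟨j, hj⟩ := hk c hck
    obtain ⟨r, hr⟩ : ∃ r, (c ^ r) ^ 2 = c := by
      obtain ⟨r, hr⟩ := exists_pow_eq_self_of_coprime (x := c) (n := 2)
        ((Nat.Coprime.coprime_dvd_right (orderOf_dvd_of_pow_eq_one hj)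
          (Nat.Coprime.pow_right j (show Nat.Coprime 2 3 by decide))))
      exact ⟨r, by rw [← pow_mul, mul_comm, pow_mul]; exact hr⟩
    obtain ⟨d, hd⟩ : ∃ d, d = c ^ r := ⟨_, rfl⟩
    have hdk : π d = 1 := by rw [hd, map_pow, hck, one_pow]
    have hdc : ∀ g, g * d = d * g := Subgroup.mem_center_iff.1 (hc hdk)
    refine ⟨x * d⁻¹, ?_, by rw [map_mul, map_inv, hdk, inv_one, mul_one, wx], ?_⟩
    · rw [hT]
      refine ⟨⟨w, w0, by rw [map_mul, map_inv, hdk, inv_one, mul_one, wx]⟩, ?_⟩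
      have e1 : t * x * t⁻¹ = d ^ 2 * x⁻¹ := by rw [hd, hr, hc']; group
      rw [show t * (x * d⁻¹) * t⁻¹ = t * x * t⁻¹ * (t * d * t⁻¹)⁻¹ by group, hdc t, mul_inv_cancel_right, e1,
        _root_.mul_inv_rev, inv_inv, pow_two, mul_assoc d d, mul_assoc, mul_assoc,
        (show Commute x⁻¹ d⁻¹ from ((show Commute x d from hdc x).inv_inv)).eq, ← mul_assoc d d⁻¹,
        mul_inv_cancel, one_mul]
    · rw [show (x * d⁻¹)⁻¹ * x = d by group]
      exact hc hdk
  have hMfix : ∀ {x}, x ∈ M → act (π x).1 e = e ∧ act (π x).1 f = f := fun {x} hx => by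
    rw [hM] at hx
    exact ⟨hx e (by simp), hx f (by simp)⟩
  have Tconj : ∀ m ∈ M, ∀ x ∈ T, m * x * m⁻¹ ∈ T := by
    intro m hm x hx
    obtain ⟨me, mf⟩ := hMfix hm
    rw [hT] at hx ⊢
    obtain ⟨⟨w, w0, wx⟩, hx'⟩ := hx
    refine ⟨⟨act (π m).1 w, fun s hs' => ?_, by rw [map_mul, map_mul, map_inv, wx, R.el_conj me mf]⟩, ?_⟩
    · have hp : proj Q e f (act (π m).1 w) = act (π m).1 (proj Q e f w) := by
        simp only [proj, map_sub, map_smul, me, mf]
        conv_lhs => rw [← me, ← mf, act_polar, act_polar, me, mf]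
      have hms : act (π m).1 s = s := (hM ▸ hm) s (by simp [hs'])
      rw [hp, ← hms, act_polar, w0 s hs']
    · have hcomm : π (t * m) = π (m * t) := by
        rw [map_mul, map_mul, ht]
        refine Subtype.ext (act_ext fun v => ?_)
        rw [Subgroup.coe_mul, Subgroup.coe_mul, act_mul, act_mul]
        conv_lhs => rw [proj_add (Q := Q) e f v]
        conv_rhs => rw [proj_add (Q := Q) e f v]
        obtain ⟨h1, h2'⟩ := proj_perp R.pair v
        have g1 := act_polar (π m).1 (proj Q e f v) e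
        rw [me, h1] at g1
        have g2 := act_polar (π m).1 (proj Q e f v) f
        rw [mf, h2'] at g2
        simp only [map_add, map_smul, me, mf, R.νe, R.νf, R.ν_neg _ h1 h2', R.ν_neg _ g1 g2, map_neg]
      have hk0 := hc (show π ((m * t)⁻¹ * (t * m)) = 1 by rw [map_mul, map_inv, hcomm, inv_mul_cancel])
      have hk1 : ∀ g, g * ((m * t)⁻¹ * (t * m)) = (m * t)⁻¹ * (t * m) * g := Subgroup.mem_center_iff.1 hk0
      calc t * (m * x * m⁻¹) * t⁻¹
          = (m * t) * (((m * t)⁻¹ * (t * m)) * x * ((m * t)⁻¹ * (t * m))⁻¹) * (m * t)⁻¹ := by group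
        _ = m * (t * x * t⁻¹) * m⁻¹ := by rw [← hk1 x, mul_inv_cancel_right]; group
        _ = (m * x * m⁻¹)⁻¹ := by rw [hx']; group
  let P : Subgroup E :=
    { carrier := {g | ∃ x ∈ T, ∃ y ∈ ⁅M, M⁆, g = x * y}
      one_mem' := ⟨1, T1, 1, one_mem _, by simp⟩
      mul_mem' := by
        rintro _ _ ⟨x, hx, y, hy, rfl⟩ ⟨x', hx', y', hy', rfl⟩
        exact ⟨x * (y * x' * y⁻¹), Tmul _ hx _ (Tconj y (Subgroup.commutator_le_self M hy) _ hx'), y * y',
          mul_mem hy hy', by group⟩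
      inv_mem' := by
        rintro _ ⟨x, hx, y, hy, rfl⟩
        exact ⟨y⁻¹ * x⁻¹ * y⁻¹⁻¹, Tconj _ (inv_mem (Subgroup.commutator_le_self M hy)) _ (Tinv _ hx), y⁻¹,
          inv_mem hy, by group⟩ }
  have hdec : ∀ g ∈ K, ∃ x ∈ T, ∃ m ∈ M, (x * m)⁻¹ * g ∈ Subgroup.center E := by
    intro g hg
    rw [hK] at hg
    have ge : act (π g).1 e = e := hg e (Set.mem_insert _ _)
    obtain ⟨f', hf'⟩ : ∃ f', f' = act (π g).1 f := ⟨_, rfl⟩
    have hef' : QuadraticMap.polar Q f' e = 1 := by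
      rw [hf']; conv_lhs => rw [← ge]
      rw [act_polar, R.pair.hvu]
    have hQf' : Q f' = 0 := by rw [hf', act_map, R.pair.hv]
    obtain ⟨w, hw⟩ : ∃ w, w = proj Q e f f' := ⟨_, rfl⟩
    obtain ⟨p1, p2⟩ := proj_perp R.pair f'
    rw [← hw] at p1 p2
    have hdecf : f' = QuadraticMap.polar Q f' f • e + f + w := by
      conv_lhs => rw [proj_add (Q := Q) e f f', hef', one_smul, ← hw]
    have hp : proj Q e f w = w := by rw [proj, p1, p2, zero_smul, zero_smul, sub_zero, sub_zero]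
    have hc2 : QuadraticMap.polar Q f' f = -Q w := by
      have e0 : Q (QuadraticMap.polar Q f' f • e + f + w) = QuadraticMap.polar Q f' f + Q w := by
        simp only [QuadraticMap.map_add Q, QuadraticMap.map_smul, R.pair.hu, R.pair.hv, QuadraticMap.polar_add_left,
          QuadraticMap.polar_smul_left, smul_eq_mul, R.pair.huv, QuadraticMap.polar_comm _ e w, p1,
          QuadraticMap.polar_comm _ f w, p2]
        ring
      rw [← hdecf, hQf'] at e0
      linear_combination -e0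
    have w0 : ∀ s ∈ S, QuadraticMap.polar Q s (proj Q e f w) = 0 := fun s hs' => by
      have gs : act (π g).1 s = s := hg s (Set.mem_insert_of_mem _ hs')
      have h3 : QuadraticMap.polar Q s f' = 0 := by rw [hf', ← gs, act_polar, hSf s hs']
      rw [hdecf, QuadraticMap.polar_add_right, QuadraticMap.polar_add_right, QuadraticMap.polar_smul_right,
        hSe s hs', hSf s hs', smul_zero, zero_add, zero_add] at h3
      rw [hp, h3]
    obtain ⟨x0, hx0⟩ := hs (R.el w)
    obtain ⟨x, hxT, hxw, -⟩ := Tcover w w0 x0 hx0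
    refine ⟨x, hxT, x⁻¹ * g, ?_, by rw [mul_inv_cancel_left, inv_mul_cancel]; exact one_mem _⟩
    rw [hM]
    have hxf : act (π x).1 f = f' := by
      rw [hxw, R.el_act, R.pair.hvu, hp, QuadraticMap.polar_comm _ f w, p2, mul_one, hdecf, hc2]
      simp only [one_smul, zero_smul, sub_zero, neg_smul]
      abel
    have hxfix : ∀ s, (s = e ∨ s ∈ S) → act (π x).1 s = s := fun s hs' => by
      rw [hxw]
      rcases hs' with rfl | hs'
      · exact R.el_e w
      · exact R.el_fix w (hSe s hs') (w0 s hs')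
    intro s hs'
    rw [map_mul, map_inv, Subgroup.coe_mul, Subgroup.coe_inv, act_mul]
    rcases hs' with rfl | hs'
    · rw [← hf', ← hxf, ← act_mul, inv_mul_cancel, act_one]
    · rw [hg s hs']
      conv_lhs => rw [← hxfix s hs']
      rw [← act_mul, inv_mul_cancel, act_one]
  have hKP : ⁅K, K⁆ ≤ P := by
    refine Subgroup.commutator_le.2 fun a ha b hb => ?_
    obtain ⟨x, hx, m, hm, hxm⟩ := hdec a ha
    obtain ⟨y, hy, l, hl, hyl⟩ := hdec b hb
    rw [Lift.comm_congr hxm hyl]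
    refine ⟨x * (m * y * m⁻¹) * (⁅m, l⁆ * (l * x⁻¹ * l⁻¹) * ⁅m, l⁆⁻¹) * (⁅m, l⁆ * y⁻¹ * ⁅m, l⁆⁻¹), ?_, ⁅m, l⁆,
      Subgroup.commutator_mem_commutator hm hl, by simp only [commutatorElement_def]; group⟩
    have hk' : ⁅m, l⁆ ∈ M := Subgroup.commutator_le_self M (Subgroup.commutator_mem_commutator hm hl)
    exact Tmul _ (Tmul _ (Tmul _ hx _ (Tconj m hm _ hy)) _ (Tconj _ hk' _ (Tconj l hl _ (Tinv _ hx)))) _
      (Tconj _ hk' _ (Tinv _ hy))
  obtain ⟨x, hx, y, hy, rfl⟩ := hKP hzK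
  suffices hx1 : x = 1 by rw [hx1, one_mul]; exact hy
  refine Tone x hx ?_
  have hyM : y ∈ M := Subgroup.commutator_le_self M hy
  have hx' := hx
  rw [hT] at hx'
  obtain ⟨⟨w, -, hw⟩, -⟩ := hx'
  rw [hw]
  have hyf : act (R.el w).1 f = f := by
    have h0 := hz
    rw [map_mul, hw] at h0
    have h4 := congrArg (act (R.el w).1) (hMfix hyM).2
    rw [← act_mul, ← Subgroup.coe_mul, h0, Subgroup.coe_one, act_one] at h4
    exact h4.symm
  obtain ⟨p1, p2⟩ := proj_perp R.pair w
  rw [R.el_act, R.pair.hvu, QuadraticMap.polar_comm _ f, p2, one_smul, zero_smul, sub_zero, mul_one,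
    sub_eq_iff_eq_add, add_right_inj] at hyf
  have hQ : Q (proj Q e f w) = 0 := by
    have h3 := congrArg (fun v => QuadraticMap.polar Q v f) hyf
    simp only [QuadraticMap.polar_smul_left, p2, R.pair.huv, smul_eq_mul, mul_one] at h3
    exact h3.symm
  rw [hQ, zero_smul] at hyf
  refine Subtype.ext (act_ext fun v => ?_)
  rw [R.el_act, hyf, Subgroup.coe_one, act_one]
  simp [QuadraticMap.polar_zero_right]

end Cfsg.Agent.OrthMult.Descent
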