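import Cfsg.Agent.Lib.OrthMult.EvenStab
import Cfsg.Agent.Lib.Forms.Spinor
import Cfsg.Agent.Lib.PlusMult.Lift
import Cfsg.Agent.SimpleFacts.SpMult.Binary

/-!
Over two elements: lifts of products of two orthogonal reflections with a common factor commute, and
sections over two orthogonal stabilisers agree on them.
-/

set_option autoImplicit false
set_option linter.unusedSectionVars false
set_option linter.unusedSimpArgs false

open scoped commutatorElement

namespace Cfsg.Agent.OrthMult.Even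

open Cfsg.Agent.Forms Cfsg.Agent.Forms.QuadStd Cfsg.Agent.Forms.Reflections Cfsg.Agent.Forms.PlusStd
  Cfsg.Agent.Classical.Orth Cfsg.Agent.Classical.OrthForms Cfsg.Agent.Classical.OmegaCrit Module PlusMult

universe u v

section General

variable {F : Type u} [Field F] [Fintype F] {ι : Type} [Fintype ι] [DecidableEq ι]
variable {Q : QuadraticForm F (ι → F)}

/-- Three pairwise orthogonal independent vectors of norm one. -/
structure Tri (p r y : Sph Q) : Prop where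
  pr : QuadraticMap.polar Q p.1 r.1 = 0
  py : QuadraticMap.polar Q p.1 y.1 = 0
  ry : QuadraticMap.polar Q r.1 y.1 = 0
  ne : p ≠ r
  out : y.1 ∉ Submodule.span F ({p.1, r.1} : Set (ι → F))

/-- The product of two reflections. -/
noncomputable def pp (hS : Space2 Q) (x y : Sph Q) : Cfsg.Omega F ⇑Q :=
  ⟨reflect Q x.1 * reflect Q y.1, by
    rw [mem_omega_iff_par hS.nondeg (card_ne hS) hS.two, par_mul_all hS.nondeg (card_ne hS),
      par_reflect hS.nondeg (by rw [x.2]; exact one_ne_zero), par_reflect hS.nondeg (by rw [y.2]; exact one_ne_zero)]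
    rfl⟩

variable (hS : Space2 Q)
include hS

theorem act_ref (x : Sph Q) (v : ι → F) :
    act (reflect Q x.1) v = v + QuadraticMap.polar Q x.1 v • x.1 := by
  rw [act_reflect, x.2, inv_one, one_mul, sub_eq_add_neg, ← neg_smul, neg_self hS]

theorem act_pp {x y : Sph Q} (hxy : QuadraticMap.polar Q x.1 y.1 = 0) (v : ι → F) :
    act (pp hS x y).1 v = v + (QuadraticMap.polar Q x.1 v • x.1 + QuadraticMap.polar Q y.1 v • y.1) := by
  rw [show (pp hS x y).1 = reflect Q x.1 * reflect Q y.1 from rfl, act_mul, act_ref hS, act_ref hS,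
    QuadraticMap.polar_add_right, QuadraticMap.polar_smul_right, hxy, smul_zero, add_zero]
  abel

theorem pp_fix {x y z : Sph Q} (hxz : QuadraticMap.polar Q x.1 z.1 = 0) (hyz : QuadraticMap.polar Q y.1 z.1 = 0) :
    pp hS x y • z = z := by
  refine smul_eq_iff.2 ?_
  rw [show (pp hS x y).1 = reflect Q x.1 * reflect Q y.1 from rfl, act_mul, act_reflect_fix hyz,
    act_reflect_fix hxz]

theorem pp_conj (γ : Cfsg.Omega F ⇑Q) (x y : Sph Q) : γ * pp hS x y * γ⁻¹ = pp hS (γ • x) (γ • y) := by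
  refine Subtype.ext ?_
  show γ.1 * (reflect Q x.1 * reflect Q y.1) * γ.1⁻¹ = reflect Q (γ • x).1 * reflect Q (γ • y).1
  rw [smul_val, smul_val, ← Spinor.reflect_conj, ← Spinor.reflect_conj]
  group

theorem pp_sq {x y : Sph Q} (hxy : QuadraticMap.polar Q x.1 y.1 = 0) : pp hS x y * pp hS x y = 1 := by
  refine Subtype.ext (act_ext fun v => ?_)
  rw [Subgroup.coe_mul, act_mul, act_pp hS hxy, act_pp hS hxy, Subgroup.coe_one, act_one]
  have hyx : QuadraticMap.polar Q y.1 x.1 = 0 := by rw [QuadraticMap.polar_comm]; exact hxy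
  simp only [QuadraticMap.polar_add_right, QuadraticMap.polar_smul_right, hxy, hyx, polar_self0 hS,
    smul_zero, add_zero]
  funext i
  simp only [Pi.add_apply, Pi.smul_apply, smul_eq_mul]
  linear_combination (QuadraticMap.polar Q x.1 v * x.1 i + QuadraticMap.polar Q y.1 v * y.1 i) * hS.two

theorem Tri.map {p r y : Sph Q} (t : Tri p r y) (γ : Cfsg.Omega F ⇑Q) : Tri (γ • p) (γ • r) (γ • y) where
  pr := by rw [smul_val, smul_val, act_polar, t.pr]
  py := by rw [smul_val, smul_val, act_polar, t.py]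
  ry := by rw [smul_val, smul_val, act_polar, t.ry]
  ne e := t.ne (MulAction.injective γ e)
  out e := t.out (by
    obtain ⟨s, c, hsc⟩ := Submodule.mem_span_pair.1 e
    refine Submodule.mem_span_pair.2 ⟨s, c, ?_⟩
    have := congrArg (act γ.1⁻¹) hsc
    simp only [smul_val, map_add, map_smul, ← act_mul, inv_mul_cancel, act_one] at this
    exact this)

theorem tri_move {p r y p' r' y' : Sph Q} (t : Tri p r y) (t' : Tri p' r' y') :
    ∃ γ : Cfsg.Omega F ⇑Q, γ • p = p' ∧ γ • r = r' ∧ γ • y = y' := by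
  obtain ⟨γ, hγ⟩ := exists_trans hS p p'
  have t1 := t.map hS γ
  rw [hγ] at t1
  obtain ⟨δ, d1, -, d3⟩ := exists_step hS (a := p') (b := p') (polar_self0 hS _) t1.pr t'.pr t1.pr t'.pr
    (not_mem_single hS t1.ne) (not_mem_single hS t'.ne)
  have t2 := t1.map hS δ
  rw [d1, d3] at t2
  obtain ⟨η, n1, n2, n3⟩ := exists_step hS (a := p') (b := r') t2.pr t2.py t'.py t2.ry t'.ry t2.out t'.out
  exact ⟨η * δ * γ, by rw [mul_smul, mul_smul, hγ, d1, n1], by rw [mul_smul, mul_smul, d3, n2],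
    by rw [mul_smul, mul_smul, n3]⟩

variable {E : Type v} [Group E] {π : E →* Cfsg.Omega F ⇑Q}

theorem comm_tri (hc : π.ker ≤ Subgroup.center E) (hs : Function.Surjective π) {p r y p' r' y' : Sph Q}
    (t : Tri p r y) (t' : Tri p' r' y') {e₁ e₂ e₁' e₂' : E} (h1 : π e₁ = pp hS r p) (h2 : π e₂ = pp hS y p)
    (h1' : π e₁' = pp hS r' p') (h2' : π e₂' = pp hS y' p') : ⁅e₁, e₂⁆ = ⁅e₁', e₂'⁆ := by
  obtain ⟨γ, g1, g2, g3⟩ := tri_move hS t t'
  obtain ⟨e, he⟩ := hs γ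
  have hz : ⁅e₁, e₂⁆ ∈ Subgroup.center E := hc (by
    rw [MonoidHom.mem_ker, map_commutatorElement, h1, h2, commutatorElement_eq_one_iff_commute]
    refine Subtype.ext ?_
    refine act_ext fun v => ?_
    have hrp : QuadraticMap.polar Q r.1 p.1 = 0 := by rw [QuadraticMap.polar_comm]; exact t.pr
    have hyp : QuadraticMap.polar Q y.1 p.1 = 0 := by rw [QuadraticMap.polar_comm]; exact t.py
    have hyr : QuadraticMap.polar Q y.1 r.1 = 0 := by rw [QuadraticMap.polar_comm]; exact t.ry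
    simp only [Subgroup.coe_mul, act_mul, act_pp hS hrp, act_pp hS hyp, QuadraticMap.polar_add_right,
      QuadraticMap.polar_smul_right, hrp, hyp, hyr, t.pr, t.py, t.ry, polar_self0 hS, smul_zero, add_zero]
    abel)
  rw [Lift.comm_congr (Lift.div_mem_center hc (x := e₁') (x' := e * e₁ * e⁻¹) (by
      rw [map_mul, map_mul, map_inv, he, h1, h1', pp_conj hS, g1, g2]))
    (Lift.div_mem_center hc (x := e₂') (x' := e * e₂ * e⁻¹) (by
      rw [map_mul, map_mul, map_inv, he, h2, h2', pp_conj hS, g1, g3])),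
    show ⁅e * e₁ * e⁻¹, e * e₂ * e⁻¹⁆ = e * ⁅e₁, e₂⁆ * e⁻¹ by simp only [commutatorElement_def]; group,
    (Subgroup.mem_center_iff.1 hz e), mul_inv_cancel_right]

/-- A vector of norm one moved by a singular one orthogonal to it. -/
def shift (x : Sph Q) (s : ι → F) (hs : Q s = 0) (hxs : QuadraticMap.polar Q x.1 s = 0) : Sph Q :=
  ⟨x.1 + s, by rw [QuadraticMap.map_add Q, x.2, hs, hxs, add_zero, add_zero]⟩

/-- The element of a singular line in three factors. -/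
theorem act_three {x : Sph Q} {xs xt xu : Sph Q} {s t : ι → F} (e1 : xs.1 = x.1 + s) (e2 : xt.1 = x.1 + t)
    (e3 : xu.1 = x.1 + (s + t)) (hxs : QuadraticMap.polar Q x.1 s = 0) (hxt : QuadraticMap.polar Q x.1 t = 0)
    (hst : QuadraticMap.polar Q s t = 0) (v : ι → F) :
    act (pp hS xs x * pp hS xt x * pp hS xu x).1 v =
      v + (QuadraticMap.polar Q t v • s + QuadraticMap.polar Q s v • t) := by
  have hts : QuadraticMap.polar Q t s = 0 := by rw [QuadraticMap.polar_comm]; exact hst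
  have hsx : QuadraticMap.polar Q s x.1 = 0 := by rw [QuadraticMap.polar_comm]; exact hxs
  have htx : QuadraticMap.polar Q t x.1 = 0 := by rw [QuadraticMap.polar_comm]; exact hxt
  have o : ∀ z : Sph Q, (z.1 = x.1 + s ∨ z.1 = x.1 + t ∨ z.1 = x.1 + (s + t)) →
      QuadraticMap.polar Q z.1 x.1 = 0 := by
    rintro z (e | e | e) <;>
      simp [e, QuadraticMap.polar_add_left, polar_self0 hS, hsx, htx]
  simp only [Subgroup.coe_mul, act_mul, act_pp hS (o xs (Or.inl e1)), act_pp hS (o xt (Or.inr (Or.inl e2))),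
    act_pp hS (o xu (Or.inr (Or.inr e3))), e1, e2, e3, QuadraticMap.polar_add_left, QuadraticMap.polar_add_right,
    QuadraticMap.polar_smul_right, hxs, hxt, hst, hts, hsx, htx, polar_self0 hS, smul_zero, add_zero]
  funext i
  simp only [Pi.add_apply, Pi.smul_apply, smul_eq_mul]
  linear_combination (3 * QuadraticMap.polar Q x.1 v * x.1 i + QuadraticMap.polar Q x.1 v * (s i + t i)
    + QuadraticMap.polar Q s v * (x.1 i + s i) + QuadraticMap.polar Q t v * (x.1 i + t i)) * hS.two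

end General

section Binary

variable {F : Type u} [Field F] [Fintype F] {k : ℕ} {a b : F}

local notation "Q₀" => minQ F k a b
local notation "Vm" => ((Fin k ⊕ Fin k) ⊕ Fin 2 → F)
local notation "B₀" => QuadraticMap.polar (minQ F k a b)

/-- A basis vector of the first kind. -/
def bE (k : ℕ) (i : Fin k) : (Fin k ⊕ Fin k) ⊕ Fin 2 → F := Sum.elim (Pi.single (Sum.inl i) 1) 0

/-- A basis vector of the second kind. -/
def bF (k : ℕ) (i : Fin k) : (Fin k ⊕ Fin k) ⊕ Fin 2 → F := Sum.elim (Pi.single (Sum.inr i) 1) 0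

/-- A vector of the anisotropic plane. -/
def bW (k : ℕ) (s t : F) : (Fin k ⊕ Fin k) ⊕ Fin 2 → F := Sum.elim 0 ![s, t]

theorem coef_one (h : Min2 k a b) (hF : Fintype.card F = 2) : a = 1 ∧ b = 1 :=
  ⟨(SimpleFacts.SpMult.Binary.zero_or_one hF a).resolve_left (a_ne h),
    (SimpleFacts.SpMult.Binary.zero_or_one hF b).resolve_left fun e =>
      one_ne_zero (h.hab 0 1 (by rw [e]; ring)).2⟩

theorem bE_ne (i j : Fin k) : bE (F := F) k i (Sum.inl (Sum.inl j)) = if j = i then 1 else 0 := by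
  simp [bE, Pi.single_apply]

variable (h : Min2 k a b)
include h

theorem polar_table :
    (∀ i j : Fin k, B₀ (bE k i) (bE k j) = 0) ∧ (∀ i j : Fin k, B₀ (bF k i) (bF k j) = 0) ∧
      (∀ i j : Fin k, B₀ (bE k i) (bF k j) = if i = j then 1 else 0) ∧
      (∀ i s t, B₀ (bE k i) (bW k s t) = 0) ∧ (∀ i s t, B₀ (bF k i) (bW k s t) = 0) ∧
      (∀ s t s' t', B₀ (bW k s t) (bW k s' t') = a * (t * s' + s * t')) ∧
      (∀ i, Q₀ (bE k i) = 0) ∧ (∀ i, Q₀ (bF k i) = 0) ∧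
      (∀ s t, Q₀ (bW k s t) = s ^ 2 + a * s * t + b * t ^ 2) := by
  refine ⟨fun i j => ?_, fun i j => ?_, fun i j => ?_, fun i s t => ?_, fun i s t => ?_, fun s t s' t' => ?_,
    fun i => ?_, fun i => ?_, fun s t => ?_⟩
  · rw [bE, bE, minQ_polar_inl, plusQ_polar]; simp [Pi.single_apply]
  · rw [bF, bF, minQ_polar_inl, plusQ_polar]; simp [Pi.single_apply]
  · simp only [bE, bF, minQ_polar_inl, plusQ_polar]
    simp [Pi.single_apply]
    split_ifs <;> simp_all
  · simp [bE, bW, minQ_polar, Sum.elim_comp_inl, plusQ_polar]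
  · simp [bF, bW, minQ_polar, Sum.elim_comp_inl, plusQ_polar]
  · simp [bW, minQ_polar, Sum.elim_comp_inl, plusQ_polar]
    linear_combination (s * s' + b * t * t') * h.two
  · rw [bE, minQ_inl, plusQ_apply]; simp [Cfsg.quadFormPlus, Pi.single_apply]
  · rw [bF, minQ_inl, plusQ_apply]; simp [Cfsg.quadFormPlus, Pi.single_apply]
  · simp [bW, minQ_apply, Sum.elim_comp_inl, plusQ_apply, Cfsg.quadFormPlus]

theorem binary_commute {E : Type v} [Group E] {π : E →* Cfsg.Omega F ⇑(Q₀)} (hF : Fintype.card F = 2) (hc : π.ker ≤ Subgroup.center E) (hs : Function.Surjective π)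
    {p r y : Sph (Q₀)} (t : Tri p r y) {e₁ e₂ : E} (h1 : π e₁ = pp (space2 h) r p)
    (h2 : π e₂ = pp (space2 h) y p) : ⁅e₁, e₂⁆ = 1 := by
  obtain ⟨ha, hb⟩ := coef_one h hF
  have hS := space2 h
  obtain ⟨tEE, tFF, tEF, tEW, tFW, tWW, tE, tF, tW⟩ := polar_table h
  obtain ⟨ε, hε⟩ : ∃ ε, ε = ⁅e₁, e₂⁆ := ⟨_, rfl⟩
  rw [← hε]
  have hrp : B₀ r.1 p.1 = 0 := by rw [QuadraticMap.polar_comm]; exact t.pr
  have hyp : B₀ y.1 p.1 = 0 := by rw [QuadraticMap.polar_comm]; exact t.py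
  have hεz : ∀ g, Commute g ε := fun g => by
    refine Subgroup.mem_center_iff.1 (hc ?_) g
    rw [MonoidHom.mem_ker, hε, map_commutatorElement, h1, h2, commutatorElement_eq_one_iff_commute]
    refine Subtype.ext (act_ext fun v => ?_)
    have hyr : B₀ y.1 r.1 = 0 := by rw [QuadraticMap.polar_comm]; exact t.ry
    simp only [Subgroup.coe_mul, act_mul, act_pp hS hrp, act_pp hS hyp, QuadraticMap.polar_add_right,
      QuadraticMap.polar_smul_right, hrp, hyp, hyr, t.pr, t.py, t.ry, polar_self0 hS, smul_zero, add_zero]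
    abel
  have hε2 : ε * ε = 1 := by
    have hk : e₁ * e₁ ∈ Subgroup.center E := hc (by rw [MonoidHom.mem_ker, map_mul, h1, pp_sq hS hrp])
    have hl : ⁅e₁ * e₁, e₂⁆ = 1 :=
      commutatorElement_eq_one_iff_commute.2 (Subgroup.mem_center_iff.1 hk e₂).symm
    rw [show ⁅e₁ * e₁, e₂⁆ = e₁ * ⁅e₁, e₂⁆ * e₁⁻¹ * ⁅e₁, e₂⁆ by simp only [commutatorElement_def]; group,
      ← hε, (hεz e₁).eq, mul_inv_cancel_right] at hl
    exact hl
  obtain ⟨i0, i1, i2, h01, h02, h12⟩ : ∃ i0 i1 i2 : Fin k, i0 ≠ i1 ∧ i0 ≠ i2 ∧ i1 ≠ i2 :=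
    ⟨⟨0, by have := h.k3; omega⟩, ⟨1, by have := h.k3; omega⟩, ⟨2, by have := h.k3; omega⟩, by simp, by simp,
      by simp⟩
  obtain ⟨s, hs'⟩ : ∃ s, s = bE (F := F) k i0 := ⟨_, rfl⟩
  obtain ⟨u, hu'⟩ : ∃ u, u = bE (F := F) k i1 := ⟨_, rfl⟩
  obtain ⟨e, he'⟩ : ∃ e, e = bE (F := F) k i2 := ⟨_, rfl⟩
  have Qs : Q₀ s = 0 := hs' ▸ tE i0
  have Qu : Q₀ u = 0 := hu' ▸ tE i1
  have Qe : Q₀ e = 0 := he' ▸ tE i2
  have hsu : B₀ s u = 0 := by rw [hs', hu', tEE]
  have hse : B₀ s e = 0 := by rw [hs', he', tEE]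
  have hue : B₀ u e = 0 := by rw [hu', he', tEE]
  have Qsu : Q₀ (s + u) = 0 := by rw [QuadraticMap.map_add (Q₀), Qs, Qu, hsu, add_zero, add_zero]
  obtain ⟨L, hL⟩ : ∃ L : Cfsg.Omega F ⇑(Q₀) → E, ∀ g, π (L g) = g :=
    ⟨Function.surjInv hs, Function.surjInv_eq hs⟩
  -- three times the value for each vector of the plane
  have key : ∀ (x : Sph (Q₀)) (c d : F) (_ : x.1 = bW k c d) (g₁ g₂ : Cfsg.Omega F ⇑(Q₀)),
      (∀ v, act g₁.1 v = v + (B₀ u v • s + B₀ s v • u)) →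
      (∀ v, act g₂.1 v = v + (B₀ x.1 v • e + B₀ e v • x.1 + B₀ e v • e)) →
      ⁅L g₁, L g₂⁆ = ε * ε * ε := by
    intro x c d hx g₁ g₂ hg₁ hg₂
    have hxE : ∀ i, B₀ x.1 (bE k i) = 0 := fun i => by rw [hx, QuadraticMap.polar_comm, tEW]
    have hxs : B₀ x.1 s = 0 := hs' ▸ hxE i0
    have hxu : B₀ x.1 u = 0 := hu' ▸ hxE i1
    have hxe : B₀ x.1 e = 0 := he' ▸ hxE i2
    have hxsu : B₀ x.1 (s + u) = 0 := by rw [QuadraticMap.polar_add_right, hxs, hxu, add_zero]
    have htri : ∀ (z : Vm) (hz : Q₀ z = 0) (hxz : B₀ x.1 z = 0), B₀ z e = 0 → z (Sum.inl (Sum.inl i2)) = 0 →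
        z ≠ 0 → ∀ f₁ f₂ : E, π f₁ = pp hS (shift x z hz hxz) x → π f₂ = pp hS (shift x e Qe hxe) x →
          ⁅f₁, f₂⁆ = ε := by
      intro z hz hxz hze hz2 hz0 f₁ f₂ hf₁ hf₂
      have hzx : B₀ z x.1 = 0 := by rw [QuadraticMap.polar_comm]; exact hxz
      have tr : Tri x (shift x z hz hxz) (shift x e Qe hxe) :=
        { pr := by simp [shift, QuadraticMap.polar_add_right, polar_self0 hS, hxz]
          py := by simp [shift, QuadraticMap.polar_add_right, polar_self0 hS, hxe]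
          ry := by
            simp [shift, QuadraticMap.polar_add_right, QuadraticMap.polar_add_left, polar_self0 hS, hxe, hze, hzx]
          ne := fun e' => hz0 (by
            have := congrArg Subtype.val e'
            simpa [shift] using this)
          out := fun e' => by
            obtain ⟨s', t', e''⟩ := Submodule.mem_span_pair.1 e'
            have := congrFun e'' (Sum.inl (Sum.inl i2))
            simp [shift, he', hx, bE, bW, hz2] at this }
      rw [hε]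
      exact comm_tri hS hc hs tr t hf₁ hf₂ h1 h2
    have g2e : g₂ = pp hS (shift x e Qe hxe) x := by
      refine Subtype.ext (act_ext fun v => ?_)
      rw [hg₂, act_pp hS (by simp [shift, QuadraticMap.polar_add_left, polar_self0 hS,
        QuadraticMap.polar_comm _ e x.1, hxe])]
      simp only [shift, QuadraticMap.polar_add_left]
      funext i
      simp only [Pi.add_apply, Pi.smul_apply, smul_eq_mul]
      linear_combination (-(B₀ x.1 v) * x.1 i) * h.two
    have g1e : g₁ = pp hS (shift x s Qs hxs) x * pp hS (shift x u Qu hxu) x *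
        pp hS (shift x (s + u) Qsu hxsu) x := by
      refine Subtype.ext (act_ext fun v => ?_)
      rw [hg₁, act_three hS rfl rfl rfl hxs hxu hsu]
    have hsplit : ∀ f f' f₂ : E, ⁅f', f₂⁆ = ε → ⁅f * f', f₂⁆ = ⁅f, f₂⁆ * ε := fun f f' f₂ e' => by
      rw [show ⁅f * f', f₂⁆ = f * ⁅f', f₂⁆ * f⁻¹ * ⁅f, f₂⁆ by simp only [commutatorElement_def]; group, e',
        (hεz f).eq, mul_inv_cancel_right, (hεz _).eq]
    have hz1 : s (Sum.inl (Sum.inl i2)) = 0 := by simp [hs', bE, h02.symm]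
    have hz2 : u (Sum.inl (Sum.inl i2)) = 0 := by simp [hu', bE, h12.symm]
    have n1 : s ≠ 0 := fun e' => by simpa [hs', bE] using congrFun e' (Sum.inl (Sum.inl i0))
    have n2 : u ≠ 0 := fun e' => by simpa [hu', bE] using congrFun e' (Sum.inl (Sum.inl i1))
    have n3 : s + u ≠ 0 := fun e' => by simpa [hs', hu', bE, h01] using congrFun e' (Sum.inl (Sum.inl i0))
    rw [Lift.comm_congr (Lift.div_mem_center hc (x := L g₁)
        (x' := L (pp hS (shift x s Qs hxs) x) * L (pp hS (shift x u Qu hxu) x) *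
          L (pp hS (shift x (s + u) Qsu hxsu) x)) (by rw [map_mul, map_mul, hL, hL, hL, hL, g1e]))
      (Lift.div_mem_center hc (x := L g₂) (x' := L g₂) rfl),
      hsplit _ _ _ (htri _ Qsu hxsu (by rw [QuadraticMap.polar_add_left, hse, hue, add_zero])
        (by rw [Pi.add_apply, hz1, hz2, add_zero]) n3 _ _ (hL _) (by rw [hL, g2e])),
      hsplit _ _ _ (htri _ Qu hxu hue hz2 n2 _ _ (hL _) (by rw [hL, g2e])),
      htri _ Qs hxs hse hz1 n1 _ _ (hL _) (by rw [hL, g2e])]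
  obtain ⟨x1, hx1⟩ : ∃ x : Sph (Q₀), x.1 = bW k 1 0 := ⟨⟨bW k 1 0, by rw [tW]; ring⟩, rfl⟩
  obtain ⟨x2, hx2⟩ : ∃ x : Sph (Q₀), x.1 = bW k 0 1 := ⟨⟨bW k 0 1, by rw [tW, hb]; ring⟩, rfl⟩
  obtain ⟨x3, hx3⟩ : ∃ x : Sph (Q₀), x.1 = bW k 1 1 :=
    ⟨⟨bW k 1 1, by rw [tW, ha, hb]; linear_combination h.two⟩, rfl⟩
  have hEx : ∀ (x : Sph (Q₀)) (c d : F), x.1 = bW k c d → ∀ i, B₀ x.1 (bE k i) = 0 := fun x c d hx i => by
    rw [hx, QuadraticMap.polar_comm, tEW]
  have hg : ∀ x : Sph (Q₀), B₀ x.1 e = 0 → ∃ g : Cfsg.Omega F ⇑(Q₀),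
      ∀ v, act g.1 v = v + (B₀ x.1 v • e + B₀ e v • x.1 + B₀ e v • e) := fun x hxe => by
    refine ⟨pp hS (shift x e Qe hxe) x, fun v => ?_⟩
    rw [act_pp hS (by simp [shift, QuadraticMap.polar_add_left, polar_self0 hS,
        QuadraticMap.polar_comm _ e x.1, hxe])]
    simp only [shift, QuadraticMap.polar_add_left]
    funext i
    simp only [Pi.add_apply, Pi.smul_apply, smul_eq_mul]
    linear_combination (B₀ x.1 v * x.1 i) * h.two
  obtain ⟨g1, hg1⟩ := hg x1 (he' ▸ hEx x1 _ _ hx1 i2)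
  obtain ⟨g2, hg2⟩ := hg x2 (he' ▸ hEx x2 _ _ hx2 i2)
  obtain ⟨g3, hg3⟩ := hg x3 (he' ▸ hEx x3 _ _ hx3 i2)
  have hxs : B₀ x1.1 s = 0 := hs' ▸ hEx x1 _ _ hx1 i0
  have hxu : B₀ x1.1 u = 0 := hu' ▸ hEx x1 _ _ hx1 i1
  obtain ⟨g0, hg0⟩ : ∃ g : Cfsg.Omega F ⇑(Q₀), ∀ v, act g.1 v = v + (B₀ u v • s + B₀ s v • u) :=
    ⟨_, act_three hS (x := x1) (xs := shift x1 s Qs hxs) (xt := shift x1 u Qu hxu)
      (xu := shift x1 (s + u) Qsu (by rw [QuadraticMap.polar_add_right, hxs, hxu, add_zero]))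
      rfl rfl rfl hxs hxu hsu⟩
  have h12 : g1 * g2 = g3 := by
    refine Subtype.ext (act_ext fun v => ?_)
    have w12 : B₀ x1.1 x2.1 = 1 := by rw [hx1, hx2, tWW, ha]; ring
    have w3 : x3.1 = x1.1 + x2.1 := by
      rw [hx1, hx2, hx3]; funext i; rcases i with i | i
      · simp [bW]
      · fin_cases i <;> simp [bW]
    have hx1e : B₀ x1.1 e = 0 := he' ▸ hEx x1 _ _ hx1 i2
    have hx2e : B₀ x2.1 e = 0 := he' ▸ hEx x2 _ _ hx2 i2
    have hex2 : B₀ e x2.1 = 0 := by rw [QuadraticMap.polar_comm]; exact hx2e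
    rw [Subgroup.coe_mul, act_mul, hg2, hg1, hg3, w3]
    simp only [QuadraticMap.polar_add_right, QuadraticMap.polar_add_left, QuadraticMap.polar_smul_right,
      smul_eq_mul, w12, hx1e, hex2, polar_self0 hS, smul_zero, mul_zero, mul_one, add_zero]
    funext i
    simp only [Pi.add_apply, Pi.smul_apply, smul_eq_mul]
    linear_combination (B₀ e v * e i) * h.two
  have k1 := key x1 1 0 hx1 g0 g1 hg0 hg1
  have k2 := key x2 0 1 hx2 g0 g2 hg0 hg2
  have k3 := key x3 1 1 hx3 g0 g3 hg0 hg3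
  have hε3 : ε * ε * ε = ε := by rw [hε2, one_mul]
  rw [hε3] at k1 k2 k3
  rw [Lift.comm_congr (Lift.div_mem_center hc (x := L g0) (x' := L g0) rfl)
      (Lift.div_mem_center hc (x := L g3) (x' := L g1 * L g2) (by rw [map_mul, hL, hL, hL, h12])),
    show ⁅L g0, L g1 * L g2⁆ = ⁅L g0, L g1⁆ * (L g1 * ⁅L g0, L g2⁆ * (L g1)⁻¹) by
      simp only [commutatorElement_def]; group,
    k1, k2, (hεz (L g1)).eq, mul_inv_cancel_right, hε2] at k3
  exact k3.symm

/-- Sections over two orthogonal stabilisers agree on the products with a common factor. -/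
theorem binary_agree {E : Type v} [Group E] {π : E →* Cfsg.Omega F ⇑(Q₀)} (hF : Fintype.card F = 2)
    (hc : π.ker ≤ Subgroup.center E) (hs : Function.Surjective π)
    {s : Sph (Q₀) → Cfsg.Omega F ⇑(Q₀) → E} (hsec : ∀ v g, g • v = v → π (s v g) = g)
    (hmul : ∀ v g g', g • v = v → g' • v = v → s v (g * g') = s v g * s v g')
    (hconj : ∀ (e : E) v g, g • v = v → e * s v g * e⁻¹ = s (π e • v) (π e * g * (π e)⁻¹))
    {p r y : Sph (Q₀)} (t : Tri p r y) :
    s p (pp (space2 h) y p) = s r (pp (space2 h) y p) := by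
  obtain ⟨ha, hb⟩ := coef_one h hF
  have hS := space2 h
  obtain ⟨tEE, tFF, tEF, tEW, tFW, tWW, tE, tF, tW⟩ := polar_table h
  obtain ⟨X, hX⟩ : ∃ X : Sph (Q₀) → Sph (Q₀) → Cfsg.Omega F ⇑(Q₀) → E,
      X = fun a b g => s b g * (s a g)⁻¹ := ⟨_, rfl⟩
  have hsplit : ∀ a b g, s b g = X a b g * s a g := fun a b g => by rw [hX]; exact (inv_mul_cancel_right _ _).symm
  have hXc : ∀ a b g, g • a = a → g • b = b → ∀ e, Commute e (X a b g) := fun a b g g1 g2 e =>
    Subgroup.mem_center_iff.1 (hc (by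
      rw [hX, MonoidHom.mem_ker, map_mul, map_inv, hsec _ _ g1, hsec _ _ g2, mul_inv_cancel])) e
  have hfix : ∀ {a b c : Sph (Q₀)}, Tri a b c →
      pp (space2 h) c a • a = a ∧ pp (space2 h) c a • b = b := fun {a b c} T =>
    ⟨pp_fix hS (by rw [QuadraticMap.polar_comm]; exact T.py) (polar_self0 hS _),
      pp_fix hS (by rw [QuadraticMap.polar_comm]; exact T.ry) T.pr⟩
  have hXT : ∀ {a b c : Sph (Q₀)}, Tri a b c → X a b (pp (space2 h) c a) = X p r (pp (space2 h) y p) := by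
    intro a b c T
    obtain ⟨γ, g1, g2, g3⟩ := tri_move hS t T
    obtain ⟨e, he⟩ := hs γ
    obtain ⟨f1, f2⟩ := hfix t
    rw [← mul_inv_cancel_right (X p r (pp (space2 h) y p)) e, ← (hXc _ _ _ f1 f2 e).eq, hX]
    simp only
    rw [show e * (s r (pp (space2 h) y p) * (s p (pp (space2 h) y p))⁻¹) * e⁻¹ =
      e * s r (pp (space2 h) y p) * e⁻¹ * (e * s p (pp (space2 h) y p) * e⁻¹)⁻¹ by group,
      hconj e r _ f2, hconj e p _ f1, he, g1, g2, pp_conj hS, g1, g3]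
  obtain ⟨δ, hδ⟩ : ∃ δ, δ = X p r (pp (space2 h) y p) := ⟨_, rfl⟩
  have hδc : ∀ e, Commute e δ := fun e => hδ ▸ hXc _ _ _ (hfix t).1 (hfix t).2 e
  have hδ2 : δ * δ = 1 := by
    obtain ⟨f1, f2⟩ := hfix t
    have e1 := hmul r _ _ f2 f2
    have e0 := hmul p _ _ f1 f1
    have hyp : B₀ y.1 p.1 = 0 := by rw [QuadraticMap.polar_comm]; exact t.py
    have hone : ∀ v, s v 1 = 1 := fun v => by
      have := hmul v 1 1 (one_smul _ v) (one_smul _ v)
      rwa [mul_one, eq_comm, mul_eq_left] at this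
    rw [pp_sq hS hyp, hone, hsplit p r, ← hδ,
      (hδc (s p (pp (space2 h) y p))).mul_mul_mul_comm, ← e0, pp_sq hS hyp, hone, mul_one] at e1
    exact e1.symm
  suffices hd : δ = 1 by
    rw [hsplit p r, ← hδ, hd, one_mul]
  obtain ⟨i0, i1, i2, h01, h02, h12⟩ : ∃ i0 i1 i2 : Fin k, i0 ≠ i1 ∧ i0 ≠ i2 ∧ i1 ≠ i2 :=
    ⟨⟨0, by have := h.k3; omega⟩, ⟨1, by have := h.k3; omega⟩, ⟨2, by have := h.k3; omega⟩, by simp, by simp,
      by simp⟩
  obtain ⟨σ, hσ⟩ : ∃ σ, σ = bE (F := F) k i0 := ⟨_, rfl⟩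
  obtain ⟨u, hu⟩ : ∃ u, u = bE (F := F) k i1 := ⟨_, rfl⟩
  have Qσ : Q₀ σ = 0 := hσ ▸ tE i0
  have Qu : Q₀ u = 0 := hu ▸ tE i1
  have hσu : B₀ σ u = 0 := by rw [hσ, hu, tEE]
  have Qσu : Q₀ (σ + u) = 0 := by rw [QuadraticMap.map_add (Q₀), Qσ, Qu, hσu, add_zero, add_zero]
  have edge : ∀ (x z : Sph (Q₀)), B₀ x.1 σ = 0 → B₀ x.1 u = 0 → B₀ z.1 σ = 0 → B₀ z.1 u = 0 →
      B₀ x.1 z.1 = 0 → (∃ j, σ j = 0 ∧ u j = 0 ∧ z.1 j ≠ x.1 j) → ∀ g : Cfsg.Omega F ⇑(Q₀),
      (∀ v, act g.1 v = v + (B₀ u v • σ + B₀ σ v • u)) → s z g = δ * s x g := by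
    intro x z xσ xu zσ zu xz hj g hg
    obtain ⟨j, jσ, ju, jne⟩ := hj
    have xσu : B₀ x.1 (σ + u) = 0 := by rw [QuadraticMap.polar_add_right, xσ, xu, add_zero]
    have zσu : B₀ z.1 (σ + u) = 0 := by rw [QuadraticMap.polar_add_right, zσ, zu, add_zero]
    have hT : ∀ (w : Vm) (hw : Q₀ w = 0) (hxw : B₀ x.1 w = 0), B₀ z.1 w = 0 → w j = 0 → w ≠ 0 →
        Tri x z (shift x w hw hxw) := fun w hw hxw hzw wj w0 =>
      { pr := xz
        py := by simp [shift, QuadraticMap.polar_add_right, polar_self0 hS, hxw]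
        ry := by
          simp [shift, QuadraticMap.polar_add_right, hzw, QuadraticMap.polar_comm _ z.1 x.1, xz]
        ne := fun e' => jne (by rw [e'])
        out := fun e' => by
          obtain ⟨c, d, e''⟩ := Submodule.mem_span_pair.1 e'
          have ej := congrFun e'' j
          simp only [shift, Pi.add_apply, Pi.smul_apply, smul_eq_mul, wj, add_zero] at ej e''
          rcases SimpleFacts.SpMult.Binary.zero_or_one hF c with hc0 | hc0 <;>
            rcases SimpleFacts.SpMult.Binary.zero_or_one hF d with hd0 | hd0 <;>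
            subst hc0 hd0 <;> simp only [zero_smul, one_smul, zero_add, add_zero] at e''
          · have hq := x.2
            have e3 : x.1 = -w := eq_neg_of_add_eq_zero_left e''.symm
            rw [e3, QuadraticMap.map_neg, hw] at hq
            exact zero_ne_one hq
          · rw [zero_mul, one_mul, zero_add] at ej
            exact jne ej
          · exact w0 (left_eq_add.1 e'')
          · have e3 : z.1 = w := add_left_cancel e''
            have hq := z.2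
            rw [e3, hw] at hq
            exact zero_ne_one hq }
    have hσ0 : σ ≠ 0 := fun e' => by simpa [hσ, bE] using congrFun e' (Sum.inl (Sum.inl i0))
    have hu0 : u ≠ 0 := fun e' => by simpa [hu, bE] using congrFun e' (Sum.inl (Sum.inl i1))
    have hσu0 : σ + u ≠ 0 := fun e' => by simpa [hσ, hu, bE, h01] using congrFun e' (Sum.inl (Sum.inl i0))
    have T1 := hT σ Qσ xσ zσ jσ hσ0
    have T2 := hT u Qu xu zu ju hu0
    have T3 := hT (σ + u) Qσu xσu zσu (by rw [Pi.add_apply, jσ, ju, add_zero]) hσu0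
    have hgeq : g = pp (space2 h) (shift x σ Qσ xσ) x * pp (space2 h) (shift x u Qu xu) x *
        pp (space2 h) (shift x (σ + u) Qσu xσu) x :=
      Subtype.ext (act_ext fun v => by rw [hg, act_three hS rfl rfl rfl xσ xu hσu])
    obtain ⟨a1, b1⟩ := hfix T1
    obtain ⟨a2, b2⟩ := hfix T2
    obtain ⟨a3, b3⟩ := hfix T3
    rw [hgeq, hmul z _ _ (by rw [mul_smul, b2, b1]) b3, hmul z _ _ b1 b2, hmul x _ _ (by rw [mul_smul, a2, a1]) a3,
      hmul x _ _ a1 a2, hsplit x z, hsplit x z, hsplit x z, hXT T1, hXT T2, hXT T3, ← hδ]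
    generalize s x (pp (space2 h) (shift x σ Qσ xσ) x) = A
    generalize s x (pp (space2 h) (shift x u Qu xu) x) = B
    generalize s x (pp (space2 h) (shift x (σ + u) Qσu xσu) x) = C
    calc δ * A * (δ * B) * (δ * C) = δ * δ * (A * B) * (δ * C) := by
          rw [(hδc A).mul_mul_mul_comm]
      _ = δ * (A * B * C) := by
          rw [hδ2, one_mul, ← mul_assoc, (hδc (A * B)).eq]
          simp only [mul_assoc]
  have tWE : ∀ c d i, B₀ (bW k c d) (bE k i) = 0 := fun c d i => by rw [QuadraticMap.polar_comm, tEW]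
  have tWF : ∀ c d i, B₀ (bW k c d) (bF k i) = 0 := fun c d i => by rw [QuadraticMap.polar_comm, tFW]
  have tFE : ∀ i j : Fin k, B₀ (bF k i) (bE k j) = if j = i then 1 else 0 := fun i j => by
    rw [QuadraticMap.polar_comm, tEF]
  obtain ⟨v1, hv1⟩ : ∃ v : Sph (Q₀), v.1 = bW k 1 0 := ⟨⟨bW k 1 0, by rw [tW]; ring⟩, rfl⟩
  obtain ⟨v2, hv2⟩ : ∃ v : Sph (Q₀), v.1 = bE k i2 + bW k 1 0 :=
    ⟨⟨bE k i2 + bW k 1 0, by rw [QuadraticMap.map_add (Q₀), tE, tW, tEW]; ring⟩, rfl⟩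
  obtain ⟨v3, hv3⟩ : ∃ v : Sph (Q₀), v.1 = bF k i2 + bW k 0 1 :=
    ⟨⟨bF k i2 + bW k 0 1, by rw [QuadraticMap.map_add (Q₀), tF, tW, tFW, hb]; ring⟩, rfl⟩
  obtain ⟨v4, hv4⟩ : ∃ v : Sph (Q₀), v.1 = bW k 0 1 := ⟨⟨bW k 0 1, by rw [tW, hb]; ring⟩, rfl⟩
  obtain ⟨v5, hv5⟩ : ∃ v : Sph (Q₀), v.1 = bE k i2 + bF k i2 :=
    ⟨⟨bE k i2 + bF k i2, by rw [QuadraticMap.map_add (Q₀), tE, tF, tEF, if_pos rfl]; ring⟩, rfl⟩
  have hperp : ∀ v ∈ [v1, v2, v3, v4, v5], B₀ v.1 σ = 0 ∧ B₀ v.1 u = 0 := by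
    intro v hv
    simp only [List.mem_cons, List.not_mem_nil, or_false] at hv
    rcases hv with rfl | rfl | rfl | rfl | rfl <;>
      simp [hv1, hv2, hv3, hv4, hv5, hσ, hu, QuadraticMap.polar_add_left, tWE, tEE, tFE, h02, h12]
  obtain ⟨xσ, xu⟩ := hperp v1 (by simp)
  obtain ⟨g, hg⟩ : ∃ g : Cfsg.Omega F ⇑(Q₀), ∀ v, act g.1 v = v + (B₀ u v • σ + B₀ σ v • u) :=
    ⟨_, act_three hS (x := v1) (xs := shift v1 σ Qσ xσ) (xt := shift v1 u Qu xu)
      (xu := shift v1 (σ + u) Qσu (by rw [QuadraticMap.polar_add_right, xσ, xu, add_zero]))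
      rfl rfl rfl xσ xu hσu⟩
  have step : ∀ x z, x ∈ [v1, v2, v3, v4, v5] → z ∈ [v1, v2, v3, v4, v5] → B₀ x.1 z.1 = 0 →
      (∃ j, σ j = 0 ∧ u j = 0 ∧ z.1 j ≠ x.1 j) → s z g = δ * s x g := fun x z hx hz hb hj =>
    edge x z (hperp x hx).1 (hperp x hx).2 (hperp z hz).1 (hperp z hz).2 hb hj g hg
  have cE : σ (Sum.inl (Sum.inl i2)) = 0 ∧ u (Sum.inl (Sum.inl i2)) = 0 := by
    simp [hσ, hu, bE, h02.symm, h12.symm]
  have cF : σ (Sum.inl (Sum.inr i2)) = 0 ∧ u (Sum.inl (Sum.inr i2)) = 0 := by simp [hσ, hu, bE]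
  have h0 : (2 : F) = 0 := h.two
  have s12 := step v1 v2 (by simp) (by simp)
    (by rw [hv1, hv2, QuadraticMap.polar_add_right, tWE, tWW]; ring)
    ⟨_, cE.1, cE.2, by simp [hv1, hv2, bE, bW]⟩
  have s23 := step v2 v3 (by simp) (by simp)
    (by
      rw [hv2, hv3, QuadraticMap.polar_add_left, QuadraticMap.polar_add_right, QuadraticMap.polar_add_right,
        tEF, if_pos rfl, tEW, tWF, tWW, ha]
      linear_combination h0)
    ⟨_, cE.1, cE.2, by simp [hv2, hv3, bE, bF, bW]⟩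
  have s34 := step v3 v4 (by simp) (by simp)
    (by rw [hv3, hv4, QuadraticMap.polar_add_left, tFW, tWW]; ring)
    ⟨_, cF.1, cF.2, by simp [hv3, hv4, bF, bW]⟩
  have s45 := step v4 v5 (by simp) (by simp)
    (by rw [hv4, hv5, QuadraticMap.polar_add_right, tWE, tWF, add_zero])
    ⟨_, cE.1, cE.2, by simp [hv4, hv5, bE, bF, bW]⟩
  have s51 := step v5 v1 (by simp) (by simp)
    (by rw [hv1, hv5, QuadraticMap.polar_add_left, tEW, tFW, add_zero])
    ⟨_, cE.1, cE.2, by simp [hv1, hv5, bE, bF, bW]⟩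
  rw [s45, s34, s23, s12] at s51
  simp only [← mul_assoc, hδ2, one_mul] at s51
  exact right_eq_mul.1 s51

end Binary

end Cfsg.Agent.OrthMult.Even
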