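import Cfsg.Agent.Lib.OrthMult.EvenBinary
import Cfsg.Agent.Lib.OrthMult.Sections
import Cfsg.Agent.Lib.PlusMult.Main
import Cfsg.Agent.Lib.PlusMult.Final
import Cfsg.Agent.Lib.Sp6Mult.Upper
import Cfsg.Agent.SimpleFacts.SpMult.Main

/-!
The Schur multiplier of `Ω` of minus type in characteristic two is trivial.
-/

set_option autoImplicit false
set_option linter.unusedSectionVars false
set_option linter.unusedSimpArgs false

open scoped commutatorElement

namespace Cfsg.Agent.OrthMult.Even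

open Matrix
open Cfsg.Agent.Forms Cfsg.Agent.Forms.QuadStd Cfsg.Agent.Forms.Reflections Cfsg.Agent.Forms.PlusStd
  Cfsg.Agent.Classical.Orth Cfsg.Agent.Classical.OrthForms Cfsg.Agent.Classical.OmegaCrit
  Cfsg.Agent.Forms.SympStd Cfsg.Agent.Classical.Symplectic Cfsg.Agent.SimpleFacts.SpMult.Levels Module PlusMult

universe u v

section Gen

variable {F : Type u} [Field F] {k : ℕ}

local notation "Pv" => (Fin k ⊕ Fin k → F)
local notation "Mat" => Matrix (Fin k ⊕ Fin k) (Fin k ⊕ Fin k) F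
local notation "sf" => Cfsg.sympForm k F

/-- The stabiliser of a vector is generated by transvections off the line. -/
theorem stab_gen (hk : 3 ≤ k) {e : Pv} (he : e ≠ 0) {N : Subgroup (symplecticGroup (Fin k) F)}
    (hN : ∀ v c, sf e v = 0 → (∀ l : F, v ≠ l • e) → tv v c ∈ N) {A : symplecticGroup (Fin k) F}
    (hA : (A : Mat) *ᵥ e = e) : A ∈ N := by
  obtain ⟨h, hh⟩ := exists_partner he
  have P : Pair (∅ : Set Pv) e h := ⟨mem_perp_empty _, mem_perp_empty _, hh⟩
  have hG : Good (next (∅ : Set Pv) e h) := good_next good_empty P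
  have hoff : ∀ v ∈ perp (next (∅ : Set Pv) e h), v ≠ 0 → ∀ m l : F, v + m • e ≠ l • e := by
    intro v hv hv0 m l e'
    have e2 : v = (l - m) • e := by rw [sub_smul, ← e', add_sub_cancel_right]
    have h3 := (mem_next.1 hv).2.2
    rw [e2, f_smul_right, P.hhe, mul_neg, mul_one, neg_eq_zero] at h3
    exact hv0 (by rw [e2, h3, zero_smul])
  have hperp : ∀ v ∈ perp (next (∅ : Set Pv) e h), sf e v = 0 := fun v hv => (mem_next.1 hv).2.1
  obtain ⟨b, hb, hb0⟩ : ∃ b ∈ perp (next (∅ : Set Pv) e h), b ≠ 0 := by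
    have hdim : finrank F (Fin 2 → F) < finrank F Pv := by simp; omega
    obtain ⟨b, hb, hb0⟩ := Submodule.exists_mem_ne_zero_of_ne_bot
      (LinearMap.ker_ne_bot_of_finrank_lt (f := LinearMap.pi ![sympB k F e, sympB k F h]) hdim)
    refine ⟨b, mem_next.2 ⟨mem_perp_empty _, ?_, ?_⟩, hb0⟩
    · rw [← sympB_apply]; exact congrFun (LinearMap.mem_ker.1 hb) 0
    · rw [← sympB_apply]; exact congrFun (LinearMap.mem_ker.1 hb) 1
  obtain ⟨w, hw, hbw⟩ := hG b hb hb0
  obtain ⟨d, hd, hd0, hbd, hwd⟩ : ∃ d ∈ perp (next (∅ : Set Pv) e h), d ≠ 0 ∧ sf b d = 0 ∧ sf w d = 0 := by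
    have hdim : finrank F (Fin 4 → F) < finrank F Pv := by simp; omega
    obtain ⟨d, hd, hd0⟩ := Submodule.exists_mem_ne_zero_of_ne_bot
      (LinearMap.ker_ne_bot_of_finrank_lt
        (f := LinearMap.pi ![sympB k F e, sympB k F h, sympB k F b, sympB k F w]) hdim)
    have hc := congrFun (LinearMap.mem_ker.1 hd)
    exact ⟨d, mem_next.2 ⟨mem_perp_empty _, (sympB_apply e d).symm.trans (hc 0),
      (sympB_apply h d).symm.trans (hc 1)⟩, hd0, (sympB_apply b d).symm.trans (hc 2),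
      (sympB_apply w d).symm.trans (hc 3)⟩
  have hbd' : b + d ≠ 0 := fun e' => by
    have h1 := congrArg (sf w) e'
    rw [f_add_right, hwd, add_zero, f_zero_right, sympForm_swap, hbw] at h1
    exact neg_ne_zero.2 one_ne_zero h1
  have hmemv : ∀ v ∈ perp (next (∅ : Set Pv) e h), v ≠ 0 → ∀ c, tv v c ∈ N := fun v hv hv0 c =>
    hN v c (hperp v hv) fun l e' => hoff v hv hv0 0 l (by rw [zero_smul, add_zero, e'])
  have hmeme : ∀ v ∈ perp (next (∅ : Set Pv) e h), v ≠ 0 → ∀ c, tv (e + v) c ∈ N := fun v hv hv0 c =>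
    hN (e + v) c (by rw [f_add_right, sympForm_self, hperp v hv, add_zero]) fun l e' =>
      hoff v hv hv0 1 l (by rw [one_smul, add_comm]; exact e')
  have hte : ∀ c, tv e c ∈ N := fun c => by
    have key := tv_three e b d (hperp b hb) (hperp d hd) hbd c
    have e1 : tv e c = (tv (e + b + d) c)⁻¹ * (tv (e + b) c * tv (e + d) c * tv (b + d) c) *
        (tv d c)⁻¹ * (tv b c)⁻¹ := by rw [← key]; group
    rw [e1]
    exact N.mul_mem (N.mul_mem (N.mul_mem (N.inv_mem (by rw [add_assoc]; exact hmeme _ (add_mem hb hd) hbd' c))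
      (N.mul_mem (N.mul_mem (hmeme b hb hb0 c) (hmeme d hd hd0 c)) (hmemv _ (add_mem hb hd) hbd' c)))
      (N.inv_mem (hmemv d hd hd0 c))) (N.inv_mem (hmemv b hb hb0 c))
  obtain ⟨r, hr, t, l, hl, rfl⟩ := stab_decomp P (mem_fixer_empty A) hA
  refine N.mul_mem ?_ ?_
  · by_cases hr0 : r = 0
    · rw [hr0, SimpleFacts.SpMult.Common.un_zero_eq_tv]
      exact hte t
    · exact N.mul_mem (N.mul_mem (hmeme r hr hr0 _) (hmemv r hr hr0 _)) (hte _)
  · rw [fixer_eq hG] at hl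
    refine (Subgroup.closure_le _).2 ?_ hl
    rintro _ ⟨v, c, hv, hv'⟩
    rw [show _ = tv v c from Subtype.ext hv']
    by_cases hv0 : v = 0
    · rw [hv0, show tv (0 : Pv) c = 1 from sp_ext fun x => by
        rw [tv_mulVec]; simp]
      exact N.one_mem
    · exact hmemv v hv hv0 c

end Gen

variable {F : Type u} [Field F] [Fintype F] {k : ℕ} {a b : F}

local notation "Q₀" => minQ F k a b
local notation "Pv" => (Fin k ⊕ Fin k → F)
local notation "Vm" => ((Fin k ⊕ Fin k) ⊕ Fin 2 → F)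
local notation "e₀" => (Pi.single (Sum.inr (0 : Fin 2)) (1 : F) : (Fin k ⊕ Fin k) ⊕ Fin 2 → F)
local notation "Mat" => Matrix (Fin k ⊕ Fin k) (Fin k ⊕ Fin k) F

variable (h : Min2 k a b)
include h

/-- The vectors orthogonal to the base vector. -/
theorem adj_coords {v₀ v : Sph (Q₀)} (hv₀ : v₀.1 = e₀) (hv : Adj v₀ v) :
    v.1 (Sum.inr 1) = 0 ∧ v.1 ∘ Sum.inl ≠ 0 := by
  have h1 := hv.1
  rw [hv₀, polar_v0 h, mul_eq_zero] at h1
  have h1 := h1.resolve_left (a_ne h)
  refine ⟨h1, fun e => hv.2 (Subtype.ext ?_)⟩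
  have hq := v.2
  rw [polar_inl_decomp h v.1 h1, Q_decomp, e, QuadraticMap.map_zero, zero_add] at hq
  have ht : v.1 (Sum.inr 0) = 1 := by
    rcases mul_self_eq_one_iff.1 hq with e1 | e1
    · exact e1
    · rw [e1, neg_self (space2 h)]
  rw [hv₀, polar_inl_decomp h v.1 h1, e, ht, one_smul]
  funext i
  rcases i with i | i <;> simp

theorem fix_iff {v₀ v : Sph (Q₀)} (hv₀ : v₀.1 = e₀) (hv : Adj v₀ v)
    {g : Cfsg.Omega F ⇑(Q₀)} (hg : g • v₀ = v₀) : g • v = v ↔ bar g.1 (v.1 ∘ Sum.inl) = v.1 ∘ Sum.inl := by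
  obtain ⟨h1, -⟩ := adj_coords h hv₀ hv
  have hg' : act g.1 e₀ = e₀ := by rw [← hv₀]; exact smul_eq_iff.1 hg
  obtain ⟨t, ht⟩ := act_decomp h hg' (v.1 ∘ Sum.inl)
  have e1 : act g.1 v.1 = Sum.elim (bar g.1 (v.1 ∘ Sum.inl)) 0 + (t + v.1 (Sum.inr 0)) • e₀ := by
    conv_lhs => rw [polar_inl_decomp h v.1 h1]
    rw [map_add, map_smul, hg', ht, add_smul, add_assoc]
  rw [smul_eq_iff, e1]
  constructor
  · intro e
    funext i
    simpa using congrFun e (Sum.inl i)
  · intro e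
    have hq := act_map g.1 v.1
    rw [e1, e] at hq
    conv_rhs at hq => rw [polar_inl_decomp h v.1 h1]
    rw [Q_decomp, Q_decomp, add_right_inj, mul_self_eq_mul_self_iff, neg_self (space2 h), or_self] at hq
    rw [e, hq, ← polar_inl_decomp h v.1 h1]

/-- Sections over the stabilisers of orthogonal vectors agree. -/
theorem agree_base {E : Type v} [Group E] {π : E →* Cfsg.Omega F ⇑(Q₀)} (hc : π.ker ≤ Subgroup.center E)
    (hs : Function.Surjective π) {s : Sph (Q₀) → Cfsg.Omega F ⇑(Q₀) → E}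
    (hsec : ∀ v g, g • v = v → π (s v g) = g)
    (hmul : ∀ v g g', g • v = v → g' • v = v → s v (g * g') = s v g * s v g')
    (hconj : ∀ (e : E) v g, g • v = v → e * s v g * e⁻¹ = s (π e • v) (π e * g * (π e)⁻¹))
    {v₀ v : Sph (Q₀)} (hv₀ : v₀.1 = e₀) (hv : Adj v₀ v) {g : Cfsg.Omega F ⇑(Q₀)}
    (g0 : g • v₀ = v₀) (g1 : g • v = v) : s v₀ g = s v g := by
  have hS := space2 h
  obtain ⟨τ, hτ⟩ := exists_iso h v₀ hv₀
  obtain ⟨w, hw⟩ : ∃ w : Pv, w = v.1 ∘ Sum.inl := ⟨_, rfl⟩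
  have hw0 : w ≠ 0 := hw ▸ (adj_coords h hv₀ hv).2
  obtain ⟨K, hK⟩ : ∃ K, K = MulAction.stabilizer (Cfsg.Omega F ⇑(Q₀)) v₀ ⊓
      MulAction.stabilizer (Cfsg.Omega F ⇑(Q₀)) v := ⟨_, rfl⟩
  have hKv : ∀ x : K, x.1 • v₀ = v₀ ∧ x.1 • v = v := fun x => by
    have := hK.le x.2
    exact ⟨this.1, this.2⟩
  let f₁ : K →* E := MonoidHom.mk' (fun x => s v₀ x.1) fun x y => hmul v₀ x.1 y.1 (hKv x).1 (hKv y).1
  let f₂ : K →* E := MonoidHom.mk' (fun x => s v x.1) fun x y => hmul v x.1 y.1 (hKv x).2 (hKv y).2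
  let ι : K →* symplecticGroup (Fin k) F :=
    τ.toMonoidHom.comp (K.subtype.codRestrict _ fun x => (hKv x).1)
  have hι : Function.Injective ι := fun x y e => Subtype.ext (congrArg (fun z => z.1) (τ.injective e))
  have hrange : ∀ A : symplecticGroup (Fin k) F, (A : Mat) *ᵥ w = w → ∃ x : K, ι x = A := fun A hA => by
    have h0 : (τ.symm A).1 • v₀ = v₀ := (τ.symm A).2
    have h1 : (τ.symm A).1 • v = v := (fix_iff h hv₀ hv h0).2 (by
      rw [← hw, ← hτ, τ.apply_symm_apply, hA])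
    exact ⟨⟨(τ.symm A).1, hK ▸ ⟨h0, h1⟩⟩, τ.apply_symm_apply A⟩
  suffices hall : ∀ A : symplecticGroup (Fin k) F, (A : Mat) *ᵥ w = w → A ∈ (f₁.eqLocus f₂).map ι by
    obtain ⟨x, hx, e⟩ := hall (τ ⟨g, g0⟩) (by rw [hτ, hw]; exact (fix_iff h hv₀ hv g0).1 g1)
    have : x = ⟨g, hK ▸ ⟨g0, g1⟩⟩ := hι e
    subst this
    exact hx
  intro A hA
  refine stab_gen h.k3 hw0 (fun u c hu hout => ?_) hA
  have htfix : ∀ d : F, (tv u d : Mat) *ᵥ w = w := fun d => by
    rw [tv_mulVec, hu, mul_zero, zero_smul, add_zero]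
  by_cases hF : Fintype.card F = 2
  · rcases SimpleFacts.SpMult.Binary.zero_or_one hF c with rfl | rfl
    · rw [tv_zero]; exact one_mem _
    obtain ⟨z, z1, z2, z3⟩ := exists_over h u 1
    obtain ⟨p1, p2, p3⟩ := bar_pair h z2 (by rw [z3]; exact one_ne_zero)
    obtain ⟨x, hx⟩ := hrange _ (htfix 1)
    refine ⟨x, ?_, hx⟩
    obtain ⟨y, hy⟩ : ∃ y : Sph (Q₀), y.1 = z := ⟨⟨z, z3⟩, rfl⟩
    have hpo : x.1 = pp (space2 h) y v₀ := by
      have e0 : pp (space2 h) y v₀ • v₀ = v₀ := smul_eq_iff.2 (by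
        show act (reflect (Q₀) y.1 * reflect (Q₀) v₀.1) v₀.1 = v₀.1
        rw [hy, hv₀]; exact p1)
      have e1 : τ ⟨pp (space2 h) y v₀, e0⟩ = ι x := by
        rw [hx]
        refine sp_ext fun r => ?_
        rw [hτ, tv_mulVec]
        show bar (reflect (Q₀) y.1 * reflect (Q₀) v₀.1) r = _
        rw [hy, hv₀, p3, z3, z1, inv_one]
      exact (congrArg (fun q => q.1) (τ.injective e1)).symm
    have T : Tri v₀ v y :=
      { pr := hv.1
        py := by rw [hy, hv₀, polar_v0 h, z2, mul_zero]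
        ry := by
          rw [hy, minQ_polar, (adj_coords h hv₀ hv).1, z2, z1, ← hw, ← sympForm_plus h, hu, h.two]
          ring
        ne := hv.2
        out := fun e => by
          obtain ⟨c1, c2, e'⟩ := Submodule.mem_span_pair.1 e
          refine hout c2 ?_
          rw [← z1, ← hy, ← e', hw, hv₀]
          funext i
          simp }
    show s v₀ x.1 = s v x.1
    rw [hpo]
    exact binary_agree h hF hc hs hsec hmul hconj T
  · have : CharP F 2 := CharTwo.of_one_ne_zero_of_two_eq_zero one_ne_zero h.two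
    obtain ⟨l, hl0, hl1⟩ : ∃ l : F, l ≠ 0 ∧ l ≠ 1 := by
      classical
      by_contra hall
      push Not at hall
      have hsub : (Finset.univ : Finset F) ⊆ {0, 1} := fun z _ => by
        rw [Finset.mem_insert, Finset.mem_singleton]
        exact or_iff_not_imp_left.2 (hall z)
      have := (Finset.card_le_card hsub).trans Finset.card_le_two
      rw [Finset.card_univ] at this
      have := Fintype.one_lt_card (α := F)
      omega
    have hl2 : l * l - 1 ≠ 0 := fun e => by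
      rcases mul_self_eq_one_iff.1 (sub_eq_zero.1 e) with e1 | e1
      · exact hl1 e1
      · exact hl1 (by rw [e1, CharTwo.neg_eq])
    have hind : ∀ {x : Pv}, (∀ r : F, x ≠ r • w) → LinearIndependent F ![w, x] := fun {x} hx => by
      rw [LinearIndependent.pair_iff]
      intro p q e
      by_cases hq : q = 0
      · rw [hq, zero_smul, add_zero, smul_eq_zero] at e
        exact ⟨e.resolve_right hw0, hq⟩
      · refine absurd ?_ (hx (-(q⁻¹ * p)))
        rw [neg_smul, mul_smul, eq_neg_of_add_eq_zero_left e, smul_neg, neg_neg, smul_smul,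
          inv_mul_cancel₀ hq, one_smul]
    obtain ⟨L, hL1, hL2⟩ := exists_map_pair (hind hout) (hind (x := l • u) fun r e => hout (l⁻¹ * r) (by
        rw [mul_smul, ← e, smul_smul, inv_mul_cancel₀ hl0, one_smul]))
      (show Cfsg.sympForm k F w u = Cfsg.sympForm k F w (l • u) by rw [f_smul_right, hu, mul_zero])
    obtain ⟨d, hd⟩ : ∃ d, d = c / (l * l - 1) := ⟨_, rfl⟩
    obtain ⟨x, hx⟩ := hrange L hL1
    obtain ⟨y, hy⟩ := hrange _ (htfix d)
    refine ⟨⁅x, y⁆, ?_, ?_⟩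
    · exact Lift.agree hc (f := f₁) (f' := f₂)
        (show π (s v₀ x.1) = π (s v x.1) by rw [hsec _ _ (hKv x).1, hsec _ _ (hKv x).2])
        (show π (s v₀ y.1) = π (s v y.1) by rw [hsec _ _ (hKv y).1, hsec _ _ (hKv y).2])
    · rw [map_commutatorElement, hx, hy, commutatorElement_def, tv_conj, hL2, tv_smul,
        inv_eq_of_mul_eq_one_right (show tv u d * tv u (-d) = 1 by rw [tv_mul, add_neg_cancel, tv_zero]), tv_mul,
        show l * l * d + -d = c by rw [hd, ← sub_eq_add_neg, ← sub_one_mul, mul_div_cancel₀ _ hl2]]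

/-- Lifts of orthogonal transvections commute, so the extension over the stabiliser is trivial. -/
theorem stab_ker {E : Type u} [Group E] [Finite E] {π : E →* Cfsg.Omega F ⇑(Q₀)} (hc : π.ker ≤ Subgroup.center E)
    (hs : Function.Surjective π) {v₀ : Sph (Q₀)} (hv₀ : v₀.1 = e₀) {D : Subgroup E}
    (τ : MulAction.stabilizer (Cfsg.Omega F ⇑(Q₀)) v₀ ≃* symplecticGroup (Fin k) F)
    (hτ : ∀ g x, ((τ g : symplecticGroup (Fin k) F) : Mat) *ᵥ x = bar g.1.1 x)
    (p : D →* MulAction.stabilizer (Cfsg.Omega F ⇑(Q₀)) v₀) (hp : ∀ x, (p x).1 = π x.1)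
    (hst : Cfsg.IsStemExtension (τ.toMonoidHom.comp p)) : p.ker = ⊥ := by
  classical
  have hker : (τ.toMonoidHom.comp p).ker = p.ker := by
    ext x; simp [MonoidHom.mem_ker]
  rw [← hker]
  by_cases hq : Fintype.card F = 2 → 4 ≤ k
  · exact SimpleFacts.SpMult.Main.ker_bot _ hst (by have := h.k3; omega) hq
  push Not at hq
  obtain ⟨hF, hk⟩ := hq
  obtain rfl : k = 3 := by have := h.k3; omega
  have hZ : Subgroup.center (symplecticGroup (Fin 3) F) = ⊥ := Subgroup.card_eq_one.1 (by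
    rw [natCard_center (by norm_num), hF]; rfl)
  obtain ⟨q, hqd⟩ : ∃ q : symplecticGroup (Fin 3) F →* Cfsg.PSp 3 F,
      q = QuotientGroup.mk' (Subgroup.center (symplecticGroup (Fin 3) F)) := ⟨_, rfl⟩
  have hqi : Function.Injective q := by
    rw [← MonoidHom.ker_eq_bot_iff, hqd, QuotientGroup.ker_mk', hZ]
  have hqs : Function.Surjective q := hqd ▸ QuotientGroup.mk'_surjective _
  obtain ⟨σ, hσ⟩ : ∃ σ, σ = τ.toMonoidHom.comp p := ⟨_, rfl⟩
  rw [← hσ] at hst ⊢
  have hk' : (q.comp σ).ker = σ.ker := by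
    ext x
    rw [MonoidHom.mem_ker, MonoidHom.comp_apply, MonoidHom.mem_ker, map_eq_one_iff q hqi]
  obtain ⟨h1, h2, h3⟩ := hst
  obtain ⟨ε, -, -, hall, u, w, g, g', hab, hg, hg', hε⟩ :=
    Sp6Mult.exists_gen' hF (σ := q.comp σ) ⟨hqs.comp h1, hk'.symm ▸ h2, hk'.symm ▸ h3⟩
  suffices hε1 : ε = 1 by
    rw [eq_bot_iff]
    intro z hz
    have := hall z (hk'.symm ▸ hz)
    rwa [hε1, Subgroup.zpowers_one_eq_bot] at this
  rw [← hε, commutatorElement_eq_one_iff_commute]
  have hσg : σ g = tv u 1 := hqi (by rw [hqd] at hg ⊢; exact hg)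
  have hσg' : σ g' = tv w 1 := hqi (by rw [hqd] at hg' ⊢; exact hg')
  have htriv : ∀ {x : D} (y : D), σ x = 1 → Commute y x := fun {x} y e =>
    Subgroup.mem_center_iff.1 (h2 e) y
  have ht0 : tv (0 : Fin 3 ⊕ Fin 3 → F) (1 : F) = 1 := sp_ext fun x => by
    rw [tv_mulVec]; simp
  by_cases hu0 : u = 0
  · exact (htriv g' (by rw [hσg, hu0, ht0])).symm
  by_cases hw0 : w = 0
  · exact htriv g (by rw [hσg', hw0, ht0])
  by_cases huw : w = u
  · have := htriv g (x := g⁻¹ * g') (by rw [map_mul, map_inv, hσg, hσg', huw, inv_mul_cancel])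
    simpa using (Commute.refl g).mul_right this
  obtain ⟨zu, u1, u2, u3⟩ := exists_over h u 1
  obtain ⟨zw, w1, w2, w3⟩ := exists_over h w 1
  obtain ⟨yu, hyu⟩ : ∃ y : Sph (minQ F 3 a b), y.1 = zu := ⟨⟨zu, u3⟩, rfl⟩
  obtain ⟨yw, hyw⟩ : ∃ y : Sph (minQ F 3 a b), y.1 = zw := ⟨⟨zw, w3⟩, rfl⟩
  have hpi : ∀ {x : D} {z : Fin 3 ⊕ Fin 3 → F} {y : Sph (minQ F 3 a b)}, σ x = tv z 1 →
      y.1 ∘ Sum.inl = z → y.1 (Sum.inr 1) = 0 → π x.1 = pp (space2 h) y v₀ := by
    intro x z y hx hyz hy2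
    obtain ⟨p1, p2, p3⟩ := bar_pair h hy2 (by rw [y.2]; exact one_ne_zero)
    have e0 : pp (space2 h) y v₀ • v₀ = v₀ := smul_eq_iff.2 (by
      show act (reflect (minQ F 3 a b) y.1 * reflect (minQ F 3 a b) v₀.1) v₀.1 = v₀.1
      rw [hv₀]; exact p1)
    have e1 : τ ⟨pp (space2 h) y v₀, e0⟩ = σ x := by
      rw [hx]
      refine sp_ext fun r => ?_
      rw [hτ, tv_mulVec]
      show bar (reflect (minQ F 3 a b) y.1 * reflect (minQ F 3 a b) v₀.1) r = _
      rw [hv₀, p3, y.2, hyz, inv_one]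
    rw [← hp]
    exact (congrArg (fun q => q.1) (τ.injective (e1.trans (congrArg (fun f => f x) hσ)))).symm
  have T : Tri v₀ yu yw :=
    { pr := by rw [hyu, hv₀, polar_v0 h, u2, mul_zero]
      py := by rw [hyw, hv₀, polar_v0 h, w2, mul_zero]
      ry := by
        rw [hyu, hyw, minQ_polar, u2, w2, u1, w1, ← sympForm_plus h, hab, h.two]
        ring
      ne := fun e => hu0 (by
        rw [← u1, ← hyu, ← e, hv₀]
        funext i; simp)
      out := fun e => by
        obtain ⟨c1, c2, e'⟩ := Submodule.mem_span_pair.1 e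
        have e2 : w = c2 • u := by
          rw [← w1, ← hyw, ← e', ← u1, ← hyu, hv₀]
          funext i; simp
        rcases SimpleFacts.SpMult.Binary.zero_or_one hF c2 with rfl | rfl
        · exact hw0 (by rw [e2, zero_smul])
        · exact huw (by rw [e2, one_smul]) }
  refine Subtype.ext ?_
  have := binary_commute h hF hc hs T (hpi hσg (hyu ▸ u1) (hyu ▸ u2)) (hpi hσg' (hyw ▸ w1) (hyw ▸ w2))
  exact commutatorElement_eq_one_iff_commute.1 this

/-- Perfect central extensions are trivial. -/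
theorem ker_trivial_even {E : Type u} [Group E] [Finite E] (π : E →* Cfsg.Omega F ⇑(Q₀))
    (hs : Function.Surjective π) (hc : π.ker ≤ Subgroup.center E) (hperf : commutator E = ⊤) : π.ker = ⊥ := by
  classical
  have hS := space2 h
  obtain ⟨v₀, hv₀⟩ : ∃ v₀ : Sph (Q₀), v₀.1 = e₀ := ⟨⟨e₀, Q_v0 h⟩, rfl⟩
  obtain ⟨τ, hτ⟩ := exists_iso h v₀ hv₀
  obtain ⟨S, hSd⟩ : ∃ S, S = MulAction.stabilizer (Cfsg.Omega F ⇑(Q₀)) v₀ := ⟨_, rfl⟩
  have hperfS : ⁅S, S⁆ = S := by
    subst hSd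
    refine Sections.eq_of_commutator_top ?_
    have := commutator_eq_top (F := F) (m := k) (Or.inl h.k3)
    rw [_root_.commutator_def, ← Subgroup.map_top_of_surjective τ.symm.toMonoidHom τ.symm.surjective,
      ← Subgroup.map_commutator, ← _root_.commutator_def, this]
  obtain ⟨D, hD⟩ : ∃ D, D = ⁅S.comap π, S.comap π⁆ := ⟨_, rfl⟩
  obtain ⟨hDm, hDp⟩ := Sections.derived_preimage hc (by rw [MonoidHom.range_eq_top.2 hs]; exact le_top) hperfS hD
  have hmemD : ∀ x : D, π x.1 ∈ MulAction.stabilizer (Cfsg.Omega F ⇑(Q₀)) v₀ := fun x =>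
    hSd ▸ hDm.le ⟨x.1, x.2, rfl⟩
  let p : D →* MulAction.stabilizer (Cfsg.Omega F ⇑(Q₀)) v₀ := (π.comp D.subtype).codRestrict _ hmemD
  have hps : Function.Surjective p := fun g => by
    obtain ⟨x, hx, e⟩ := hDm.ge (show g.1 ∈ S by rw [hSd]; exact g.2)
    exact ⟨⟨x, hx⟩, Subtype.ext e⟩
  have hbot := stab_ker h hc hs hv₀ τ hτ p (fun _ => rfl) ⟨τ.surjective.comp hps,
    fun x hx => Subgroup.mem_center_iff.2 fun y => Subtype.ext (Subgroup.mem_center_iff.1
      (hc (show π x.1 = 1 from congrArg Subtype.val (τ.injective (hx.trans (map_one τ).symm)))) y.1),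
    by rw [hDp]; exact le_top⟩
  let e := MulEquiv.ofBijective p ⟨(MonoidHom.ker_eq_bot_iff p).1 hbot, hps⟩
  obtain ⟨s, hsec, hmul, hconj, -⟩ := Sections.exists_sections (exists_trans hS) v₀ (hSd ▸ hperfS) hc
    (D.subtype.comp e.symm.toMonoidHom) (fun g => congrArg Subtype.val (e.apply_symm_apply g)) hs
  have heq : ∀ u v g, Adj u v → g • u = u → g • v = v → s u g = s v g := by
    intro u v g huv gu gv
    obtain ⟨γ, hγ⟩ := exists_trans hS u v₀
    obtain ⟨x, hx⟩ := hs γ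
    have A : Adj v₀ (γ • v) := hγ ▸ ⟨by rw [smul_val, smul_val, act_polar]; exact huv.1,
      fun e' => huv.2 (MulAction.injective γ e')⟩
    have g0' : (γ * g * γ⁻¹) • v₀ = v₀ := by rw [← hγ, mul_smul, mul_smul, inv_smul_smul, gu]
    have g1' : (γ * g * γ⁻¹) • γ • v = γ • v := by rw [mul_smul, mul_smul, inv_smul_smul, gv]
    have := agree_base h hc hs hsec hmul hconj hv₀ A g0' g1'
    have c1 := hconj x u g gu
    have c2 := hconj x v g gv
    rw [hx, hγ] at c1
    rw [hx] at c2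
    rw [this, ← c2] at c1
    exact mul_left_cancel (mul_right_cancel c1)
  have hsys := sys_of hS (minFrame F (by have := h.k3; omega) a b) hsec hmul hconj heq
  haveI : Nonempty (Sph (Q₀)) := ⟨v₀⟩
  rw [eq_bot_iff]
  exact fun x hx => Orbit.ker_trivial hsys hc hperf hx

/-- The multiplier. -/
theorem minus_multiplier_even :
    Cfsg.HasCyclicSchurMultiplier (Cfsg.POmega F (Cfsg.quadFormMinus k F a b))
      (Nat.gcd 4 (Fintype.card F ^ (k + 1) + 1)) := by
  classical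
  rw [← minQ_eq, (Classical.OrthOrders.gcd_four_of_even Fintype.one_lt_card
    (Nat.even_iff.2 (PlusMult.card_mod_of_two h.two)) (Nat.succ_ne_zero k)).2]
  have hk := h.k3
  have hQ := minQ_nondeg k h.hab
  let O : Subgroup (Cfsg.isometryGroup F ⇑(Q₀)) := Cfsg.Omega F ⇑(Q₀)
  have hperf : commutator O = ⊤ :=
    commutator_omega_eq_top hQ (minFrame F (by omega) a b) (by simp; omega)
  have hz0 : Subgroup.center O = ⊥ := Subgroup.card_eq_one.1
    (natCard_center_one hQ (minFrame F (by omega) a b) (by simp; omega) (Or.inl h.two))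
  have hr : O.subtype.range = O := Subgroup.range_subtype O
  let p : O →* Cfsg.POmega F ⇑(Q₀) := QuotientGroup.mk' (Subgroup.center O)
  have hK : (p.comp (O.subtype.codRestrict O fun x => x.2)).ker = ⊥ := by
    rw [eq_bot_iff]
    intro x hx
    have hx' : (O.subtype.codRestrict O fun x => x.2) x ∈ Subgroup.center O :=
      (QuotientGroup.eq_one_iff _).1 hx
    rw [hz0, Subgroup.mem_bot] at hx'
    exact Subgroup.mem_bot.2 (Subtype.ext (congrArg Subtype.val hx' :))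
  refine PlusMult.hasSchurMultiplier_of_max (O := O) O.subtype hperf (fun x hx => by
      have : x = 1 := Subtype.ext hx
      rw [this]; exact one_mem _) hr ?_ p
    (QuotientGroup.mk'_surjective _) (QuotientGroup.ker_mk' _).le
    (A := Multiplicative (ZMod 1)) ?_
  · intro D _ _ π' hD hc' hr'
    obtain ⟨q, hq⟩ : ∃ q, q = π'.codRestrict O fun x => hr' ▸ ⟨x, rfl⟩ := ⟨_, rfl⟩
    have hqk : q.ker = π'.ker := by rw [hq, MonoidHom.ker_codRestrict]
    have := ker_trivial_even h q (fun y => by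
      obtain ⟨x, hx⟩ := hr'.ge y.2
      exact ⟨x, Subtype.ext (by rw [hq]; exact hx)⟩) (hqk ▸ hc') hD
    rw [← hqk, this, Subgroup.card_bot]
    exact Nat.card_pos
  · exact (MulEquiv.subgroupCongr hK).trans MulEquiv.ofUnique

end Cfsg.Agent.OrthMult.Even
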