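import Cfsg.Agent.Lib.OrthMult.Action

/-!
`Ω` on the vectors of norm one in characteristic two, for the relation of orthogonality of distinct vectors.
-/

set_option autoImplicit false
set_option linter.unusedSectionVars false

namespace Cfsg.Agent.OrthMult.Even

open Cfsg.Agent.Forms Cfsg.Agent.Forms.QuadStd Cfsg.Agent.Forms.Reflections Cfsg.Agent.Classical.Orth
  Cfsg.Agent.Classical.OmegaCrit Module

universe u

variable {F : Type u} [Field F] [Fintype F] {ι : Type} [Fintype ι] [DecidableEq ι]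
variable {Q : QuadraticForm F (ι → F)}

local notation "B" => QuadraticMap.polar Q

/-- The hypotheses on the space. -/
structure Space2 (Q : QuadraticForm F (ι → F)) : Prop where
  nondeg : (QuadraticMap.polarBilin Q).Nondegenerate
  two : (2 : F) = 0
  dim : 8 ≤ Fintype.card ι
  perp : ∀ D : Submodule F (ι → F), finrank F D ≤ 4 → ∃ z, (∀ d ∈ D, QuadraticMap.polar Q d z = 0) ∧ Q z = 1

/-- Orthogonality of distinct vectors. -/
def Adj (u v : Sph Q) : Prop := B u.1 v.1 = 0 ∧ u ≠ v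

variable (hS : Space2 Q)
include hS

theorem neg_self (a : F) : -a = a := by linear_combination (-a) * hS.two

theorem polar_self0 (x : ι → F) : B x x = 0 := by rw [OrthMult.polar_self', hS.two, zero_mul]

theorem exists_scale {h : ι → F} (hh : Q h ≠ 0) : ∃ s : F, s ≠ 0 ∧ Q (s • h) = 1 := by
  have : CharP F 2 := CharTwo.of_one_ne_zero_of_two_eq_zero one_ne_zero hS.two
  obtain ⟨r, hr⟩ : IsSquare (Q h)⁻¹ := FiniteField.isSquare_of_char_two (ringChar.eq F 2) _
  refine ⟨r, fun e => inv_ne_zero hh (by rw [hr, e, mul_zero]), ?_⟩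
  rw [QuadraticMap.map_smul, ← hr, smul_eq_mul, inv_mul_cancel₀ hh]

theorem card_ne : Fintype.card F ≠ 2 ∨ Fintype.card ι ≠ 4 := Or.inr (by have := hS.dim; omega)

/-- Correcting the parity off a small subspace. -/
theorem exists_omega (g : Cfsg.isometryGroup F ⇑Q) {D : Submodule F (ι → F)} (hD : finrank F D ≤ 4) :
    ∃ g' ∈ Cfsg.Omega F ⇑Q, ∀ d ∈ D, act g' d = act g d := by
  rcases Int.units_eq_one_or (par g) with h | h
  · exact ⟨g, (mem_omega_iff_par hS.nondeg (card_ne hS) hS.two g).2 h, fun d _ => rfl⟩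
  · obtain ⟨c, hc, hc1⟩ := hS.perp D hD
    refine ⟨g * reflect Q c, (mem_omega_iff_par hS.nondeg (card_ne hS) hS.two _).2 ?_, fun d hd => by
      rw [act_mul, act_reflect_fix (by rw [QuadraticMap.polar_comm]; exact hc d hd)]⟩
    rw [par_mul_all hS.nondeg (card_ne hS), h, par_reflect hS.nondeg (by rw [hc1]; exact one_ne_zero)]
    rfl

theorem Q_add (x y : ι → F) : Q (x + y) = Q x + Q y + B x y := QuadraticMap.map_add Q x y

theorem act_reflect_sum {v w : ι → F} (hv : Q v = 1) (hw : Q w = 1) (h : B v w ≠ 0) :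
    act (reflect Q (v + w)) v = w := by
  have hq : Q (v + w) = B v w := by rw [Q_add hS, hv, hw]; linear_combination hS.two
  rw [act_reflect, QuadraticMap.polar_add_left, polar_self0 hS, zero_add, QuadraticMap.polar_comm _ w v, hq,
    inv_mul_cancel₀ h, one_smul]
  funext i
  simp only [Pi.sub_apply, Pi.add_apply]
  linear_combination (-(w i)) * hS.two

theorem exists_dual {D : Submodule F (ι → F)} {v : ι → F} (hv : v ∉ D) :
    ∃ h, (∀ d ∈ D, B d h = 0) ∧ B v h ≠ 0 := by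
  by_contra hall
  push Not at hall
  refine hv ?_
  rw [← LinearMap.BilinForm.orthogonal_orthogonal hS.nondeg
    (fun u v h => by rw [QuadraticMap.polarBilin_apply_apply] at h ⊢; rw [QuadraticMap.polar_comm]; exact h) D]
  exact polB_orth.2 fun h hh => by
    rw [QuadraticMap.polar_comm]
    exact hall h (polB_orth.1 hh)

/-- A transporter fixing two orthogonal vectors. -/
theorem exists_transporter {a b v w : ι → F} (ha : Q a = 1) (hv : Q v = 1) (hw : Q w = 1) (hab : B a b = 0)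
    (hav : B a v = 0) (haw : B a w = 0) (hbvw : B b v = B b w)
    (hv' : v ∉ Submodule.span F ({a, b} : Set (ι → F))) (hw' : w ∉ Submodule.span F ({a, b} : Set (ι → F))) :
    ∃ g ∈ Cfsg.Omega F ⇑Q, act g a = a ∧ act g b = b ∧ act g v = w := by
  have hfix : ∀ {x y : ι → F}, B b x = B b y → B a x = 0 → B a y = 0 →
      act (reflect Q (x + y)) a = a ∧ act (reflect Q (x + y)) b = b := fun {x y} e ex ey => by
    constructor <;> refine act_reflect_fix ?_ <;> rw [QuadraticMap.polar_comm, QuadraticMap.polar_add_right]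
    · rw [ex, ey, add_zero]
    · rw [e]; linear_combination B b y * hS.two
  obtain ⟨g, g1, g2, g3⟩ : ∃ g : Cfsg.isometryGroup F ⇑Q, act g a = a ∧ act g b = b ∧ act g v = w := by
    by_cases hvw : B v w = 0
    swap
    · exact ⟨_, (hfix hbvw hav haw).1, (hfix hbvw hav haw).2, act_reflect_sum hS hv hw hvw⟩
    obtain ⟨D, hD⟩ : ∃ D, D = Submodule.span F ({a, b} : Set (ι → F)) := ⟨_, rfl⟩
    rw [← hD] at hv' hw'
    obtain ⟨h1, p1, q1⟩ := exists_dual hS hv'
    obtain ⟨h2, p2, q2⟩ := exists_dual hS hw'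
    obtain ⟨h, hp, hv1, hw1⟩ : ∃ h, (∀ d ∈ D, B d h = 0) ∧ B v h ≠ 0 ∧ B w h ≠ 0 := by
      by_cases c1 : B w h1 = 0
      swap
      · exact ⟨h1, p1, q1, c1⟩
      by_cases c2 : B v h2 = 0
      swap
      · exact ⟨h2, p2, c2, q2⟩
      exact ⟨h1 + h2, fun d hd => by rw [QuadraticMap.polar_add_right, p1 d hd, p2 d hd, add_zero],
        by rw [QuadraticMap.polar_add_right, c2, add_zero]; exact q1,
        by rw [QuadraticMap.polar_add_right, c1, zero_add]; exact q2⟩
    have haD : a ∈ D := hD ▸ Submodule.subset_span (by simp)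
    have hbD : b ∈ D := hD ▸ Submodule.subset_span (by simp)
    obtain ⟨k, kp, kv, kw, kQ⟩ : ∃ k, (∀ d ∈ D, B d k = 0) ∧ B v k ≠ 0 ∧ B w k ≠ 0 ∧ Q k ≠ 0 := by
      by_cases hq : Q h = 0
      · refine ⟨h + a, fun d hd => ?_, ?_, ?_, ?_⟩
        · rw [QuadraticMap.polar_add_right, hp d hd, zero_add]
          rw [hD] at hd
          rw [QuadraticMap.polar_comm]
          obtain ⟨s, t, rfl⟩ := Submodule.mem_span_pair.1 hd
          simp [QuadraticMap.polar_add_right, QuadraticMap.polar_smul_right, polar_self0 hS, hab]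
        · rw [QuadraticMap.polar_add_right, QuadraticMap.polar_comm _ v a, hav, add_zero]; exact hv1
        · rw [QuadraticMap.polar_add_right, QuadraticMap.polar_comm _ w a, haw, add_zero]; exact hw1
        · rw [Q_add hS, hq, ha, QuadraticMap.polar_comm, hp a haD]; simp
      · exact ⟨h, hp, hv1, hw1, hq⟩
    obtain ⟨s, hs⟩ : ∃ s, s = B v k / Q k := ⟨_, rfl⟩
    have hs0 : s ≠ 0 := hs ▸ div_ne_zero kv kQ
    obtain ⟨v'', hv''⟩ : ∃ v'', v'' = v + s • k := ⟨_, rfl⟩
    have h1' : Q v'' = 1 := by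
      rw [hv'', Q_add hS, hv, QuadraticMap.map_smul, QuadraticMap.polar_smul_right, smul_eq_mul, smul_eq_mul, hs]
      field_simp
      linear_combination (B v k) ^ 2 * hS.two
    have ea : B a v'' = 0 := by
      rw [hv'', QuadraticMap.polar_add_right, QuadraticMap.polar_smul_right, hav, kp a haD, smul_zero, add_zero]
    have eb : B b v'' = B b v := by
      rw [hv'', QuadraticMap.polar_add_right, QuadraticMap.polar_smul_right, kp b hbD, smul_zero, add_zero]
    have ev : B v v'' ≠ 0 := by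
      rw [hv'', QuadraticMap.polar_add_right, QuadraticMap.polar_smul_right, polar_self0 hS, zero_add,
        smul_eq_mul]
      exact mul_ne_zero hs0 kv
    have ew : B v'' w ≠ 0 := by
      rw [hv'', QuadraticMap.polar_add_left, QuadraticMap.polar_smul_left, hvw, zero_add, smul_eq_mul,
        QuadraticMap.polar_comm _ k w]
      exact mul_ne_zero hs0 kw
    obtain ⟨f1, f2⟩ := hfix eb.symm hav ea
    obtain ⟨f3, f4⟩ := hfix (eb.trans hbvw) ea haw
    exact ⟨reflect Q (v'' + w) * reflect Q (v + v''), by rw [act_mul, f1, f3], by rw [act_mul, f2, f4],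
      by rw [act_mul, act_reflect_sum hS hv h1' ev, act_reflect_sum hS h1' hw ew]⟩
  obtain ⟨g', hg', he⟩ := exists_omega hS g (D := Submodule.span F ({a, b, v} : Set (ι → F)))
    ((finrank_insert3 a b v).trans (by omega))
  exact ⟨g', hg', (he a (Submodule.subset_span (by simp))).trans g1,
    (he b (Submodule.subset_span (by simp))).trans g2, (he v (Submodule.subset_span (by simp))).trans g3⟩

theorem exists_avoid {D : Submodule F (ι → F)} (hD : finrank F D ≤ 4)
    (hne : ¬ (polB Q).orthogonal D ≤ D) : ∃ z, (∀ d ∈ D, B d z = 0) ∧ Q z = 1 ∧ z ∉ D := by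
  obtain ⟨r, hr, hrD⟩ := SetLike.not_le_iff_exists.1 hne
  have hr' := polB_orth.1 hr
  by_cases hq : Q r = 0
  · obtain ⟨z, hz, hz1⟩ := hS.perp D hD
    by_cases hzD : z ∈ D
    · refine ⟨z + r, fun d hd => by rw [QuadraticMap.polar_add_right, hz d hd, hr' d hd, add_zero], ?_, fun e => ?_⟩
      · rw [Q_add hS, hz1, hq, hr' z hzD, add_zero, add_zero]
      · exact hrD (by simpa using D.sub_mem e hzD)
    · exact ⟨z, hz, hz1, hzD⟩
  · obtain ⟨s, hs0, hs⟩ := exists_scale hS hq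
    exact ⟨s • r, fun d hd => by rw [QuadraticMap.polar_smul_right, hr' d hd, smul_zero], hs,
      fun e => hrD (by simpa [smul_smul, inv_mul_cancel₀ hs0] using D.smul_mem s⁻¹ e)⟩

theorem exists_avoid3 (a b c : ι → F) :
    ∃ z, B z a = 0 ∧ B z b = 0 ∧ B z c = 0 ∧ Q z = 1 ∧ z ∉ Submodule.span F ({a, b, c} : Set (ι → F)) := by
  have h3 := finrank_insert3 a b c
  obtain ⟨z, hz, hz1, hzD⟩ := exists_avoid hS (h3.trans (by omega)) fun e => by
    have := Submodule.finrank_mono e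
    rw [finrank_orth hS.nondeg] at this
    have := hS.dim
    omega
  refine ⟨z, ?_, ?_, ?_, hz1, hzD⟩ <;> rw [QuadraticMap.polar_comm] <;>
    exact hz _ (Submodule.subset_span (by simp))

theorem not_mem_single {u v : Sph Q} (h : u ≠ v) : v.1 ∉ Submodule.span F ({u.1, u.1} : Set (ι → F)) := fun e => by
  rw [Set.pair_eq_singleton] at e
  obtain ⟨t, ht⟩ := Submodule.mem_span_singleton.1 e
  have h1 := v.2
  rw [← ht, QuadraticMap.map_smul, u.2, smul_eq_mul, mul_one] at h1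
  have : t = 1 := by
    rcases mul_self_eq_one_iff.1 h1 with e1 | e1
    · exact e1
    · rw [e1, neg_self hS]
  exact h (Subtype.ext (by rw [← ht, this, one_smul]))

/-- `v` is not a combination of a neighbour of it and a vector outside. -/
theorem not_mem_pair {y v : Sph Q} {z : ι → F} (hyv : y ≠ v) {D : Submodule F (ι → F)} (hy : y.1 ∈ D)
    (hv : v.1 ∈ D) (hz : z ∉ D) : v.1 ∉ Submodule.span F ({y.1, z} : Set (ι → F)) := fun e => by
  obtain ⟨s, t, hst⟩ := Submodule.mem_span_pair.1 e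
  by_cases ht : t = 0
  · rw [ht, zero_smul, add_zero] at hst
    exact not_mem_single hS hyv (by rw [Set.pair_eq_singleton]; exact Submodule.mem_span_singleton.2 ⟨s, hst⟩)
  · refine hz ?_
    have : z = t⁻¹ • (v.1 - s • y.1) := by
      rw [← hst, add_sub_cancel_left, smul_smul, inv_mul_cancel₀ ht, one_smul]
    rw [this]
    exact D.smul_mem _ (D.sub_mem hv (D.smul_mem _ hy))

theorem exists_step {a b v w : Sph Q} (hab : B a.1 b.1 = 0) (hav : B a.1 v.1 = 0) (haw : B a.1 w.1 = 0)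
    (hbv : B b.1 v.1 = 0) (hbw : B b.1 w.1 = 0) (hv : v.1 ∉ Submodule.span F ({a.1, b.1} : Set (ι → F)))
    (hw : w.1 ∉ Submodule.span F ({a.1, b.1} : Set (ι → F))) :
    ∃ g : Cfsg.Omega F ⇑Q, g • a = a ∧ g • b = b ∧ g • v = w := by
  obtain ⟨g, hg, g1, g2, g3⟩ := exists_transporter hS a.2 v.2 w.2 hab hav haw (hbv.trans hbw.symm) hv hw
  exact ⟨⟨g, hg⟩, Subtype.ext g1, Subtype.ext g2, Subtype.ext g3⟩

theorem exists_trans (u v : Sph Q) : ∃ g : Cfsg.Omega F ⇑Q, g • u = v := by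
  obtain ⟨z, z1, z2, -, zQ, zD⟩ := exists_avoid3 hS u.1 v.1 v.1
  obtain ⟨z', hz'⟩ : ∃ z' : Sph Q, z'.1 = z := ⟨⟨z, zQ⟩, rfl⟩
  have hne : ∀ x : Sph Q, x.1 ∈ Submodule.span F ({u.1, v.1, v.1} : Set (ι → F)) → z' ≠ x := fun x hx e =>
    zD (by rw [← hz', e]; exact hx)
  obtain ⟨g, -, -, g3⟩ := exists_step hS (a := z') (b := z') (v := u) (w := v) (polar_self0 hS _)
    (hz' ▸ z1) (hz' ▸ z2) (hz' ▸ z1) (hz' ▸ z2)
    (not_mem_single hS (hne u (Submodule.subset_span (by simp))))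
    (not_mem_single hS (hne v (Submodule.subset_span (by simp))))
  exact ⟨g, g3⟩

theorem exists_move2 (γ : Cfsg.Omega F ⇑Q) (x w : Sph Q) (hγ : γ • x = x) :
    ∃ (z : Sph Q) (j : Cfsg.Omega F ⇑Q),
      Adj z x ∧ Adj z w ∧ Adj z (γ • w) ∧ j • x = x ∧ j • z = z ∧ j • w = γ • w := by
  obtain ⟨z, z1, z2, z3, zQ, zD⟩ := exists_avoid3 hS x.1 w.1 (γ • w).1
  obtain ⟨z', hz'⟩ : ∃ z' : Sph Q, z'.1 = z := ⟨⟨z, zQ⟩, rfl⟩
  have hne : ∀ a : Sph Q, a.1 ∈ Submodule.span F ({x.1, w.1, (γ • w).1} : Set (ι → F)) → z' ≠ a := fun a ha e =>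
    zD (by rw [← hz', e]; exact ha)
  have A1 : Adj z' x := ⟨hz' ▸ z1, hne x (Submodule.subset_span (by simp))⟩
  have A2 : Adj z' w := ⟨hz' ▸ z2, hne w (Submodule.subset_span (by simp))⟩
  have A3 : Adj z' (γ • w) := ⟨hz' ▸ z3, hne _ (Submodule.subset_span (by simp))⟩
  by_cases hxw : x = w
  · subst hxw
    exact ⟨z', 1, A1, A2, A3, one_smul _ _, one_smul _ _, by rw [one_smul, hγ]⟩
  have hxw' : x ≠ γ • w := fun e => hxw (by
    conv_lhs at e => rw [← hγ]
    exact (MulAction.injective γ e))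
  have hzD : z'.1 ∉ Submodule.span F ({x.1, w.1, (γ • w).1} : Set (ι → F)) := hz' ▸ zD
  have e1 := not_mem_pair hS hxw (z := z'.1) (Submodule.subset_span (by simp)) (Submodule.subset_span (by simp)) hzD
  have e2 := not_mem_pair hS hxw' (z := z'.1) (Submodule.subset_span (by simp)) (Submodule.subset_span (by simp)) hzD
  rw [Set.pair_comm] at e1 e2
  obtain ⟨g, hg, g1, g2, g3⟩ := exists_transporter hS z'.2 w.2 (γ • w).2 A1.1 A2.1 A3.1
    (by conv_rhs => rw [← hγ, smul_val, smul_val, act_polar]) e1 e2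
  exact ⟨z', ⟨g, hg⟩, A1, A2, A3, Subtype.ext g2, Subtype.ext g1, Subtype.ext g3⟩

theorem exists_chain2 (v w y y' : Sph Q) (hyv : Adj y v) (hyw : Adj y w) (hy'v : Adj y' v) (hy'w : Adj y' w) :
    Relation.ReflTransGen (fun a b => Adj a b ∧ Adj b v ∧ Adj b w ∧
      ∃ g : Cfsg.Omega F ⇑Q, g • a = a ∧ g • b = b ∧ g • v = w) y y' := by
  by_cases hyy : y = y'
  · exact hyy ▸ Relation.ReflTransGen.refl
  obtain ⟨D, hD⟩ : ∃ D, D = Submodule.span F ({v.1, w.1, y.1, y'.1} : Set (ι → F)) := ⟨_, rfl⟩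
  have hd4 : finrank F D ≤ 4 := hD ▸ finrank_insert4 _ _ _ _
  have mv : v.1 ∈ D := hD ▸ Submodule.subset_span (by simp)
  have mw : w.1 ∈ D := hD ▸ Submodule.subset_span (by simp)
  have my : y.1 ∈ D := hD ▸ Submodule.subset_span (by simp)
  have my' : y'.1 ∈ D := hD ▸ Submodule.subset_span (by simp)
  by_cases hle : (polB Q).orthogonal D ≤ D
  · have h1 := Submodule.finrank_mono hle
    rw [finrank_orth hS.nondeg] at h1
    have := hS.dim
    have heq : (polB Q).orthogonal D = D :=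
      Submodule.eq_of_le_of_finrank_eq hle (by rw [finrank_orth hS.nondeg]; omega)
    have hb : B y.1 y'.1 = 0 := polB_orth.1 (heq.ge my') y.1 my
    have hout : ∀ x : Sph Q, (x = v ∨ x = w) → x.1 ∉ Submodule.span F ({y.1, y'.1} : Set (ι → F)) := by
      intro x hx hmem
      obtain ⟨o, ho⟩ : ∃ o : Sph Q, D ≤ Submodule.span F ({o.1, y.1, y'.1} : Set (ι → F)) := by
        have hx' : ∀ o : Sph Q, x.1 ∈ Submodule.span F ({o.1, y.1, y'.1} : Set (ι → F)) := fun o =>
          Submodule.span_mono (Set.subset_insert _ _) hmem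
        rcases hx with rfl | rfl
        · refine ⟨w, hD ▸ Submodule.span_le.2 ?_⟩
          rintro z (rfl | rfl | rfl | rfl)
          · exact hx' w
          all_goals exact Submodule.subset_span (by simp)
        · refine ⟨v, hD ▸ Submodule.span_le.2 ?_⟩
          rintro z (rfl | rfl | rfl | rfl)
          · exact Submodule.subset_span (by simp)
          · exact hx' v
          all_goals exact Submodule.subset_span (by simp)
      have h3 := (Submodule.finrank_mono ho).trans (finrank_insert3 _ _ _)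
      omega
    exact Relation.ReflTransGen.single ⟨⟨hb, hyy⟩, hy'v, hy'w,
      exists_step hS hb hyv.1 hyw.1 hy'v.1 hy'w.1 (hout v (Or.inl rfl)) (hout w (Or.inr rfl))⟩
  obtain ⟨z, hz, hz1, hzD⟩ := exists_avoid hS hd4 hle
  obtain ⟨z', hz'⟩ : ∃ z' : Sph Q, z'.1 = z := ⟨⟨z, hz1⟩, rfl⟩
  have hne : ∀ a : Sph Q, a.1 ∈ D → z' ≠ a := fun a ha e => hzD (by rw [← hz', e]; exact ha)
  have hzB : ∀ a : Sph Q, a.1 ∈ D → B z'.1 a.1 = 0 := fun a ha => by
    rw [QuadraticMap.polar_comm, hz']; exact hz _ ha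
  have hzD' : z'.1 ∉ D := hz' ▸ hzD
  have hBy : B y.1 z'.1 = 0 := by rw [QuadraticMap.polar_comm]; exact hzB y my
  refine (Relation.ReflTransGen.single ⟨⟨hBy, (hne y my).symm⟩, ⟨hzB v mv, hne v mv⟩, ⟨hzB w mw, hne w mw⟩,
    exists_step hS hBy hyv.1 hyw.1 (hzB v mv) (hzB w mw) (not_mem_pair hS hyv.2 my mv hzD')
      (not_mem_pair hS hyw.2 my mw hzD')⟩).tail ⟨⟨hzB y' my', hne y' my'⟩, hy'v, hy'w, ?_⟩
  have e1 := not_mem_pair hS hy'v.2 my' mv hzD'
  have e2 := not_mem_pair hS hy'w.2 my' mw hzD'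
  rw [Set.pair_comm] at e1 e2
  exact exists_step hS (hzB y' my') (hzB v mv) (hzB w mw) hy'v.1 hy'w.1 e1 e2

theorem omega_gen2 (f : Frame Q) :
    Subgroup.closure {g : Cfsg.Omega F ⇑Q | ∃ x : Sph Q, g • x = x} = ⊤ := by
  obtain ⟨K, hK⟩ : ∃ K, K = Subgroup.closure {g : Cfsg.Omega F ⇑Q | ∃ x : Sph Q, g • x = x} := ⟨_, rfl⟩
  have hE := omega_eq_eGroup hS.nondeg f (by have := hS.dim; omega)
  have hle : eGroup Q ⊤ ≤ K.map (Cfsg.Omega F ⇑Q).subtype := by
    refine (Subgroup.closure_le _).2 ?_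
    rintro _ ⟨a, b, ha, hab, _, _, rfl⟩
    obtain ⟨z, z2, z3, -, z1, -⟩ := exists_avoid3 hS a b b
    have hmem : eich a b ha hab ∈ Cfsg.Omega F ⇑Q := by
      rw [hE]; exact Subgroup.subset_closure ⟨a, b, ha, hab, by trivial, by trivial, rfl⟩
    exact ⟨⟨_, hmem⟩, by rw [hK]; exact Subgroup.subset_closure ⟨⟨z, z1⟩, Subtype.ext (act_eich_fix ha hab z2 z3)⟩,
      rfl⟩
  rw [← hK, eq_top_iff]
  intro g _
  obtain ⟨k, hk, e⟩ := hle (show g.1 ∈ eGroup Q ⊤ by rw [← hE]; exact g.2)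
  rwa [Subtype.ext e] at hk

/-- The hypotheses of the orbit criterion, the compatibility of sections aside. -/
theorem sys_of (f : Frame Q) {E : Type*} [Group E] {π : E →* Cfsg.Omega F ⇑Q}
    {s : Sph Q → Cfsg.Omega F ⇑Q → E}
    (hsec : ∀ v g, g • v = v → π (s v g) = g)
    (hmul : ∀ v g h, g • v = v → h • v = v → s v (g * h) = s v g * s v h)
    (hconj : ∀ (e : E) v g, g • v = v → e * s v g * e⁻¹ = s (π e • v) (π e * g * (π e)⁻¹))
    (heq : ∀ u v g, Adj u v → g • u = u → g • v = v → s u g = s v g) :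
    Orbit.Sys Adj π s where
  sec := hsec
  mul := hmul
  eq := heq
  conj := hconj
  symm := fun u v h => ⟨by rw [QuadraticMap.polar_comm]; exact h.1, h.2.symm⟩
  inv := fun g u v h => ⟨by rw [smul_val, smul_val, act_polar]; exact h.1, fun e => h.2 (MulAction.injective g e)⟩
  tr := fun y v w a b => by
    obtain ⟨g, g1, -, g3⟩ := exists_step hS (a := y) (b := y) (polar_self0 hS _) a.1 b.1 a.1 b.1
      (not_mem_single hS a.2) (not_mem_single hS b.2)
    exact ⟨g, g1, g3⟩
  move := fun γ x w h => exists_move2 hS γ x w h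
  three := fun a b c => by
    obtain ⟨z, z1, z2, z3, zQ, zD⟩ := exists_avoid3 hS a.1 b.1 c.1
    have hne : ∀ x : Sph Q, x.1 ∈ Submodule.span F ({a.1, b.1, c.1} : Set (ι → F)) → (⟨z, zQ⟩ : Sph Q) ≠ x :=
      fun x hx e => zD (by
        have e' : z = x.1 := congrArg Subtype.val e
        rw [e']; exact hx)
    exact ⟨⟨z, zQ⟩, ⟨z1, hne a (Submodule.subset_span (by simp))⟩, ⟨z2, hne b (Submodule.subset_span (by simp))⟩,
      ⟨z3, hne c (Submodule.subset_span (by simp))⟩⟩
  conn := exists_chain2 hS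
  gen := omega_gen2 hS f

end Cfsg.Agent.OrthMult.Even
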