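import Cfsg.Agent.Lib.OrthMult.EvenSpace
import Cfsg.Agent.Lib.Classical.Symplectic
import Cfsg.Agent.Lib.Classical.OrthForms
import Cfsg.Agent.Lib.AutPOmega.Standard

/-!
In characteristic two the stabiliser of a vector of norm one in `Ω` of minus type is the symplectic group on
the quotient of its orthogonal by itself.
-/

set_option autoImplicit false
set_option linter.unusedSectionVars false
set_option linter.unusedSimpArgs false

namespace Cfsg.Agent.OrthMult.Even

open Matrix
open Cfsg.Agent.Forms Cfsg.Agent.Forms.QuadStd Cfsg.Agent.Forms.Reflections Cfsg.Agent.Forms.PlusStd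
  Cfsg.Agent.Classical.Orth Cfsg.Agent.Classical.OrthForms Cfsg.Agent.Classical.OmegaCrit
  Cfsg.Agent.Forms.SympStd Module

universe u

variable {F : Type u} [Field F] [Fintype F] {k : ℕ} {a b : F}

local notation "Q₀" => minQ F k a b
local notation "Pv" => (Fin k ⊕ Fin k → F)
local notation "Vm" => ((Fin k ⊕ Fin k) ⊕ Fin 2 → F)
local notation "B₀" => QuadraticMap.polar (minQ F k a b)
local notation "e₀" => (Pi.single (Sum.inr (0 : Fin 2)) (1 : F) : (Fin k ⊕ Fin k) ⊕ Fin 2 → F)
local notation "Mat" => Matrix (Fin k ⊕ Fin k) (Fin k ⊕ Fin k) F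

/-- The hypotheses: a form of minus type in characteristic two. -/
structure Min2 (k : ℕ) (a b : F) : Prop where
  k3 : 3 ≤ k
  two : (2 : F) = 0
  hab : ∀ z₁ z₂ : F, z₁ ^ 2 + a * z₁ * z₂ + b * z₂ ^ 2 = 0 → z₁ = 0 ∧ z₂ = 0

variable (h : Min2 k a b)
include h

theorem a_ne : a ≠ 0 := fun e => disc_ne_zero h.hab (by
  rw [e]; linear_combination (2 * b) * h.two)

theorem space2 : Space2 (Q₀) where
  nondeg := minQ_nondeg k h.hab
  two := h.two
  dim := by simp; have := h.k3; omega
  perp D hD := by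
    by_contra hall
    push Not at hall
    have hsing : ∀ r ∈ (polB (Q₀)).orthogonal D, Q₀ r = 0 := fun r hr => by
      by_contra hr0
      have : CharP F 2 := CharTwo.of_one_ne_zero_of_two_eq_zero one_ne_zero h.two
      obtain ⟨s, hs⟩ : IsSquare (Q₀ r)⁻¹ := FiniteField.isSquare_of_char_two (ringChar.eq F 2) _
      refine hall (s • r) (fun d hd => ?_) ?_
      · rw [QuadraticMap.polar_smul_right, polB_orth.1 hr d hd, smul_zero]
      · rw [QuadraticMap.map_smul, ← hs, smul_eq_mul, inv_mul_cancel₀ hr0]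
    have h1 := AutPOmega.Standard.minQ_singular_le h.hab _ hsing
    rw [finrank_orth (minQ_nondeg k h.hab)] at h1
    simp at h1
    have := h.k3
    omega

omit h in
theorem Q_decomp (w : Pv) (t : F) :
    Q₀ (Sum.elim w 0 + t • e₀) = plusQ F k w + t * t := by
  rw [minQ_apply]
  have : (Sum.elim w 0 + t • e₀ : Vm) ∘ Sum.inl = w := funext fun i => by simp
  rw [this]
  simp
  ring

theorem polar_v0 (x : Vm) : B₀ e₀ x = a * x (Sum.inr 1) := by
  rw [minQ_polar]
  have : ((e₀ : Vm)) ∘ Sum.inl = 0 := funext fun i => by simp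
  rw [this]
  simp [QuadraticMap.polar, h.two]

theorem Q_v0 : Q₀ e₀ = 1 := by
  have e := Q_decomp (a := a) (b := b) (0 : Pv) 1
  rw [QuadraticMap.map_zero, zero_add, mul_one, one_smul] at e
  simpa using e

theorem polar_v0_inl (w : Pv) : B₀ e₀ (Sum.elim w 0) = 0 := by
  rw [polar_v0 h]; simp

theorem sympForm_plus (x y : Pv) : Cfsg.sympForm k F x y = QuadraticMap.polar (plusQ F k) x y := by
  have hn : ∀ t : F, -t = t := fun t => by linear_combination (-t) * h.two
  rw [sympForm_eq, plusQ_polar]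
  refine Finset.sum_congr rfl fun i _ => ?_
  rw [sub_eq_add_neg, hn]
  ring

theorem polar_inl_decomp (x : Vm) (hx : x (Sum.inr 1) = 0) :
    x = Sum.elim (x ∘ Sum.inl) 0 + x (Sum.inr 0) • e₀ := by
  funext i
  rcases i with i | i
  · simp
  · fin_cases i <;> simp [hx]

/-- The action on the quotient. -/
noncomputable def bar (g : Cfsg.isometryGroup F ⇑(Q₀)) : Pv →ₗ[F] Pv where
  toFun w := (act g (Sum.elim w 0)) ∘ Sum.inl
  map_add' x y := by
    have e : (Sum.elim (x + y) 0 : Vm) = Sum.elim x 0 + Sum.elim y 0 :=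
      funext fun i => by rcases i with i | i <;> simp
    rw [e, map_add]; rfl
  map_smul' c x := by
    have e : (Sum.elim (c • x) 0 : Vm) = c • Sum.elim x 0 :=
      funext fun i => by rcases i with i | i <;> simp
    rw [e, map_smul]; rfl

omit h in
theorem bar_apply (g : Cfsg.isometryGroup F ⇑(Q₀)) (w : Pv) :
    bar g w = (act g (Sum.elim w 0)) ∘ Sum.inl := rfl

theorem act_decomp {g : Cfsg.isometryGroup F ⇑(Q₀)} (hg : act g e₀ = e₀) (w : Pv) :
    ∃ t : F, act g (Sum.elim w 0) = Sum.elim (bar g w) 0 + t • e₀ := by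
  have h1 : (act g (Sum.elim w 0)) (Sum.inr 1) = 0 := by
    have := polar_v0 h (act g (Sum.elim w 0))
    conv_lhs at this => rw [← hg]
    rw [act_polar, polar_v0_inl h, zero_eq_mul] at this
    exact this.resolve_left (a_ne h)
  exact ⟨_, polar_inl_decomp h _ h1⟩

theorem bar_symp {g : Cfsg.isometryGroup F ⇑(Q₀)} (hg : act g e₀ = e₀) (x y : Pv) :
    Cfsg.sympForm k F (bar g x) (bar g y) = Cfsg.sympForm k F x y := by
  obtain ⟨s, hs⟩ := act_decomp h hg x
  obtain ⟨t, ht⟩ := act_decomp h hg y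
  have e := act_polar g (Sum.elim x 0) (Sum.elim y 0)
  rw [hs, ht] at e
  simp only [QuadraticMap.polar_add_left, QuadraticMap.polar_add_right, QuadraticMap.polar_smul_left,
    QuadraticMap.polar_smul_right, polar_v0_inl h, polar_self0 (space2 h),
    QuadraticMap.polar_comm _ (Sum.elim (bar g x) 0) e₀,
    minQ_polar_inl, smul_zero, add_zero] at e
  rw [sympForm_plus h, sympForm_plus h, e]

theorem bar_inj {g : Cfsg.isometryGroup F ⇑(Q₀)} (hg : act g e₀ = e₀) :
    Function.Injective (bar g) := by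
  refine (injective_iff_map_eq_zero (bar g)).2 fun w hw => ?_
  obtain ⟨t, ht⟩ := act_decomp h hg w
  have ez : (Sum.elim (0 : Pv) (0 : Fin 2 → F) : Vm) = 0 := funext fun i => by rcases i with i | i <;> rfl
  rw [hw, ez, zero_add] at ht
  have e : Sum.elim w 0 = t • e₀ := by
    have := congrArg (act g⁻¹) ht
    rw [← act_mul, inv_mul_cancel, act_one, map_smul] at this
    conv_rhs at this => rw [← hg, ← act_mul, inv_mul_cancel, act_one]
    exact this
  funext i
  simpa using congrFun e (Sum.inl i)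

/-- The element of the symplectic group. -/
noncomputable def barSp {g : Cfsg.isometryGroup F ⇑(Q₀)} (hg : act g e₀ = e₀) :
    Matrix.symplecticGroup (Fin k) F :=
  SympStd.ofEquiv (LinearEquiv.ofBijective (bar g) ⟨bar_inj h hg, LinearMap.injective_iff_surjective.1 (bar_inj h hg)⟩)
    fun x y => bar_symp h hg x y

theorem barSp_mulVec {g : Cfsg.isometryGroup F ⇑(Q₀)} (hg : act g e₀ = e₀) (x : Pv) :
    ((barSp h hg : Matrix.symplecticGroup (Fin k) F) : Mat) *ᵥ x = bar g x :=
  SympStd.ofEquiv_mulVec _ _ x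

theorem bar_mul {g : Cfsg.isometryGroup F ⇑(Q₀)} {g' : Cfsg.isometryGroup F ⇑(Q₀)}
    (hg : act g e₀ = e₀)
    (hg' : act g' e₀ = e₀) (x : Pv) :
    bar (g * g') x = bar g (bar g' x) := by
  obtain ⟨t, ht⟩ := act_decomp h hg' x
  rw [bar_apply (g * g'), act_mul, ht, map_add, map_smul, hg, bar_apply g]
  funext i
  simp

theorem bar_eq_id {g : Cfsg.isometryGroup F ⇑(Q₀)} (hg : act g e₀ = e₀)
    (hgo : g ∈ Cfsg.Omega F ⇑(Q₀)) (hb : ∀ x, bar g x = x) : g = 1 := by
  obtain ⟨v0, hv0⟩ : ∃ v0 : Vm, v0 = e₀ := ⟨_, rfl⟩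
  have hS := space2 h
  have hfix : ∀ y : Vm, y (Sum.inr 1) = 0 → act g y = y := fun y hy => by
    obtain ⟨t, ht⟩ := act_decomp h hg (y ∘ Sum.inl)
    rw [hb] at ht
    have hq := act_map g (Sum.elim (y ∘ Sum.inl) 0 : Vm)
    rw [ht, Q_decomp, minQ_inl, add_eq_left, mul_self_eq_zero] at hq
    rw [hq, zero_smul, add_zero] at ht
    conv_lhs => rw [polar_inl_decomp h y hy]
    rw [map_add, map_smul, hg, ht, ← polar_inl_decomp h y hy]
  obtain ⟨u, hu⟩ : ∃ u : Vm, u = Pi.single (Sum.inr 1) 1 := ⟨_, rfl⟩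
  obtain ⟨d, hd⟩ : ∃ d, d = act g u - u := ⟨_, rfl⟩
  have hd1 : d ∈ (polB (Q₀)).orthogonal ((polB (Q₀)).orthogonal (Submodule.span F {v0})) := by
    refine polB_orth.2 fun y hy => ?_
    have hy' : y (Sum.inr 1) = 0 := by
      have := polB_orth.1 hy v0 (Submodule.subset_span rfl)
      rw [hv0, polar_v0 h, mul_eq_zero] at this
      exact this.resolve_left (a_ne h)
    rw [hd, QuadraticMap.polar_sub_right, sub_eq_zero]
    conv_lhs => rw [← hfix y hy']
    exact act_polar g y u
  rw [show (polB (Q₀)).orthogonal ((polB (Q₀)).orthogonal (Submodule.span F {v0})) = Submodule.span F {v0} from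
    LinearMap.BilinForm.orthogonal_orthogonal hS.nondeg
      (fun u v h => by rw [QuadraticMap.polarBilin_apply_apply] at h ⊢; rw [QuadraticMap.polar_comm]; exact h) _] at hd1
  obtain ⟨l, hl⟩ := Submodule.mem_span_singleton.1 hd1
  have hgu : act g u = u + l • v0 := by rw [hl, hd]; abel
  have hq := act_map g u
  rw [hgu, Q_add hS, QuadraticMap.map_smul, QuadraticMap.polar_smul_right, QuadraticMap.polar_comm _ u,
    hv0, Q_v0 h, polar_v0 h, hu] at hq
  have hl0 : l * (l + a) = 0 := by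
    simp at hq
    linear_combination hq
  have hdec : ∀ x : Vm, x = (x - x (Sum.inr 1) • u) + x (Sum.inr 1) • u := fun x => by abel
  have hsub : ∀ x : Vm, (x - x (Sum.inr 1) • u) (Sum.inr 1) = 0 := fun x => by simp [hu]
  rcases mul_eq_zero.1 hl0 with hl' | hl'
  · refine act_ext fun x => ?_
    rw [act_one]
    conv_lhs => rw [hdec x]
    rw [map_add, map_smul, hfix _ (hsub x), hgu, hl', zero_smul, add_zero, ← hdec x]
  · exfalso
    have hQv : Q₀ v0 = 1 := hv0 ▸ Q_v0 h
    have e : g = reflect (Q₀) v0 := act_ext fun x => by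
      conv_lhs => rw [hdec x]
      conv_rhs => rw [hdec x]
      rw [map_add, map_smul, hfix _ (hsub x), hgu, map_add, map_smul, act_reflect_fix (by
        rw [hv0, polar_v0 h, hsub, mul_zero])]
      congr 2
      rw [act_reflect, hQv, hv0, polar_v0 h, hu]
      simp only [Pi.single_eq_same, mul_one, inv_one, one_mul]
      rw [sub_eq_add_neg, ← neg_smul, show (-a : F) = l by linear_combination -hl']
    have hp := (mem_omega_iff_par hS.nondeg (card_ne hS) hS.two g).1 hgo
    rw [e, par_reflect hS.nondeg (by rw [hQv]; exact one_ne_zero)] at hp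
    exact absurd hp (by decide)

/-- The vector of norm one over a vector of the quotient. -/
theorem exists_over (w : Pv) (c : F) : ∃ z : Vm, z ∘ Sum.inl = w ∧ z (Sum.inr 1) = 0 ∧ Q₀ z = c := by
  have : CharP F 2 := CharTwo.of_one_ne_zero_of_two_eq_zero one_ne_zero h.two
  obtain ⟨t, ht⟩ : IsSquare (c + plusQ F k w) := FiniteField.isSquare_of_char_two (ringChar.eq F 2) _
  refine ⟨Sum.elim w 0 + t • e₀, funext fun i => by simp, by simp, ?_⟩
  rw [Q_decomp, ← ht]
  linear_combination (plusQ F k w) * h.two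

theorem bar_pair {z : Vm} (hz1 : z (Sum.inr 1) = 0) (hz : Q₀ z ≠ 0) :
    act (reflect (Q₀) z * reflect (Q₀) e₀) e₀ =
        e₀ ∧
      reflect (Q₀) z * reflect (Q₀) e₀ ∈ Cfsg.Omega F ⇑(Q₀) ∧
      ∀ x : Pv, bar (reflect (Q₀) z * reflect (Q₀) e₀) x =
        x + ((Q₀ z)⁻¹ * Cfsg.sympForm k F x (z ∘ Sum.inl)) • (z ∘ Sum.inl) := by
  have hS := space2 h
  have hn : ∀ t : F, -t = t := fun t => by linear_combination (-t) * h.two
  refine ⟨?_, ?_, fun x => ?_⟩
  · rw [act_mul, act_reflect_fix (polar_self0 hS _), act_reflect_fix]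
    rw [QuadraticMap.polar_comm, polar_v0 h, hz1, mul_zero]
  · rw [mem_omega_iff_par hS.nondeg (card_ne hS) hS.two, par_mul_all hS.nondeg (card_ne hS),
      par_reflect hS.nondeg hz, par_reflect hS.nondeg (by rw [Q_v0 h]; exact one_ne_zero)]
    rfl
  · rw [bar_apply, act_mul, act_reflect_fix (polar_v0_inl h x), act_reflect, sympForm_plus h,
      QuadraticMap.polar_comm _ x]
    have e : B₀ z (Sum.elim x 0) = QuadraticMap.polar (plusQ F k) (z ∘ Sum.inl) x := by
      rw [minQ_polar]; simp [Sum.elim_comp_inl]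
    rw [e]
    funext i
    simp only [Function.comp_apply, Pi.sub_apply, Pi.smul_apply, Pi.add_apply, Sum.elim_inl, smul_eq_mul]
    rw [sub_eq_add_neg, hn]

/-- The stabiliser is the symplectic group. -/
theorem exists_iso (v₀ : Sph (Q₀)) (hv₀ : v₀.1 = e₀) :
    ∃ τ : MulAction.stabilizer (Cfsg.Omega F ⇑(Q₀)) v₀ ≃* Matrix.symplecticGroup (Fin k) F,
      ∀ g x, ((τ g : Matrix.symplecticGroup (Fin k) F) : Mat) *ᵥ x = bar g.1.1 x := by
  have hfix : ∀ g : MulAction.stabilizer (Cfsg.Omega F ⇑(Q₀)) v₀,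
      act g.1.1 e₀ = e₀ := fun g => by
    have := smul_eq_iff.1 (MulAction.mem_stabilizer_iff.1 g.2)
    rwa [hv₀] at this
  obtain ⟨φ, hφ⟩ : ∃ φ : MulAction.stabilizer (Cfsg.Omega F ⇑(Q₀)) v₀ →* Matrix.symplecticGroup (Fin k) F,
      ∀ g x, ((φ g : Matrix.symplecticGroup (Fin k) F) : Mat) *ᵥ x = bar g.1.1 x :=
    ⟨MonoidHom.mk' (fun g => barSp h (hfix g)) fun g g' => SympStd.sp_ext fun x => by
        rw [SympStd.mul_mulVec_sp, barSp_mulVec, barSp_mulVec, barSp_mulVec]
        exact bar_mul h (hfix g) (hfix g') x,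
      fun g x => barSp_mulVec h (hfix g) x⟩
  have hinj : Function.Injective φ := (injective_iff_map_eq_one φ).2 fun g hg => Subtype.ext (Subtype.ext
    (bar_eq_id h (hfix g) g.1.2 fun x => by rw [← hφ, hg]; exact Matrix.one_mulVec x))
  have hsurj : Function.Surjective φ := by
    rw [← MonoidHom.range_eq_top, eq_top_iff, ← SympStd.closure_tvSet_eq_top, Subgroup.closure_le]
    rintro A ⟨w, c, -, hA⟩
    have hA' : A = tv w c := Subtype.ext hA
    by_cases hc : c = 0
    · rw [hA', hc, Classical.Symplectic.tv_zero]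
      exact one_mem _
    obtain ⟨z, z1, z2, z3⟩ := exists_over h w c⁻¹
    obtain ⟨p1, p2, p3⟩ := bar_pair h z2 (by rw [z3]; exact inv_ne_zero hc)
    refine ⟨⟨⟨_, p2⟩, MulAction.mem_stabilizer_iff.2 (smul_eq_iff.2 (by rw [hv₀]; exact p1))⟩, ?_⟩
    refine SympStd.sp_ext fun x => ?_
    rw [hφ, hA', tv_mulVec, p3, z1, z3, inv_inv]
  exact ⟨MulEquiv.ofBijective φ ⟨hinj, hsurj⟩, fun g x => hφ g x⟩

end Cfsg.Agent.OrthMult.Even
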