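import Cfsg.Agent.Lib.OrthMult.Action
import Cfsg.Agent.Lib.Forms.SpecialOrth

/-!
The square of a lift of `-1` in a double cover of `Ω` in which the lifts of `r_a r_b` and `r_b r_c` do not
commute for orthogonal vectors `a`, `b`, `c` of norm one.
-/

set_option autoImplicit false
set_option linter.unusedSectionVars false

open scoped commutatorElement

namespace Cfsg.Agent.OrthMult.NegLift

open Matrix Cfsg.Agent.Forms Cfsg.Agent.Forms.QuadStd Cfsg.Agent.Forms.Reflections Cfsg.Agent.Classical.Orth
  Cfsg.Agent.Classical.OmegaCrit Module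

universe u v

variable {F : Type u} [Field F] [Fintype F] {ι : Type} [Fintype ι] [DecidableEq ι]
variable {Q : QuadraticForm F (ι → F)}

local notation "B" => QuadraticMap.polar Q

theorem pair_mem_omega (hS : Space Q) {x y : ι → F} (hx : Q x = 1) (hy : Q y = 1) :
    reflect Q x * reflect Q y ∈ Cfsg.Omega F ⇑Q := by
  rw [mem_omega_iff hS.nondeg (card_ne hS), map_mul, theta_reflect hS.nondeg (card_ne hS) (by rw [hx]; exact one_ne_zero),
    theta_reflect hS.nondeg (card_ne hS) (by rw [hy]; exact one_ne_zero), hx, hy, chi_one]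
  rfl

theorem reflect_commute {x y : ι → F} (h : B x y = 0) : Commute (reflect Q x) (reflect Q y) := by
  refine act_ext fun z => ?_
  simp only [act_mul, act_reflect, QuadraticMap.polar_sub_right, QuadraticMap.polar_smul_right, smul_eq_mul, h,
    QuadraticMap.polar_comm _ y x, mul_zero, sub_zero]
  module

theorem pair_commute {a b c : ι → F} (ab : B a b = 0) (bc : B b c = 0) (ac : B a c = 0) :
    Commute (reflect Q a * reflect Q b) (reflect Q b * reflect Q c) :=
  Commute.mul_left (Commute.mul_right (reflect_commute ab) (reflect_commute ac))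
    (Commute.mul_right (Commute.refl _) (reflect_commute bc))

theorem pair_sq {a b : ι → F} (ab : B a b = 0) :
    reflect Q a * reflect Q b * (reflect Q a * reflect Q b) = 1 := by
  rw [show reflect Q a * reflect Q b * (reflect Q a * reflect Q b) =
      reflect Q a * (reflect Q b * reflect Q a) * reflect Q b by group, ← (reflect_commute ab).eq,
    show reflect Q a * (reflect Q a * reflect Q b) * reflect Q b =
      (reflect Q a * reflect Q a) * (reflect Q b * reflect Q b) by group, reflect_sq, reflect_sq, mul_one]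

/-- An orthogonal basis of vectors of norm one, when `-1` is in `Ω`. -/
theorem exists_basis (hS : Space Q) {n : ℕ} (hn : Fintype.card ι = n + 1) (heven : Even (n + 1))
    {g : Cfsg.isometryGroup F ⇑Q} (hg : g ∈ Cfsg.Omega F ⇑Q) (hneg : ∀ x, act g x = -x) :
    ∃ v : Fin (n + 1) → ι → F, (∀ i, Q (v i) = 1) ∧ (∀ i j, i ≠ j → B (v i) (v j) = 0) ∧
      Submodule.span F (Set.range v) = ⊤ := by
  classical
  obtain ⟨α, hα⟩ := FiniteField.exists_nonsquare (F := F) (fun h => hS.two (by
    have : CharP F 2 := h ▸ ringChar.charP F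
    exact CharTwo.two_eq_zero))
  have hα0 : α ≠ 0 := fun h => hα (h ▸ ⟨0, by simp⟩)
  obtain ⟨C, hC⟩ : ∃ C : LinearMap.BilinForm F (ι → F), C = (2 : F)⁻¹ • polB Q := ⟨_, rfl⟩
  have hCv : ∀ x y, C x y = (2 : F)⁻¹ * B x y := fun x y => by rw [hC]; rfl
  have hCQ : ∀ x, C x x = Q x := fun x => by
    rw [hCv, polar_self', inv_mul_cancel_left₀ hS.two]
  obtain ⟨v, -, hvo, hv1, hvl⟩ := Bases.exists_symm_normal hS.two C
    ⟨fun x y => by rw [hCv, hCv, QuadraticMap.polar_comm]⟩ α hα ⊤
    (fun x _ h => hS.nondeg.1 x fun y => by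
      have := h y Submodule.mem_top
      rw [hCv] at this
      exact (mul_eq_zero.1 this).resolve_left (inv_ne_zero hS.two))
    (by rw [finrank_top, Module.finrank_pi]; exact hn)
  have hne : C (v (Fin.last n)) (v (Fin.last n)) ≠ 0 := by rcases hvl with h | h <;> rw [h] <;> simp [hα0]
  obtain ⟨bv, hbv, -⟩ := Disc.exists_diag_basis C v (by rw [Module.finrank_pi]; exact hn) hvo hv1 hne
  have horth : ∀ i j, i ≠ j → B (v i) (v j) = 0 := fun i j h => by
    have := hvo i j h
    rw [hCv] at this
    exact (mul_eq_zero.1 this).resolve_left (inv_ne_zero hS.two)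
  have hQ0 : ∀ i, Q (v i) ≠ 0 := fun i => by
    rw [← hCQ]
    by_cases h : i = Fin.last n
    · rw [h]; exact hne
    · rw [hv1 i h]; exact one_ne_zero
  refine ⟨v, fun i => ?_, horth, by rw [← hbv]; exact bv.span_eq⟩
  by_cases hi : i = Fin.last n
  swap
  · rw [← hCQ, hv1 i hi]
  subst hi
  rcases hvl with h | h
  · rw [← hCQ, h]
  exfalso
  let l := (List.finRange (n + 1)).map v
  have hprod : g = (l.map (reflect Q)).prod := by
    have key : ∀ L : List (Fin (n + 1)), L.Nodup → ∀ i,
        act ((L.map v).map (reflect Q)).prod (v i) = if i ∈ L then -v i else v i := by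
      intro L
      induction L with
      | nil => intro _ i; simp [act_one]
      | cons j L ih =>
        intro hL i
        rw [List.nodup_cons] at hL
        rw [List.map_cons, List.map_cons, List.prod_cons, act_mul, ih hL.2 i]
        by_cases hij : i = j
        · subst hij
          rw [if_neg hL.1, if_pos (List.mem_cons_self ..), act_apply]
          exact reflection_self Q (hQ0 _)
        · have hfix : act (reflect Q (v j)) (v i) = v i := act_reflect_fix (horth j i (Ne.symm hij))
          by_cases hiL : i ∈ L <;> simp [hiL, hij, map_neg, hfix]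
    have hlin : act (l.map (reflect Q)).prod = -LinearMap.id := bv.ext fun i => by
      rw [hbv]
      exact (key _ (List.nodup_finRange _) i).trans (by simp)
    exact act_ext fun x => by rw [hneg, hlin]; rfl
  have ht := theta_list hS.nondeg (card_ne hS) l (by
    intro x hx
    obtain ⟨i, -, rfl⟩ := List.mem_map.1 hx
    exact hQ0 i)
  rw [← hprod, (mem_omega_iff hS.nondeg (card_ne hS) g).1 hg] at ht
  have hlast : (l.map fun x => Q x).prod = α := by
    simp only [l, List.map_map]
    rw [← List.ofFn_eq_map, List.prod_ofFn]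
    rw [Fin.prod_univ_castSucc]
    simp only [Function.comp_apply, ← hCQ, h, hv1 _ (Fin.castSucc_ne_last _), Finset.prod_const_one, one_mul]
  have := (congrArg Prod.snd ht).symm
  rw [hlast] at this
  exact hα (chi_eq_one_iff.1 this)

theorem hlift' {E : Type v} [Group E] {π : E →* Cfsg.isometryGroup F ⇑Q} (hS : Space Q)
    (hr : π.range = Cfsg.Omega F ⇑Q) {x y : ι → F} (hx : Q x = 1) (hy : Q y = 1) :
    ∃ e, π e = reflect Q x * reflect Q y := by
  have := pair_mem_omega hS hx hy
  rwa [← hr] at this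

variable {E : Type v} [Group E] {π : E →* Cfsg.isometryGroup F ⇑Q}

/-- The lift of `-1`. -/
theorem exists_neg_lift (hS : Space Q) (hc : π.ker ≤ Subgroup.center E) (hr : π.range = Cfsg.Omega F ⇑Q)
    {z : E} (hker : ∀ x, π x = 1 → x = 1 ∨ x = z) (hz2 : z * z = 1) (hz : π z = 1)
    {e₁ e₂ e₃ : ι → F} (h1 : Q e₁ = 1) (h2 : Q e₂ = 1) (h3 : Q e₃ = 1) (h12 : B e₁ e₂ = 0) (h13 : B e₁ e₃ = 0)
    (h23 : B e₂ e₃ = 0)
    (hne : ∀ x y, π x = reflect Q e₁ * reflect Q e₂ → π y = reflect Q e₂ * reflect Q e₃ → ⁅x, y⁆ ≠ 1)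
    {l : ℕ} (hl : Odd l) {v : Fin (2 * l) → ι → F} (hv : ∀ i, Q (v i) = 1)
    (hvo : ∀ i j, i ≠ j → B (v i) (v j) = 0) (hspan : Submodule.span F (Set.range v) = ⊤) (hl3 : 3 ≤ 2 * l) :
    ∃ x : E, x * x = z ∧ x * x ≠ 1 ∧ ∀ y, act (π x) y = -y := by
  classical
  have hker2 : ∀ x, π x = 1 → x * x = 1 := fun x hx => by
    rcases hker x hx with h | h <;> simp [h, hz2]
  have hcomm : ∀ a b c, Q a = 1 → Q b = 1 → Q c = 1 → B a b = 0 → B a c = 0 → B b c = 0 → ∀ x y,
      π x = reflect Q a * reflect Q b → π y = reflect Q b * reflect Q c → ⁅x, y⁆ = z := by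
    intro a b c ha hb hc' hab hac hbc x y hx hy
    obtain ⟨γ, hγ, g1, g2, g3⟩ : ∃ γ ∈ Cfsg.Omega F ⇑Q, act γ e₁ = a ∧ act γ e₂ = b ∧ act γ e₃ = c := by
      obtain ⟨w, w1, w2, w3⟩ := exists_fixed hS (u := e₁) (w := a)
      obtain ⟨k1, m1, -, k1a⟩ := exists_tr hS w1 h1 ha w2 w3
      obtain ⟨k2, m2, k2a, k2b⟩ := exists_tr hS ha (v := act k1 e₂) (w := b)
        (by rw [act_map]; exact h2) hb (by rw [← k1a, act_polar]; exact h12) hab
      obtain ⟨k3, m3, k3a, k3b, k3c⟩ := exists_tr2 hS ha hb (v := act k2 (act k1 e₃)) (w := c)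
        (by rw [act_map, act_map]; exact h3) hc' hab
        (by rw [← k2a, act_polar, ← k1a, act_polar]; exact h13) hac
        (by rw [← k2b, act_polar, act_polar]; exact h23) hbc
      exact ⟨k3 * k2 * k1, mul_mem (mul_mem m3 m2) m1, by rw [act_mul, act_mul, k1a, k2a, k3a],
        by rw [act_mul, act_mul, k2b, k3b], by rw [act_mul, act_mul, k3c]⟩
    obtain ⟨e, he⟩ : γ ∈ π.range := hr ▸ hγ
    have ex : π (e⁻¹ * x * e) = reflect Q e₁ * reflect Q e₂ := by
      rw [map_mul, map_mul, map_inv, hx, he, ← g1, ← g2, ← Spinor.reflect_conj γ e₁, ← Spinor.reflect_conj γ e₂]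
      group
    have ey : π (e⁻¹ * y * e) = reflect Q e₂ * reflect Q e₃ := by
      rw [map_mul, map_mul, map_inv, hy, he, ← g2, ← g3, ← Spinor.reflect_conj γ e₂, ← Spinor.reflect_conj γ e₃]
      group
    have hk : π ⁅x, y⁆ = 1 := by
      rw [map_commutatorElement, hx, hy, commutatorElement_eq_one_iff_commute]
      exact pair_commute hab hbc hac
    rcases hker _ hk with h | h
    · refine absurd ?_ (hne _ _ ex ey)
      rw [show ⁅e⁻¹ * x * e, e⁻¹ * y * e⁆ = e⁻¹ * ⁅x, y⁆ * e by simp only [commutatorElement_def]; group, h]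
      group
    · exact h
  have hzc : ∀ y, z * y = y * z := fun y => (Subgroup.mem_center_iff.1 (hc hz) y).symm
  have hlift : ∀ i j, ∃ x, π x = reflect Q (v i) * reflect Q (v j) := fun i j => by
    have := pair_mem_omega hS (hv i) (hv j)
    rwa [← hr] at this
  choose L hL using hlift
  have hsq : ∀ i j, i ≠ j → L i j * L i j = z := by
    intro i j hij
    obtain ⟨k, hki, hkj⟩ : ∃ k, k ≠ i ∧ k ≠ j := by
      by_contra hall
      push Not at hall
      have : (Finset.univ : Finset (Fin (2 * l))) ⊆ {i, j} := fun k _ => by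
        by_cases h : k = i
        · simp [h]
        · simp [hall k h]
      have := (Finset.card_le_card this).trans Finset.card_le_two
      rw [Finset.card_univ, Fintype.card_fin] at this
      omega
    have sqsym : ∀ a b : Fin (2 * l), a ≠ b → L a b * L a b = L b a * L b a := fun a b hab => by
      obtain ⟨k, hk, ek⟩ : ∃ k, π k = 1 ∧ L a b = k * L b a :=
        ⟨L a b * (L b a)⁻¹, by rw [map_mul, map_inv, hL, hL, (reflect_commute (hvo _ _ hab)).eq, mul_inv_cancel],
          by group⟩
      rw [ek, show k * L b a * (k * L b a) = k * (L b a * k) * L b a by group,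
        Subgroup.mem_center_iff.1 (hc hk) (L b a),
        show k * (k * L b a) * L b a = (k * k) * (L b a * L b a) by group, hker2 k hk, one_mul]
    -- squares are constant on the conjugates
    have hs : ∀ {a b c : Fin (2 * l)}, a ≠ b → b ≠ c → a ≠ c →
        L a c * L a c = z * (L a b * L a b) * (L b c * L b c) := by
      intro a b c hab hbc hac
      have e1 : π (L a b * L b c) = π (L a c) := by
        rw [map_mul, hL, hL, hL,
          show reflect Q (v a) * reflect Q (v b) * (reflect Q (v b) * reflect Q (v c)) =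
            reflect Q (v a) * (reflect Q (v b) * reflect Q (v b)) * reflect Q (v c) by group,
          reflect_sq, mul_one]
      have e2 : ∀ {x y : E}, π x = π y → x * x = y * y := fun {x y} h => by
        obtain ⟨k, hk, rfl⟩ : ∃ k, π k = 1 ∧ x = k * y :=
          ⟨x * y⁻¹, by rw [map_mul, map_inv, h, mul_inv_cancel], by group⟩
        rw [show k * y * (k * y) = k * (y * k) * y by group, Subgroup.mem_center_iff.1 (hc hk) y,
          show k * (k * y) * y = (k * k) * (y * y) by group, hker2 k hk, one_mul]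
      have hc1 := hcomm _ _ _ (hv a) (hv b) (hv c) (hvo _ _ hab) (hvo _ _ hac) (hvo _ _ hbc) _ _ (hL a b) (hL b c)
      rw [commutatorElement_def] at hc1
      have e3 : L a b * L b c = z * (L b c * L a b) := by rw [← hc1]; group
      rw [← e2 e1, show L a b * L b c * (L a b * L b c) = L a b * (L b c * L a b) * L b c by group,
        show L b c * L a b = z * (L a b * L b c) by
          rw [e3, ← mul_assoc, hz2, one_mul],
        show L a b * (z * (L a b * L b c)) * L b c = (L a b * z) * L a b * (L b c * L b c) by group, ← hzc]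
      group
    have hconst : ∀ {a b c : Fin (2 * l)}, a ≠ b → b ≠ c → a ≠ c → L a b * L a b = L b c * L b c := by
      intro a b c hab hbc hac
      -- transport one pair to the other
      obtain ⟨w, w1, w2, w3⟩ := exists_fixed hS (u := v a) (w := v b)
      obtain ⟨k1, m1, -, k1a⟩ := exists_tr hS w1 (hv a) (hv b) w2 w3
      obtain ⟨k2, m2, k2a, k2b⟩ := exists_tr hS (hv b) (v := act k1 (v b)) (w := v c)
        (by rw [act_map]; exact hv b) (hv c) (by have := act_polar k1 (v a) (v b); rw [k1a] at this; exact this.trans (hvo _ _ hab)) (hvo _ _ hbc)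
      obtain ⟨e, he⟩ : k2 * k1 ∈ π.range := hr ▸ mul_mem m2 m1
      have e1 : π (e * L a b * e⁻¹) = π (L b c) := by
        rw [map_mul, map_mul, map_inv, hL, hL, he, show k2 * k1 * (reflect Q (v a) * reflect Q (v b)) * (k2 * k1)⁻¹ =
          (k2 * k1 * reflect Q (v a) * (k2 * k1)⁻¹) * (k2 * k1 * reflect Q (v b) * (k2 * k1)⁻¹) by group,
          Spinor.reflect_conj, Spinor.reflect_conj, act_mul, act_mul, k1a, k2a, k2b]
      obtain ⟨k, hk, hk'⟩ : ∃ k, π k = 1 ∧ e * L a b * e⁻¹ = k * L b c :=
        ⟨e * L a b * e⁻¹ * (L b c)⁻¹, by rw [map_mul, map_inv, e1, mul_inv_cancel], by group⟩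
      have hk2 : π (L a b * L a b) = 1 := by
        rw [map_mul, hL]
        exact pair_sq (hvo _ _ hab)
      have e4 : e * (L a b * L a b) * e⁻¹ = L a b * L a b := by
        rw [Subgroup.mem_center_iff.1 (hc hk2) e]; group
      rw [← e4, show e * (L a b * L a b) * e⁻¹ = (e * L a b * e⁻¹) * (e * L a b * e⁻¹) by group, hk',
        show k * L b c * (k * L b c) = k * (L b c * k) * L b c by group, Subgroup.mem_center_iff.1 (hc hk) (L b c),
        show k * (k * L b c) * L b c = (k * k) * (L b c * L b c) by group, hker2 k hk, one_mul]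
    have e1 : L k i * L k i = L i j * L i j := hconst hki hij hkj
    have e2 : L j i * L j i = L i k * L i k := hconst (Ne.symm hij) (Ne.symm hki) (Ne.symm hkj)
    have e3 := hs hki hij hkj
    have e4 : L k j * L k j = L j i * L j i := hconst hkj (Ne.symm hij) hki
    have e5 : L i k * L i k = L k j * L k j := hconst (Ne.symm hki) hkj hij
    have e6 : L j i * L j i = L i j * L i j := sqsym _ _ (Ne.symm hij)
    have hk2 : π (L i j * L i j) = 1 := by
      rw [map_mul, hL]
      exact pair_sq (hvo _ _ hij)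
    rw [e4, e6, e1] at e3
    rcases hker _ hk2 with h | h
    · rw [h, mul_one, mul_one] at e3
      exact h.trans e3
    · exact h
  have hdisj : ∀ a b c d, a ≠ b → a ≠ c → a ≠ d → b ≠ c → b ≠ d → c ≠ d → Commute (L a b) (L c d) := by
    intro a b c d hab hac had hbc hbd hcd
    have e : π (L c d) = π (L b c * L b d) := by
      rw [map_mul, hL, hL, hL, (reflect_commute (hvo _ _ hbc)).eq,
        show reflect Q (v c) * reflect Q (v b) * (reflect Q (v b) * reflect Q (v d)) =
          reflect Q (v c) * (reflect Q (v b) * reflect Q (v b)) * reflect Q (v d) by group, reflect_sq, mul_one]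
    obtain ⟨k, hk, ek⟩ : ∃ k, π k = 1 ∧ L c d = k * (L b c * L b d) :=
      ⟨L c d * (L b c * L b d)⁻¹, by rw [map_mul, map_inv, e, mul_inv_cancel], by group⟩
    have c1 := hcomm _ _ _ (hv a) (hv b) (hv c) (hvo _ _ hab) (hvo _ _ hac) (hvo _ _ hbc) _ _ (hL a b) (hL b c)
    have c2 := hcomm _ _ _ (hv a) (hv b) (hv d) (hvo _ _ hab) (hvo _ _ had) (hvo _ _ hbd) _ _ (hL a b) (hL b d)
    rw [ek]
    refine Commute.mul_right (Subgroup.mem_center_iff.1 (hc hk) _) ?_
    rw [← commutatorElement_eq_one_iff_commute, show ⁅L a b, L b c * L b d⁆ =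
      ⁅L a b, L b c⁆ * (L b c * ⁅L a b, L b d⁆ * (L b c)⁻¹) by simp only [commutatorElement_def]; group, c1, c2,
      ← hzc, mul_inv_cancel_right, hz2]
  obtain ⟨idx, hidx⟩ : ∃ idx : ℕ → Fin (2 * l), ∀ i, i < 2 * l → (idx i : ℕ) = i :=
    ⟨fun i => ⟨i % (2 * l), Nat.mod_lt _ (by omega)⟩, fun i hi => Nat.mod_eq_of_lt hi⟩
  have hne' : ∀ {i j : ℕ}, i < 2 * l → j < 2 * l → i ≠ j → idx i ≠ idx j := fun hi hj h e => h (by
    rw [← hidx _ hi, ← hidx _ hj, e])
  have main : ∀ j, j ≤ l → ∃ x : E, x * x = z ^ j ∧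
      (∀ i : Fin (2 * l), act (π x) (v i) = if (i : ℕ) < 2 * j then -v i else v i) ∧
      ∀ a b : Fin (2 * l), a ≠ b → 2 * j ≤ (a : ℕ) → 2 * j ≤ (b : ℕ) → Commute x (L a b) := by
    intro j
    induction j with
    | zero => exact fun _ => ⟨1, by simp, fun i => by simp [act_one], fun a b _ _ _ => Commute.one_left _⟩
    | succ j ih =>
      intro hj
      obtain ⟨x, hx, hact, hcx⟩ := ih (by omega)
      obtain ⟨a, ha⟩ : ∃ a, a = idx (2 * j) := ⟨_, rfl⟩
      obtain ⟨b, hb⟩ : ∃ b, b = idx (2 * j + 1) := ⟨_, rfl⟩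
      have ha' : (a : ℕ) = 2 * j := ha ▸ hidx _ (by omega)
      have hb' : (b : ℕ) = 2 * j + 1 := hb ▸ hidx _ (by omega)
      have hab : a ≠ b := fun e => by rw [e] at ha'; omega
      have hxa : Commute x (L a b) := hcx a b hab (by omega) (by omega)
      refine ⟨x * L a b, ?_, fun i => ?_, fun c d hcd hc' hd' => ?_⟩
      · rw [hxa.symm.mul_mul_mul_comm, hx, hsq a b hab, pow_succ]
      · rw [map_mul, act_mul, hL, act_mul]
        by_cases hia : i = a
        · subst hia
          rw [act_reflect_fix (hvo b i hab.symm), act_apply (reflect Q (v i)),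
            show ((reflect Q (v i) : Matrix.GeneralLinearGroup ι F) : Matrix ι ι F) *ᵥ v i = -v i from
              reflection_self Q (by rw [hv]; exact one_ne_zero), map_neg, hact, if_neg (by omega), if_pos (by omega)]
        by_cases hib : i = b
        · subst hib
          rw [act_apply (reflect Q (v i)),
            show ((reflect Q (v i) : Matrix.GeneralLinearGroup ι F) : Matrix ι ι F) *ᵥ v i = -v i from
              reflection_self Q (by rw [hv]; exact one_ne_zero), map_neg, act_reflect_fix (hvo a i hab), map_neg,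
            hact, if_neg (by omega), if_pos (by omega)]
        · rw [act_reflect_fix (hvo b i (Ne.symm hib)), act_reflect_fix (hvo a i (Ne.symm hia)), hact]
          have h1 : (i : ℕ) ≠ 2 * j := fun e => hia (Fin.ext (e.trans ha'.symm))
          have h2 : (i : ℕ) ≠ 2 * j + 1 := fun e => hib (Fin.ext (e.trans hb'.symm))
          by_cases hlt : (i : ℕ) < 2 * j
          · rw [if_pos hlt, if_pos (by omega)]
          · rw [if_neg hlt, if_neg (by omega)]
      · exact (hcx c d hcd (by omega) (by omega)).mul_left (hdisj a b c d hab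
          (fun e => by rw [e] at ha'; omega) (fun e => by rw [e] at ha'; omega)
          (fun e => by rw [e] at hb'; omega) (fun e => by rw [e] at hb'; omega) hcd)
  obtain ⟨x, hx, hact, -⟩ := main l le_rfl
  have hzl : z ^ l = z := by
    obtain ⟨t, rfl⟩ := hl
    rw [pow_succ, pow_mul, pow_two, hz2, one_pow, one_mul]
  refine ⟨x, hx.trans hzl, fun e => ?_, fun y => ?_⟩
  · rw [hx, hzl] at e
    obtain ⟨a, ha⟩ := hlift' hS hr h1 h2
    obtain ⟨b, hb⟩ := hlift' hS hr h2 h3
    exact hne a b ha hb (by rw [hcomm _ _ _ h1 h2 h3 h12 h13 h23 a b ha hb, e])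
  · have : act (π x) = -LinearMap.id := LinearMap.ext_on_range hspan fun i => by
      rw [hact i, if_pos i.2]; rfl
    rw [this]; rfl

end Cfsg.Agent.OrthMult.NegLift
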