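import Cfsg.Agent.Lib.OrthMult.Descent
import Cfsg.Agent.Lib.OrthMult.NegLift
import Cfsg.Agent.Lib.Classical.OrthForms

/-!
The eight-dimensional minus type group over three elements has no perfect central extension with kernel of
three-power order.
-/

set_option autoImplicit false
set_option linter.unusedSectionVars false
set_option linter.unusedSimpArgs false

open scoped commutatorElement

namespace Cfsg.Agent.OrthMult.Minus3

open Cfsg.Agent.Forms Cfsg.Agent.Forms.QuadStd Cfsg.Agent.Forms.Reflections Cfsg.Agent.Forms.PlusStd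
  Cfsg.Agent.Classical.Orth Cfsg.Agent.Classical.OrthForms Cfsg.Agent.Classical.OmegaCrit Module

universe u v

variable {F : Type u} [Field F] [Fintype F] {a b : F}

/-- The hypotheses. -/
structure Three (a b : F) : Prop where
  card : Fintype.card F = 3
  hab : ∀ z₁ z₂ : F, z₁ ^ 2 + a * z₁ * z₂ + b * z₂ ^ 2 = 0 → z₁ = 0 ∧ z₂ = 0

local notation "Q₀" => minQ F 3 a b
local notation "B₀" => QuadraticMap.polar (minQ F 3 a b)
local notation "Vm" => ((Fin 3 ⊕ Fin 3) ⊕ Fin 2 → F)

variable (h : Three a b)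
include h

theorem two_eq : (2 : F) = -1 ∧ (2 : F) ≠ 0 ∧ (3 : F) = 0 := by
  have h3 : (3 : F) = 0 := by
    have := Nat.cast_card_eq_zero F
    rw [h.card] at this
    exact_mod_cast this
  have h2 : (2 : F) = -1 := by linear_combination h3
  exact ⟨h2, fun e => neg_ne_zero.2 one_ne_zero (h2.symm.trans e), h3⟩

theorem three_cases (x : F) : x = 0 ∨ x = 1 ∨ x = -1 := by
  classical
  obtain ⟨-, h2, -⟩ := two_eq h
  by_contra hall
  push Not at hall
  have : ({0, 1, -1, x} : Finset F).card = 4 := by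
    rw [Finset.card_insert_of_notMem, Finset.card_insert_of_notMem, Finset.card_insert_of_notMem,
      Finset.card_singleton]
    · simp [Ne.symm hall.2.2]
    · simp only [Finset.mem_insert, Finset.mem_singleton, not_or]
      exact ⟨fun e => h2 (by linear_combination e), Ne.symm hall.2.1⟩
    · simp [Ne.symm hall.1]
  have := Finset.card_le_univ ({0, 1, -1, x} : Finset F)
  rw [h.card] at this
  omega

omit h in
/-- A vector of the form. -/
def vE (i : Fin 3) : Vm := Sum.elim (Pi.single (Sum.inl i) 1) 0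

omit h in
/-- A vector of the form. -/
def vF (i : Fin 3) : Vm := Sum.elim (Pi.single (Sum.inr i) 1) 0

omit h in
/-- A vector of the anisotropic plane. -/
def vW (s t : F) : Vm := Sum.elim 0 ![s, t]

theorem space3 : Space (Q₀) :=
  ⟨minQ_nondeg 3 h.hab, (two_eq h).2.1, by simp, fun e => absurd e (by simp)⟩

theorem polar_E (x : Vm) (i : Fin 3) : B₀ x (vE i) = x (Sum.inl (Sum.inr i)) := by
  simp [vE, minQ_polar, Sum.elim_comp_inl, plusQ_polar, Pi.single_apply]

theorem polar_F (x : Vm) (i : Fin 3) : B₀ x (vF i) = x (Sum.inl (Sum.inl i)) := by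
  simp [vF, minQ_polar, Sum.elim_comp_inl, plusQ_polar, Pi.single_apply]

theorem Q_EF (i : Fin 3) : Q₀ (vE i) = 0 ∧ Q₀ (vF i) = 0 := by
  constructor
  · rw [vE, minQ_inl, plusQ_apply]; simp [Cfsg.quadFormPlus, Pi.single_apply]
  · rw [vF, minQ_inl, plusQ_apply]; simp [Cfsg.quadFormPlus, Pi.single_apply]

theorem pair_EF (i : Fin 3) : IsPair (Q₀) (vE i) (vF i) :=
  ⟨(Q_EF h i).1, (Q_EF h i).2, by rw [polar_F h]; simp [vE]⟩

theorem coef_c : b - a ^ 2 / 4 = 1 := by
  obtain ⟨e2, h2, h3⟩ := two_eq h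
  have h4 : (4 : F) ≠ 0 := by
    rw [show (4 : F) = 2 * 2 by norm_num]; exact mul_ne_zero h2 h2
  have key : (1 - a / 2) ^ 2 + a * (1 - a / 2) * 1 + b * 1 ^ 2 = 1 + (b - a ^ 2 / 4) := by
    field_simp; ring
  rcases three_cases h (b - a ^ 2 / 4) with e | e | e
  · refine absurd (h.hab (-(a / 2)) 1 ?_).2 one_ne_zero
    rw [← e]; field_simp; ring
  · exact e
  · exact absurd (h.hab (1 - a / 2) 1 (by rw [key, e]; ring)).2 one_ne_zero

/-- The six vectors of norm one orthogonal to a pair. -/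
theorem exists_six (i : Fin 3) : ∃ v : Fin 6 → Vm, (∀ r, Q₀ (v r) = 1) ∧
    (∀ r s, r ≠ s → B₀ (v r) (v s) = 0) ∧ (∀ r, B₀ (v r) (vE i) = 0 ∧ B₀ (v r) (vF i) = 0) ∧
    ∀ x : Vm, B₀ x (vE i) = 0 → B₀ x (vF i) = 0 → x ∈ Submodule.span F (Set.range v) := by
  obtain ⟨e2, h2, h3⟩ := two_eq h
  have hc := coef_c h
  obtain ⟨j, l, hij, hil, hjl, hcov⟩ : ∃ j l : Fin 3, i ≠ j ∧ i ≠ l ∧ j ≠ l ∧ ∀ r, r = i ∨ r = j ∨ r = l := by
    revert i; decide
  obtain ⟨p, hp⟩ : ∃ p : Fin 3 → Vm, p = fun r => vE r + vF r := ⟨_, rfl⟩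
  obtain ⟨n, hn⟩ : ∃ n : Fin 3 → Vm, n = fun r => vE r + (-1 : F) • vF r := ⟨_, rfl⟩
  obtain ⟨v, hv⟩ : ∃ v : Fin 6 → Vm,
      v = ![p j, p l, n j + n l, n j + (-1 : F) • n l, vW 1 0, vW (-(a / 2)) 1] := ⟨_, rfl⟩
  have h4 : (4 : F) ≠ 0 := by
    rw [show (4 : F) = 2 * 2 by norm_num]; exact mul_ne_zero h2 h2
  have hb : b = 1 + a ^ 2 / 4 := by linear_combination hc
  obtain ⟨u, hu⟩ : ∃ u : Vm, u = vW 1 0 := ⟨_, rfl⟩
  obtain ⟨u', hu'⟩ : ∃ u' : Vm, u' = vW (-(a / 2)) 1 := ⟨_, rfl⟩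
  have qu : Q₀ u = 1 := by simp [hu, vW, minQ_apply, Sum.elim_comp_inl, plusQ_apply, Cfsg.quadFormPlus]
  have qu' : Q₀ u' = 1 := by
    simp [hu', vW, minQ_apply, Sum.elim_comp_inl, plusQ_apply, Cfsg.quadFormPlus]
    rw [hb]; field_simp; ring
  have ouu : B₀ u u' = 0 := by
    simp [hu, hu', vW, minQ_polar, Sum.elim_comp_inl, plusQ_polar]; field_simp; ring
  have qE : ∀ r : Fin 3, Q₀ (vE r) = 0 := fun r => (Q_EF h r).1
  have qF : ∀ r : Fin 3, Q₀ (vF r) = 0 := fun r => (Q_EF h r).2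
  have bEE : ∀ r s : Fin 3, B₀ (vE r) (vE s) = 0 := fun r s => by rw [polar_E h]; simp [vE]
  have bFF : ∀ r s : Fin 3, B₀ (vF r) (vF s) = 0 := fun r s => by rw [polar_F h]; simp [vF]
  have bEF : ∀ r s : Fin 3, B₀ (vE r) (vF s) = if r = s then 1 else 0 := fun r s => by
    rw [polar_F h]; simp [vE, Pi.single_apply, eq_comm]
  have bFE : ∀ r s : Fin 3, B₀ (vF r) (vE s) = if r = s then 1 else 0 := fun r s => by
    rw [QuadraticMap.polar_comm, bEF]; simp [eq_comm]
  have buE : ∀ r : Fin 3, B₀ u (vE r) = 0 ∧ B₀ u (vF r) = 0 ∧ B₀ u' (vE r) = 0 ∧ B₀ u' (vF r) = 0 := fun r => by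
    refine ⟨?_, ?_, ?_, ?_⟩ <;> simp [polar_E h, polar_F h, hu, hu', vW]
  have bEu : ∀ r : Fin 3, B₀ (vE r) u = 0 ∧ B₀ (vF r) u = 0 ∧ B₀ (vE r) u' = 0 ∧ B₀ (vF r) u' = 0 := fun r => by
    simp only [QuadraticMap.polar_comm _ (vE r) _, QuadraticMap.polar_comm _ (vF r) _]; exact buE r
  have ou'u : B₀ u' u = 0 := by rw [QuadraticMap.polar_comm]; exact ouu
  rw [← hu, ← hu'] at hv
  refine ⟨v, fun r => ?_, fun r s hrs => ?_, fun r => ?_, fun x xE xF => ?_⟩
  · fin_cases r <;>
      simp [hv, hp, hn, QuadraticMap.map_add (Q₀), QuadraticMap.map_smul, QuadraticMap.polar_add_left,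
        QuadraticMap.polar_add_right, QuadraticMap.polar_smul_left, QuadraticMap.polar_smul_right, qE, qF, qu, qu',
        bEE, bFF, bEF, bFE, hjl, hjl.symm] <;>
      linear_combination -h3
  · fin_cases r <;> fin_cases s <;>
      simp [hv, hp, hn, QuadraticMap.polar_add_left, QuadraticMap.polar_add_right, QuadraticMap.polar_smul_left,
        QuadraticMap.polar_smul_right, bEE, bFF, bEF, bFE, buE, bEu, ouu, ou'u, hjl, hjl.symm] at hrs ⊢
  · fin_cases r <;>
      simp [hv, hp, hn, QuadraticMap.polar_add_left, QuadraticMap.polar_smul_left, bEE, bFF, bEF, bFE, buE, hij,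
        hij.symm, hil, hil.symm]
  · rw [polar_E h] at xE
    rw [polar_F h] at xF
    rw [hu, hu'] at hv
    refine (Submodule.mem_span_range_iff_exists_fun F).2
      ⟨![(x (.inl (.inl j)) + x (.inl (.inr j))) / 2, (x (.inl (.inl l)) + x (.inl (.inr l))) / 2,
        ((x (.inl (.inl j)) - x (.inl (.inr j))) / 2 + (x (.inl (.inl l)) - x (.inl (.inr l))) / 2) / 2,
        ((x (.inl (.inl j)) - x (.inl (.inr j))) / 2 - (x (.inl (.inl l)) - x (.inl (.inr l))) / 2) / 2,
        x (.inr 0) + a / 2 * x (.inr 1), x (.inr 1)], ?_⟩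
    funext z
    rcases z with (z | z) | z
    · rcases hcov z with rfl | rfl | rfl <;>
        simp [hv, hp, hn, vE, vF, vW, Fin.sum_univ_six, Pi.single_apply, hij, hij.symm, hil, hil.symm, hjl,
          hjl.symm, xE, xF] <;>
        field_simp <;> ring
    · rcases hcov z with rfl | rfl | rfl <;>
        simp [hv, hp, hn, vE, vF, vW, Fin.sum_univ_six, Pi.single_apply, hij, hij.symm, hil, hil.symm, hjl,
          hjl.symm, xE, xF] <;>
        field_simp <;> ring
    · fin_cases z <;> simp [hv, hp, hn, vE, vF, vW, Fin.sum_univ_six] <;> ring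

theorem exists_rad (i : Fin 3) : Nonempty (Descent.Rad (Q₀) (vE i) (vF i)) := by
  have hS := space3 h
  have hE : Cfsg.Omega F ⇑(Q₀) = eGroup (Q₀) ⊤ :=
    omega_eq_eGroup hS.nondeg (minFrame F (by norm_num) a b) (by simp)
  have hP := pair_EF h i
  have hw : ∀ w, B₀ (vE i) (proj (Q₀) (vE i) (vF i) w) = 0 := fun w => by
    rw [QuadraticMap.polar_comm]; exact (proj_perp hP w).1
  obtain ⟨v, v1, vo, vp, vs⟩ := exists_six h i
  have hmem : ∀ r s, reflect (Q₀) (v r) * reflect (Q₀) (v s) ∈ Cfsg.Omega F ⇑(Q₀) := fun r s =>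
    NegLift.pair_mem_omega hS (v1 r) (v1 s)
  obtain ⟨g, hg⟩ : ∃ g, g = (reflect (Q₀) (v 0) * reflect (Q₀) (v 1)) * (reflect (Q₀) (v 2) * reflect (Q₀) (v 3)) *
    (reflect (Q₀) (v 4) * reflect (Q₀) (v 5)) := ⟨_, rfl⟩
  have hgm : g ∈ Cfsg.Omega F ⇑(Q₀) := hg ▸ mul_mem (mul_mem (hmem 0 1) (hmem 2 3)) (hmem 4 5)
  have hneg : ∀ r, act (reflect (Q₀) (v r)) (v r) = -(v r) := fun r => by
    rw [act_reflect, OrthMult.polar_self', v1, inv_one, one_mul, mul_one]
    module
  have hfix : ∀ r s, r ≠ s → act (reflect (Q₀) (v r)) (v s) = v s := fun r s e => act_reflect_fix (vo r s e)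
  refine ⟨⟨hP, fun w => ⟨eich (vE i) (proj (Q₀) (vE i) (vF i) w) hP.hu (hw w),
    hE ▸ eich_mem hP.hu (hw w) trivial trivial⟩, fun w x => act_eich hP.hu (hw w) x, ⟨g, hgm⟩, ?_, ?_, fun x xE xF => ?_⟩⟩
  · show act g (vE i) = vE i
    simp only [hg, act_mul]
    simp [act_reflect_fix (vp _).1]
  · show act g (vF i) = vF i
    simp only [hg, act_mul]
    simp [act_reflect_fix (vp _).2]
  · show act g x = -x
    have hx := vs x xE xF
    obtain ⟨c, rfl⟩ := (Submodule.mem_span_range_iff_exists_fun F).1 hx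
    rw [map_sum, ← Finset.sum_neg_distrib]
    refine Finset.sum_congr rfl fun r _ => ?_
    rw [map_smul, ← smul_neg]
    congr 1
    simp only [hg, act_mul]
    fin_cases r <;> simp [hneg, hfix, map_neg]

theorem abelian_lifts {E : Type v} [Group E] [Finite E] {π : E →* Cfsg.Omega F ⇑(Q₀)}
    (hc : π.ker ≤ Subgroup.center E) (hs : Function.Surjective π) (hk : ∀ x, π x = 1 → ∃ n, x ^ 3 ^ n = 1)
    (i : Fin 3) (R : Descent.Rad (Q₀) (vE i) (vF i)) :
    ∀ x y, (∃ w, π x = R.el w) → (∃ w, π y = R.el w) → Commute x y := by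
  have hS := space3 h
  obtain ⟨L, hL⟩ : ∃ L : Cfsg.Omega F ⇑(Q₀) → E, ∀ g, π (L g) = g :=
    ⟨Function.surjInv hs, Function.surjInv_eq hs⟩
  obtain ⟨v, v1, vo, vp, vs⟩ := exists_six h i
  obtain ⟨β, hβ⟩ : ∃ β : Vm → Vm → E, β = fun w w' => ⁅L (R.el w), L (R.el w')⁆ := ⟨_, rfl⟩
  have hcomm : ∀ w w' x y, π x = R.el w → π y = R.el w' → ⁅x, y⁆ = β w w' := fun w w' x y hx hy => by
    rw [hβ]
    exact PlusMult.Lift.comm_congr (PlusMult.Lift.div_mem_center hc (by rw [hx, hL]))
      (PlusMult.Lift.div_mem_center hc (by rw [hy, hL]))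
  have hβz : ∀ w w' g, Commute g (β w w') := fun w w' g => by
    refine Subgroup.mem_center_iff.1 (hc ?_) g
    rw [hβ, MonoidHom.mem_ker, map_commutatorElement, hL, hL, commutatorElement_eq_one_iff_commute]
    show _ * _ = _ * _
    rw [R.el_add, R.el_add, add_comm]
  have hβr : ∀ w w₁ w₂, β w (w₁ + w₂) = β w w₁ * β w w₂ := fun w w₁ w₂ => by
    rw [← hcomm w (w₁ + w₂) (L (R.el w)) (L (R.el w₁) * L (R.el w₂)) (hL _) (by rw [map_mul, hL, hL, R.el_add]),
      show ⁅L (R.el w), L (R.el w₁) * L (R.el w₂)⁆ = ⁅L (R.el w), L (R.el w₁)⁆ *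
        (L (R.el w₁) * ⁅L (R.el w), L (R.el w₂)⁆ * (L (R.el w₁))⁻¹) by simp only [commutatorElement_def]; group,
      hcomm _ _ _ _ (hL _) (hL _), hcomm _ _ _ _ (hL _) (hL _), (hβz _ _ _).eq, mul_inv_cancel_right]
  have hβs : ∀ w w', β w' w = (β w w')⁻¹ := fun w w' => by
    rw [hβ]; exact (commutatorElement_inv _ _).symm
  have hβ0 : ∀ w, β w 0 = 1 := fun w => by
    have := hβr w 0 0
    rw [add_zero] at this
    exact left_eq_mul.1 this
  have hβn : ∀ w w', β w (-w') = (β w w')⁻¹ := fun w w' => eq_inv_of_mul_eq_one_left (by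
    rw [← hβr, neg_add_cancel, hβ0])
  have hbasis : ∀ r s, β (v r) (v s) = 1 := by
    intro r s
    by_cases hrs : r = s
    · rw [hβ, hrs]; exact commutatorElement_self _
    obtain ⟨t, htr, hts⟩ : ∃ t, t ≠ r ∧ t ≠ s := by revert r s; decide
    obtain ⟨g, hg⟩ : ∃ g : Cfsg.Omega F ⇑(Q₀), g.1 = reflect (Q₀) (v s) * reflect (Q₀) (v t) :=
      ⟨⟨_, NegLift.pair_mem_omega hS (v1 s) (v1 t)⟩, rfl⟩
    have gx : ∀ z, B₀ (v s) z = 0 → B₀ (v t) z = 0 → act g.1 z = z := fun z z1 z2 => by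
      rw [hg, act_mul, act_reflect_fix z2, act_reflect_fix z1]
    have gs : act g.1 (v s) = -(v s) := by
      rw [hg, act_mul, act_reflect_fix (vo t s hts), act_reflect, OrthMult.polar_self', v1, inv_one, one_mul,
        mul_one]
      module
    obtain ⟨e, he⟩ := hs g
    have c1 : π (e * L (R.el (v r)) * e⁻¹) = R.el (v r) := by
      rw [map_mul, map_mul, map_inv, he, hL, R.el_conj (gx _ (vp s).1 (vp t).1) (gx _ (vp s).2 (vp t).2),
        gx _ (vo s r (Ne.symm hrs)) (vo t r htr)]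
    have c2 : π (e * L (R.el (v s)) * e⁻¹) = R.el (-(v s)) := by
      rw [map_mul, map_mul, map_inv, he, hL, R.el_conj (gx _ (vp s).1 (vp t).1) (gx _ (vp s).2 (vp t).2), gs]
    have h1 := hcomm _ _ _ _ c1 c2
    rw [show ⁅e * L (R.el (v r)) * e⁻¹, e * L (R.el (v s)) * e⁻¹⁆ = e * ⁅L (R.el (v r)), L (R.el (v s))⁆ * e⁻¹ by
      simp only [commutatorElement_def]; group, hcomm _ _ _ _ (hL _) (hL _), (hβz _ _ _).eq, mul_inv_cancel_right,
      hβn] at h1
    obtain ⟨n, hn⟩ := hk (β (v r) (v s)) (by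
      rw [hβ, map_commutatorElement, hL, hL, commutatorElement_eq_one_iff_commute]
      show _ * _ = _ * _
      rw [R.el_add, R.el_add, add_comm])
    have h22 : β (v r) (v s) ^ 2 = 1 := by
      rw [pow_two]; nth_rw 2 [h1]; exact mul_inv_cancel _
    have hg' : β (v r) (v s) ^ (Nat.gcd (3 ^ n) 2) = 1 := pow_gcd_eq_one.2 ⟨hn, h22⟩
    rwa [(Nat.Coprime.pow_left n (show Nat.Coprime 3 2 by decide)).gcd_eq_one, pow_one] at hg'
  have hlin : ∀ w, (∀ s, β w (v s) = 1) → ∀ z ∈ Submodule.span F (Set.range v), β w z = 1 := by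
    intro w hw z hz
    induction hz using Submodule.span_induction with
    | mem z hz => obtain ⟨s, rfl⟩ := hz; exact hw s
    | zero => exact hβ0 w
    | add x y _ _ hx hy => rw [hβr, hx, hy, one_mul]
    | smul c x _ hx =>
      rcases three_cases h c with rfl | rfl | rfl
      · rw [zero_smul]; exact hβ0 w
      · rw [one_smul]; exact hx
      · rw [neg_one_smul, hβn, hx, inv_one]
  intro x y ⟨w, hw⟩ ⟨w', hw'⟩
  have hp : ∀ u : Vm, R.el u = R.el (proj (Q₀) (vE i) (vF i) u) := fun u => by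
    have e : proj (Q₀) (vE i) (vF i) (proj (Q₀) (vE i) (vF i) u) = proj (Q₀) (vE i) (vF i) u := by
      obtain ⟨a1, a2⟩ := proj_perp R.pair u
      conv_lhs => rw [proj, a1, a2, zero_smul, zero_smul, sub_zero, sub_zero]
    refine Subtype.ext (act_ext fun z => ?_)
    rw [R.el_act, R.el_act, e]
  obtain ⟨a1, a2⟩ := proj_perp R.pair w
  obtain ⟨b1, b2⟩ := proj_perp R.pair w'
  rw [← commutatorElement_eq_one_iff_commute, hcomm _ _ _ _ (hw.trans (hp w)) (hw'.trans (hp w'))]
  refine hlin _ (fun s => ?_) _ (vs _ b1 b2)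
  rw [hβs, inv_eq_one]
  exact hlin _ (fun r => hbasis s r) _ (vs _ a1 a2)

omit h in
/-- The vectors of the first pairs. -/
def base (j : ℕ) : Set Vm := {s | ∃ i : Fin 3, i.val < j ∧ (s = vE i ∨ s = vF i)}

theorem base_succ (i : Fin 3) : (base (F := F) (i.val + 1)) = insert (vF i) (insert (vE i) (base i.val)) := by
  ext s
  constructor
  · rintro ⟨r, hr, hs⟩
    rcases Nat.lt_or_eq_of_le (Nat.le_of_lt_succ hr) with h' | h'
    · exact Or.inr (Or.inr ⟨r, h', hs⟩)
    · rw [Fin.ext h'] at hs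
      rcases hs with rfl | rfl
      · exact Or.inr (Or.inl rfl)
      · exact Or.inl rfl
  · rintro (rfl | rfl | ⟨r, hr, hs⟩)
    · exact ⟨i, Nat.lt_succ_self _, Or.inr rfl⟩
    · exact ⟨i, Nat.lt_succ_self _, Or.inl rfl⟩
    · exact ⟨r, by omega, hs⟩

theorem mem_perp_base {j : ℕ} (x : Vm) : (∀ s ∈ base (F := F) j, B₀ s x = 0) ↔
    ∀ i : Fin 3, i.val < j → x (Sum.inl (Sum.inl i)) = 0 ∧ x (Sum.inl (Sum.inr i)) = 0 := by
  constructor
  · intro hx i hi
    have e1 := hx _ ⟨i, hi, Or.inl rfl⟩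
    have e2 := hx _ ⟨i, hi, Or.inr rfl⟩
    rw [QuadraticMap.polar_comm, polar_E h] at e1
    rw [QuadraticMap.polar_comm, polar_F h] at e2
    exact ⟨e2, e1⟩
  · rintro hx s ⟨i, hi, rfl | rfl⟩ <;> rw [QuadraticMap.polar_comm]
    · rw [polar_E h]; exact (hx i hi).2
    · rw [polar_F h]; exact (hx i hi).1

theorem exists_to (i : Fin 3) (x : Vm) (hx0 : x ≠ 0) (hxQ : Q₀ x = 0)
    (hx : ∀ s ∈ base (F := F) i.val, B₀ s x = 0) :
    ∃ g : Cfsg.Omega F ⇑(Q₀), (∀ s ∈ base (F := F) i.val, act g.1 s = s) ∧ act g.1 (vE i) = x := by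
  classical
  obtain ⟨e2, h2, h3⟩ := two_eq h
  have hS := space3 h
  have hP := pair_EF h i
  have hc := coef_c h
  let S' : Submodule F Vm :=
    { carrier := {y | ∀ r : Fin 3, r.val < i.val → y (Sum.inl (Sum.inl r)) = 0 ∧ y (Sum.inl (Sum.inr r)) = 0}
      add_mem' := fun hy hz r hr => ⟨by rw [Pi.add_apply, (hy r hr).1, (hz r hr).1, add_zero],
        by rw [Pi.add_apply, (hy r hr).2, (hz r hr).2, add_zero]⟩
      zero_mem' := fun r _ => ⟨rfl, rfl⟩
      smul_mem' := fun c y hy r hr => ⟨by rw [Pi.smul_apply, (hy r hr).1, smul_zero],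
        by rw [Pi.smul_apply, (hy r hr).2, smul_zero]⟩ }
  have hEm : vE i ∈ S' := fun r hr => by
    have : r ≠ i := fun e => by rw [e] at hr; exact lt_irrefl _ hr
    simp [vE, this]
  have hFm : vF i ∈ S' := fun r hr => by
    have : r ≠ i := fun e => by rw [e] at hr; exact lt_irrefl _ hr
    simp [vF, this]
  have hWm : ∀ s t : F, vW s t ∈ S' := fun s t r _ => by simp [vW]
  have hnd : ∀ z ∈ S', (∀ s ∈ S', B₀ z s = 0) → z = 0 := by
    intro z hz hzs
    refine hS.nondeg.1 z fun y => ?_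
    show B₀ z y = 0
    obtain ⟨y', hy'⟩ : ∃ y' : Vm, y' = fun q => if (∃ r : Fin 3, r.val < i.val ∧
        (q = Sum.inl (Sum.inl r) ∨ q = Sum.inl (Sum.inr r))) then 0 else y q := ⟨_, rfl⟩
    have hy'm : y' ∈ S' := fun r hr => by
      constructor
      · rw [hy']; exact if_pos ⟨r, hr, Or.inl rfl⟩
      · rw [hy']; exact if_pos ⟨r, hr, Or.inr rfl⟩
    have h0 : B₀ z (y - y') = 0 := by
      rw [minQ_polar, plusQ_polar, Finset.sum_eq_zero]
      · simp [hy']
      · intro r _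
        by_cases hr : r.val < i.val
        · simp [(hz r hr).1, (hz r hr).2]
        · have c1 : ¬ ∃ r' : Fin 3, r'.val < i.val ∧ ((Sum.inl (Sum.inl r) : (Fin 3 ⊕ Fin 3) ⊕ Fin 2) =
              Sum.inl (Sum.inl r') ∨ (Sum.inl (Sum.inl r) : (Fin 3 ⊕ Fin 3) ⊕ Fin 2) = Sum.inl (Sum.inr r')) := by
            rintro ⟨r', hr', e | e⟩
            · exact hr (by simp at e; omega)
            · simp at e
          have c2 : ¬ ∃ r' : Fin 3, r'.val < i.val ∧ ((Sum.inl (Sum.inr r) : (Fin 3 ⊕ Fin 3) ⊕ Fin 2) =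
              Sum.inl (Sum.inl r') ∨ (Sum.inl (Sum.inr r) : (Fin 3 ⊕ Fin 3) ⊕ Fin 2) = Sum.inl (Sum.inr r')) := by
            rintro ⟨r', hr', e | e⟩
            · simp at e
            · exact hr (by simp at e; omega)
          have d1 : y' (Sum.inl (Sum.inl r)) = y (Sum.inl (Sum.inl r)) := by rw [hy']; exact if_neg c1
          have d2 : y' (Sum.inl (Sum.inr r)) = y (Sum.inl (Sum.inr r)) := by rw [hy']; exact if_neg c2
          simp [d1, d2]
    rw [show y = y' + (y - y') by abel, QuadraticMap.polar_add_right, hzs y' hy'm, h0, add_zero]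
  have hu : Q₀ (vW 1 0) = 1 := by simp [vW, minQ_apply, Sum.elim_comp_inl, plusQ_apply, Cfsg.quadFormPlus]
  have hp0 : ∀ (s t : F), B₀ (vE i) (vW s t) = 0 ∧ B₀ (vF i) (vW s t) = 0 := fun s t => by
    constructor <;> rw [QuadraticMap.polar_comm]
    · rw [polar_E h]; simp [vW]
    · rw [polar_F h]; simp [vW]
  obtain ⟨g, hg, c, hc0, hgx⟩ := point_move hP hEm hFm hnd (hWm 1 0) (hp0 1 0).1 (hp0 1 0).2
    (by rw [hu]; exact one_ne_zero) ((mem_perp_base h x).1 hx) hx0 hxQ
  have hgΩ : g ∈ Cfsg.Omega F ⇑(Q₀) := by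
    rw [omega_eq_eGroup hS.nondeg (minFrame F (by norm_num) a b) (by simp)]
    exact eGroup_le_top _ hg
  have hfix : ∀ s ∈ base (F := F) i.val, ∀ y ∈ S', B₀ s y = 0 := fun s hs y hy =>
    (mem_perp_base h y).2 hy s hs
  -- the change of sign
  obtain ⟨σ, hσ, hσf, hσe⟩ : ∃ σ : Cfsg.Omega F ⇑(Q₀), True ∧ (∀ s ∈ base (F := F) i.val, act σ.1 s = s) ∧
      act σ.1 (vE i) = c • vE i := by
    rcases three_cases h c with rfl | rfl | rfl
    · exact absurd rfl hc0
    · exact ⟨1, trivial, fun s _ => by rw [Subgroup.coe_one, act_one], by rw [Subgroup.coe_one, act_one, one_smul]⟩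
    obtain ⟨p, hp⟩ : ∃ p : Vm, p = vE i + vF i := ⟨_, rfl⟩
    obtain ⟨n, hn⟩ : ∃ n : Vm, n = vE i + (-1 : F) • vF i := ⟨_, rfl⟩
    obtain ⟨q, hq⟩ : ∃ q : Vm, q = vW (1 - a / 2) 1 := ⟨_, rfl⟩
    have hb : b = 1 + a ^ 2 / 4 := by linear_combination hc
    have h4 : (4 : F) ≠ 0 := by
      rw [show (4 : F) = 2 * 2 by norm_num]; exact mul_ne_zero h2 h2
    have Qp : Q₀ p = 1 := by
      rw [hp, QuadraticMap.map_add (Q₀), hP.hu, hP.hv, hP.huv]; ring
    have Qn : Q₀ n = -1 := by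
      rw [hn, QuadraticMap.map_add (Q₀), QuadraticMap.map_smul, QuadraticMap.polar_smul_right, hP.hu, hP.hv,
        hP.huv]
      simp
    have Qq : Q₀ q = -1 := by
      rw [← e2, hq]
      simp [vW, minQ_apply, Sum.elim_comp_inl, plusQ_apply, Cfsg.quadFormPlus]
      rw [hb]
      field_simp
      ring
    have hin : ∀ z ∈ ({p, n, vW 1 0, q} : Set Vm), z ∈ S' := by
      intro z hz
      simp only [Set.mem_insert_iff, Set.mem_singleton_iff] at hz
      rcases hz with rfl | rfl | rfl | rfl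
      · rw [hp]; exact S'.add_mem hEm hFm
      · rw [hn]; exact S'.add_mem hEm (S'.smul_mem _ hFm)
      · exact hWm 1 0
      · rw [hq]; exact hWm _ _
    have hm : reflect (Q₀) p * reflect (Q₀) n * (reflect (Q₀) (vW 1 0) * reflect (Q₀) q) ∈ Cfsg.Omega F ⇑(Q₀) := by
      have hF : Fintype.card F ≠ 2 := by rw [h.card]; decide
      have ne : (-1 : F) ≠ 0 := neg_ne_zero.2 one_ne_zero
      rw [mem_omega_iff hS.nondeg (Or.inl hF), map_mul, map_mul, map_mul,
        theta_reflect hS.nondeg (Or.inl hF) (by rw [Qp]; exact one_ne_zero),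
        theta_reflect hS.nondeg (Or.inl hF) (by rw [Qn]; exact ne),
        theta_reflect hS.nondeg (Or.inl hF) (by rw [hu]; exact one_ne_zero),
        theta_reflect hS.nondeg (Or.inl hF) (by rw [Qq]; exact ne), Qp, Qn, hu, Qq, chi_one]
      rcases Int.units_eq_one_or (chi (-1 : F)) with e | e <;> rw [e] <;> rfl
    refine ⟨⟨_, hm⟩, trivial, fun s hs => ?_, ?_⟩
    · have hz : ∀ z ∈ ({p, n, vW 1 0, q} : Set Vm), act (reflect (Q₀) z) s = s := fun z hz =>
        act_reflect_fix (by rw [QuadraticMap.polar_comm]; exact hfix s hs z (hin z hz))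
      show act (reflect (Q₀) p * reflect (Q₀) n * (reflect (Q₀) (vW 1 0) * reflect (Q₀) q)) s = s
      rw [act_mul, act_mul, act_mul, hz q (by simp), hz (vW 1 0) (by simp), hz n (by simp), hz p (by simp)]
    · show act (reflect (Q₀) p * reflect (Q₀) n * (reflect (Q₀) (vW 1 0) * reflect (Q₀) q)) (vE i) = _
      have w1 : ∀ s t, B₀ (vW s t) (vE i) = 0 := fun s t => by rw [polar_E h]; simp [vW]
      rw [act_mul, act_mul, act_mul, hq, act_reflect_fix (w1 _ _), act_reflect_fix (w1 _ _)]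
      have t1 : B₀ n (vE i) = -1 := by
        rw [hn, QuadraticMap.polar_add_left, QuadraticMap.polar_smul_left, polar_self_zero hP.hu, hP.hvu]; simp
      have t2 : act (reflect (Q₀) n) (vE i) = vF i := by
        rw [act_reflect, t1, Qn, hn]
        simp
      have t3 : B₀ p (vF i) = 1 := by
        rw [hp, QuadraticMap.polar_add_left, polar_self_zero hP.hv, hP.huv, add_zero]
      rw [t2, act_reflect, t3, Qp, hp]
      simp
  refine ⟨⟨g⁻¹, inv_mem hgΩ⟩ * σ, fun s hs => ?_, ?_⟩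
  · show act (g⁻¹ * σ.1) s = s
    rw [act_mul, hσf s hs]
    conv_lhs => rw [← eGroup_fix hg (x := s) (fun y hy => hfix s hs y hy)]
    exact Spinor.act_inv_cancel g s
  · show act (g⁻¹ * σ.1) (vE i) = x
    rw [act_mul, hσe, ← hgx]
    exact Spinor.act_inv_cancel g x

theorem count_points (i : Fin 3) :
    ¬ 3 ∣ Nat.card {x : Vm // x ≠ 0 ∧ Q₀ x = 0 ∧ ∀ s ∈ base (F := F) i.val, B₀ s x = 0} := by
  classical
  obtain ⟨j, m, hj, hjm⟩ : ∃ j m, i.val = j ∧ j + m = 3 := ⟨i.val, 3 - i.val, rfl, by omega⟩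
  rw [hj]
  have hm1 : 1 ≤ m := by omega
  have hup : ∀ r : Fin m, j + r.val < 3 := fun r => by omega
  let up : (Fin m ⊕ Fin m) ⊕ Fin 2 → (Fin 3 ⊕ Fin 3) ⊕ Fin 2 :=
    Sum.map (Sum.map (fun r => ⟨j + r.val, hup r⟩) (fun r => ⟨j + r.val, hup r⟩)) id
  let ext : ((Fin m ⊕ Fin m) ⊕ Fin 2 → F) → Vm := fun y => Sum.elim
    (Sum.elim (fun q => if hq : j ≤ q.val then y (Sum.inl (Sum.inl ⟨q.val - j, by omega⟩)) else 0)
      (fun q => if hq : j ≤ q.val then y (Sum.inl (Sum.inr ⟨q.val - j, by omega⟩)) else 0))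
    (fun q => y (Sum.inr q))
  have hback : ∀ y, ext y ∘ up = y := fun y => funext fun q => by
    rcases q with (q | q) | q
    · simp [ext, up]
    · simp [ext, up]
    · simp [ext, up]
  have hext : ∀ x : Vm, (∀ r : Fin 3, r.val < j → x (Sum.inl (Sum.inl r)) = 0 ∧ x (Sum.inl (Sum.inr r)) = 0) →
      ext (x ∘ up) = x := fun x hx => funext fun q => by
    rcases q with (q | q) | q
    · by_cases hq : j ≤ q.val
      · simp only [ext, up, Sum.elim_inl, dif_pos hq, Function.comp_apply, Sum.map_inl]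
        congr 3
        exact Fin.ext (by simp; omega)
      · simp [ext, dif_neg hq, (hx q (by omega)).1]
    · by_cases hq : j ≤ q.val
      · simp only [ext, up, Sum.elim_inl, Sum.elim_inr, dif_pos hq, Function.comp_apply, Sum.map_inl, Sum.map_inr]
        congr 3
        exact Fin.ext (by simp; omega)
      · simp [ext, dif_neg hq, (hx q (by omega)).2]
    · simp [ext, up]
  have hQ : ∀ y, Q₀ (ext y) = minQ F m a b y := fun y => by
    have hsum : ∀ f : Fin 3 → F, (∀ q : Fin 3, q.val < j → f q = 0) →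
        ∑ q, f q = ∑ r : Fin m, f ⟨j + r.val, hup r⟩ := fun f hf => by
      obtain rfl | rfl | rfl : j = 0 ∨ j = 1 ∨ j = 2 := by omega
      · obtain rfl : m = 3 := by omega
        simp [Fin.sum_univ_three]
      · obtain rfl : m = 2 := by omega
        simp [Fin.sum_univ_three, Fin.sum_univ_two, hf 0 (by simp)]
      · obtain rfl : m = 1 := by omega
        simp [Fin.sum_univ_three, hf 0 (by simp), hf 1 (by simp)]
    rw [minQ_apply, minQ_apply, plusQ_apply, plusQ_apply]
    congr 1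
    simp only [Cfsg.quadFormPlus, Function.comp_apply]
    rw [hsum _ (fun q hq => by simp [ext, show ¬ j ≤ q.val by omega])]
    refine Finset.sum_congr rfl fun r _ => ?_
    simp [ext]
  have hcard : Nat.card {x : Vm // x ≠ 0 ∧ Q₀ x = 0 ∧ ∀ s ∈ base (F := F) j, B₀ s x = 0} + 1 =
      Cfsg.Agent.Classical.OrthCount.zeros ⇑(minQ F m a b) := by
    have e0 : ext 0 = 0 := funext fun q => by rcases q with (q | q) | q <;> simp [ext]
    let e : Option {x : Vm // x ≠ 0 ∧ Q₀ x = 0 ∧ ∀ s ∈ base (F := F) j, B₀ s x = 0} ≃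
        {y // minQ F m a b y = 0} :=
      { toFun := fun o => o.elim ⟨0, QuadraticMap.map_zero _⟩ fun x => ⟨x.1 ∘ up, by
          rw [← hQ, hext _ ((mem_perp_base h x.1).1 x.2.2.2)]; exact x.2.2.1⟩
        invFun := fun y => if hy : y.1 = 0 then none else some ⟨ext y.1,
          fun e => hy (by rw [← hback y.1, e]; rfl), by rw [hQ]; exact y.2,
          (mem_perp_base h _).2 fun r hr => by simp [ext, show ¬ j ≤ r.val by omega]⟩
        left_inv := fun o => by
          rcases o with _ | x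
          · simp
          · have hx := hext _ ((mem_perp_base h x.1).1 x.2.2.2)
            have hne : x.1 ∘ up ≠ 0 := fun e => x.2.1 (by rw [← hx, e, e0])
            simp [hne, hx]
        right_inv := fun y => by
          by_cases hy : y.1 = 0
          · simp [hy, Subtype.ext_iff]
          · simp [hy, hback, Subtype.ext_iff] }
    have := Nat.card_congr e
    rw [Finite.card_option] at this
    exact this
  have hz := zeros_min (q := 3) h.card (k := m) h.hab
  rw [hz] at hcard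
  obtain rfl | rfl | rfl : m = 1 ∨ m = 2 ∨ m = 3 := by omega
  all_goals omega

theorem relIndex_not_dvd {E : Type v} [Group E] [Finite E] {π : E →* Cfsg.Omega F ⇑(Q₀)}
    (hs : Function.Surjective π) (i : Fin 3) :
    ¬ 3 ∣ (Descent.fixL π (insert (vE i) (base i.val))).relIndex (Descent.fixL π (base i.val)) := by
  classical
  obtain ⟨L, hL⟩ : ∃ L, L = Descent.fixL π (base (F := F) i.val) := ⟨_, rfl⟩
  rw [← hL]
  suffices e : (Descent.fixL π (insert (vE i) (base i.val))).relIndex L =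
      Nat.card {x : Vm // x ≠ 0 ∧ Q₀ x = 0 ∧ ∀ s ∈ base (F := F) i.val, B₀ s x = 0} by
    rw [e]; exact count_points h i
  have hbE : ∀ s ∈ base (F := F) i.val, B₀ s (vE i) = 0 := by
    refine (mem_perp_base h _).2 fun r hr => ?_
    have : r ≠ i := fun e => by rw [e] at hr; exact lt_irrefl _ hr
    simp [vE, this]
  have hne : (vE i : Vm) ≠ 0 := fun e => by simpa [vE] using congrFun e (Sum.inl (Sum.inl i))
  obtain ⟨f, hf⟩ : ∃ f : L → {x : Vm // x ≠ 0 ∧ Q₀ x = 0 ∧ ∀ s ∈ base (F := F) i.val, B₀ s x = 0},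
      ∀ x, (f x).1 = act (π x.1).1 (vE i) := by
    refine ⟨fun x => ⟨_, fun e => hne ?_, by rw [act_map]; exact (pair_EF h i).hu, fun s hs' => ?_⟩, fun x => rfl⟩
    · have := congrArg (act (π x.1).1⁻¹) e
      rwa [Spinor.act_inv_cancel, map_zero] at this
    · have hx' : act (π x.1).1 s = s := (hL.le x.2) s hs'
      conv_lhs => rw [← hx']
      rw [act_polar]
      exact hbE s hs'
  have hfs : Function.Surjective f := fun x => by
    obtain ⟨g, g1, g2⟩ := exists_to h i x.1 x.2.1 x.2.2.1 x.2.2.2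
    obtain ⟨e, he⟩ := hs g
    exact ⟨⟨e, hL ▸ fun s hs' => by rw [he]; exact g1 s hs'⟩, Subtype.ext (by rw [hf, he]; exact g2)⟩
  have hiff : ∀ x y : L, f x = f y ↔ x⁻¹ * y ∈ (Descent.fixL π (insert (vE i) (base i.val))).subgroupOf L := by
    intro x y
    rw [Subgroup.mem_subgroupOf, Subtype.ext_iff, hf, hf]
    constructor
    · intro e s hs'
      rcases hs' with rfl | hs'
      · rw [Subgroup.coe_mul, Subgroup.coe_inv, map_mul, map_inv, Subgroup.coe_mul, Subgroup.coe_inv, act_mul, ← e,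
          Spinor.act_inv_cancel]
      · exact (hL.le (x⁻¹ * y).2) s hs'
    · intro e
      have e1 := e (vE i) (Set.mem_insert _ _)
      rw [Subgroup.coe_mul, Subgroup.coe_inv, map_mul, map_inv, Subgroup.coe_mul, Subgroup.coe_inv, act_mul] at e1
      conv_lhs => rw [← e1]
      rw [← act_mul, mul_inv_cancel, act_one]
  refine Nat.card_congr (Equiv.ofBijective (Quotient.lift f fun x y hxy => (hiff x y).2
    (QuotientGroup.leftRel_apply.1 hxy)) ⟨fun p q => ?_, fun x => ?_⟩)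
  · induction p using Quotient.inductionOn
    induction q using Quotient.inductionOn
    exact fun e => Quotient.sound (QuotientGroup.leftRel_apply.2 ((hiff _ _).1 e))
  · obtain ⟨y, rfl⟩ := hfs x
    exact ⟨Quotient.mk _ y, rfl⟩

/-- No three-power kernel. -/
theorem three_trivial {E : Type v} [Group E] [Finite E] {π : E →* Cfsg.Omega F ⇑(Q₀)}
    (hs : Function.Surjective π) (hc : π.ker ≤ Subgroup.center E) (hperf : commutator E = ⊤)
    (hk : ∀ x, π x = 1 → ∃ n, x ^ 3 ^ n = 1) : π.ker = ⊥ := by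
  classical
  haveI : Fact (Nat.Prime 3) := ⟨Nat.prime_three⟩
  obtain ⟨e2, h2, h3⟩ := two_eq h
  rw [eq_bot_iff]
  intro z hz
  have hdesc : ∀ j ≤ 3, z ∈ ⁅Descent.fixL π (base (F := F) j), Descent.fixL π (base (F := F) j)⁆ := by
    intro j hj
    induction j with
    | zero =>
      have : Descent.fixL π (base (F := F) 0) = ⊤ := eq_top_iff.2 fun x _ s hs' => by
        obtain ⟨r, hr, -⟩ := hs'
        exact absurd hr (Nat.not_lt_zero _)
      rw [this, ← _root_.commutator_def, hperf]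
      trivial
    | succ j ih =>
      obtain ⟨i, rfl⟩ : ∃ i : Fin 3, i.val = j := ⟨⟨j, by omega⟩, rfl⟩
      obtain ⟨R⟩ := exists_rad h i
      rw [base_succ h i]
      have hperp : ∀ s ∈ base (F := F) i.val, B₀ s (vE i) = 0 ∧ B₀ s (vF i) = 0 := by
        rintro s ⟨r, hr, rfl | rfl⟩ <;>
          (have hne : i ≠ r := fun e => by rw [e] at hr; exact lt_irrefl _ hr
           rw [polar_E h, polar_F h]
           simp [vE, vF, hne])
      exact Descent.step R h2 hc hs hk (abelian_lifts h hc hs hk i R) (fun s hs' => (hperp s hs').1)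
        (fun s hs' => (hperp s hs').2) (relIndex_not_dvd h hs i) hz (ih (by omega))
  obtain ⟨n, hn⟩ := hk z hz
  obtain ⟨L, hL⟩ : ∃ L, L = Descent.fixL π (base (F := F) 3) := ⟨_, rfl⟩
  have hkL : π.ker ≤ L := fun x hx => hL ▸ fun s _ => by
    rw [show π x = 1 from hx, Subgroup.coe_one, act_one]
  have hind : ¬ 3 ∣ π.ker.relIndex L := by
    intro hd
    haveI hN : (π.ker.subgroupOf L).Normal := inferInstance
    rw [Subgroup.relIndex, Subgroup.index_eq_card] at hd
    obtain ⟨q, hq⟩ := exists_prime_orderOf_dvd_card' 3 hd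
    obtain ⟨y, rfl⟩ := QuotientGroup.mk'_surjective _ q
    have hy3 : π y.1 ^ 3 = 1 := by
      have := pow_orderOf_eq_one (QuotientGroup.mk' (π.ker.subgroupOf L) y)
      rw [hq, ← map_pow, QuotientGroup.mk'_apply, QuotientGroup.eq_one_iff, Subgroup.mem_subgroupOf] at this
      rw [← map_pow]; simpa using this
    have hy1 : π y.1 ≠ 1 := fun e => by
      rw [show QuotientGroup.mk' (π.ker.subgroupOf L) y = 1 from
        (QuotientGroup.eq_one_iff _).2 (Subgroup.mem_subgroupOf.2 e), orderOf_one] at hq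
      exact absurd hq (by decide)
    refine hy1 ?_
    obtain ⟨g, hg⟩ : ∃ g, g = (π y.1).1 := ⟨_, rfl⟩
    have hfix : ∀ r : Fin 3, act g (vE r) = vE r ∧ act g (vF r) = vF r := fun r =>
      ⟨hg ▸ (hL.le y.2) _ ⟨r, r.2, Or.inl rfl⟩, hg ▸ (hL.le y.2) _ ⟨r, r.2, Or.inr rfl⟩⟩
    have hg3 : ∀ v, act g (act g (act g v)) = v := fun v => by
      rw [← act_mul, ← act_mul, hg, ← pow_two, ← pow_succ, ← Subgroup.coe_pow, hy3, Subgroup.coe_one, act_one]
    have hc1 := coef_c h
    obtain ⟨u, hu⟩ : ∃ u : Vm, u = vW 1 0 := ⟨_, rfl⟩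
    obtain ⟨u', hu'⟩ : ∃ u' : Vm, u' = vW (-(a / 2)) 1 := ⟨_, rfl⟩
    have h4 : (4 : F) ≠ 0 := by
      rw [show (4 : F) = 2 * 2 by norm_num]; exact mul_ne_zero h2 h2
    have hb : b = 1 + a ^ 2 / 4 := by linear_combination hc1
    have hW : ∀ w : Vm, (∀ r, w (Sum.inl (Sum.inl r)) = 0 ∧ w (Sum.inl (Sum.inr r)) = 0) →
        ∃ s t, w = s • u + t • u' ∧ Q₀ w = s * s + t * t := by
      intro w hw
      refine ⟨w (Sum.inr 0) + a / 2 * w (Sum.inr 1), w (Sum.inr 1), ?_, ?_⟩
      · funext q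
        rcases q with (q | q) | q
        · simp [hu, hu', vW, (hw q).1]
        · simp [hu, hu', vW, (hw q).2]
        · fin_cases q <;> simp [hu, hu', vW]
          ring
      · rw [minQ_apply, show w ∘ Sum.inl = 0 from funext fun q => by
          rcases q with q | q
          · exact (hw q).1
          · exact (hw q).2, QuadraticMap.map_zero, hb]
        field_simp
        ring
    have hgW : ∀ w : Vm, (∀ r, w (Sum.inl (Sum.inl r)) = 0 ∧ w (Sum.inl (Sum.inr r)) = 0) →
        ∀ r, act g w (Sum.inl (Sum.inl r)) = 0 ∧ act g w (Sum.inl (Sum.inr r)) = 0 := by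
      intro w hw r
      constructor
      · rw [← polar_F h (act g w) r, ← (hfix r).2, act_polar, polar_F h]; exact (hw r).1
      · rw [← polar_E h (act g w) r, ← (hfix r).1, act_polar, polar_E h]; exact (hw r).2
    have hu0 : ∀ r, u (Sum.inl (Sum.inl r)) = 0 ∧ u (Sum.inl (Sum.inr r)) = 0 := fun r => by simp [hu, vW]
    have hu0' : ∀ r, u' (Sum.inl (Sum.inl r)) = 0 ∧ u' (Sum.inl (Sum.inr r)) = 0 := fun r => by simp [hu', vW]
    have q1 : Q₀ u = 1 := by simp [hu, vW, minQ_apply, Sum.elim_comp_inl, plusQ_apply, Cfsg.quadFormPlus]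
    have q2 : Q₀ u' = 1 := by
      simp [hu', vW, minQ_apply, Sum.elim_comp_inl, plusQ_apply, Cfsg.quadFormPlus]
      rw [hb]; field_simp; ring
    have o12 : B₀ u u' = 0 := by
      simp [hu, hu', vW, minQ_polar, Sum.elim_comp_inl, plusQ_polar]; field_simp; ring
    obtain ⟨s, t, e1, f1⟩ := hW _ (hgW u hu0)
    obtain ⟨s', t', e1', f1'⟩ := hW _ (hgW u' hu0')
    rw [act_map, q1] at f1
    rw [act_map, q2] at f1'
    have hort : 2 * (s * s' + t * t') = 0 := by
      have := act_polar g u u'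
      rw [o12, e1, e1'] at this
      simp only [QuadraticMap.polar_add_left, QuadraticMap.polar_add_right, QuadraticMap.polar_smul_left,
        QuadraticMap.polar_smul_right, OrthMult.polar_self', q1, q2, o12, QuadraticMap.polar_comm _ u' u,
        smul_eq_mul] at this
      linear_combination this
    have key : ∀ x y : F, act g (x • u + y • u') = (x * s + y * s') • u + (x * t + y * t') • u' := fun x y => by
      rw [map_add, map_smul, map_smul, e1, e1']
      module
    have c1 := hg3 u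
    have c2 := hg3 u'
    rw [e1, key, key] at c1
    rw [e1', key, key] at c2
    have p1 := congrArg (fun w : Vm => w (Sum.inr 1)) c1
    have p2 := congrArg (fun w : Vm => w (Sum.inr 0)) c1
    have p3 := congrArg (fun w : Vm => w (Sum.inr 1)) c2
    simp [hu, hu', vW] at p1 p2 p3
    have hsq : ∀ x y : F, 1 = x * x + y * y → x = 0 ∧ (y = 1 ∨ y = -1) ∨ y = 0 ∧ (x = 1 ∨ x = -1) := by
      intro x y hxy
      rcases three_cases h x with rfl | rfl | rfl <;> rcases three_cases h y with rfl | rfl | rfl <;>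
        simp at hxy ⊢
    have n1 : (-1 : F) ≠ 1 := fun e => h2 (by linear_combination -e)
    have ok : s = 1 ∧ t = 0 ∧ s' = 0 ∧ t' = 1 := by
      rcases hsq s t f1 with ⟨rfl, ht⟩ | ⟨rfl, hs1⟩
      · have ht' : t' = 0 := by
          have : t * t' = 0 := by
            rcases mul_eq_zero.1 hort with e | e
            · exact absurd e h2
            · linear_combination e
          rcases ht with rfl | rfl <;> simpa using this
        subst ht'
        rcases hsq s' 0 f1' with ⟨-, e | e⟩ | ⟨-, hs2⟩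
        · exact absurd e zero_ne_one
        · exact absurd e.symm (neg_ne_zero.2 one_ne_zero)
        rcases ht with rfl | rfl <;> rcases hs2 with rfl | rfl <;> simp at p1
      · have hs' : s' = 0 := by
          have : s * s' = 0 := by
            rcases mul_eq_zero.1 hort with e | e
            · exact absurd e h2
            · linear_combination e
          rcases hs1 with rfl | rfl <;> simpa using this
        subst hs'
        rcases hsq 0 t' f1' with ⟨-, ht2⟩ | ⟨-, e | e⟩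
        · rcases hs1 with rfl | rfl <;> rcases ht2 with rfl | rfl <;> simp [n1] at p2 p3 ⊢
        · exact absurd e zero_ne_one
        · exact absurd e.symm (neg_ne_zero.2 one_ne_zero)
    obtain ⟨rfl, rfl, rfl, rfl⟩ := ok
    simp only [one_smul, zero_smul, add_zero, zero_add] at e1 e1'
    refine Subtype.ext (act_ext fun v => ?_)
    rw [Subgroup.coe_one, act_one, ← hg]
    have hv : v = ∑ r : Fin 3, (v (Sum.inl (Sum.inl r)) • vE r + v (Sum.inl (Sum.inr r)) • vF r) +
        ((v (Sum.inr 0) + a / 2 * v (Sum.inr 1)) • u + v (Sum.inr 1) • u') := by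
      funext q
      rcases q with (q | q) | q
      · simp [Finset.sum_apply, vE, vF, hu, hu', vW, Pi.single_apply]
      · simp [Finset.sum_apply, vE, vF, hu, hu', vW, Pi.single_apply]
      · fin_cases q <;> simp [Finset.sum_apply, vE, vF, hu, hu', vW]
        ring
    conv_lhs => rw [hv]
    conv_rhs => rw [hv]
    simp only [map_add, map_sum, map_smul, (hfix _).1, (hfix _).2, e1, e1']
  have hd := Descent.mem_derived hkL hind (hc hz) (hL ▸ hdesc 3 le_rfl) hn
  have hab : ⁅π.ker, π.ker⁆ = ⊥ := by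
    rw [eq_bot_iff, Subgroup.commutator_le]
    intro x hx y hy
    exact Subgroup.mem_bot.2 (commutatorElement_eq_one_iff_commute.2 (Subgroup.mem_center_iff.1 (hc hy) x))
  rwa [hab] at hd

end Cfsg.Agent.OrthMult.Minus3
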