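import Cfsg.Agent.Lib.OrthMult.Minus3Three
import Cfsg.Agent.Lib.OrthMult.Embed
import Cfsg.Agent.Lib.OrthMult.Sections
import Cfsg.Agent.Lib.PlusMult.Main
import Cfsg.Agent.S0306
import Cfsg.Agent.S0102

/-!
A perfect central extension of the eight-dimensional minus type group over three elements has kernel of order
at most two.
-/

set_option autoImplicit false
set_option linter.unusedSectionVars false
set_option linter.unusedSimpArgs false

open scoped commutatorElement

namespace Cfsg.Agent.OrthMult.Minus3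

open Cfsg.Agent.Forms Cfsg.Agent.Forms.QuadStd Cfsg.Agent.Forms.Reflections Cfsg.Agent.Forms.PlusStd
  Cfsg.Agent.Classical.Orth Cfsg.Agent.Classical.OrthForms Cfsg.Agent.Classical.OmegaCrit Module PlusMult

universe u v

variable {F : Type u} [Field F] [Fintype F] {a b : F}

local notation "Q₀" => minQ F 3 a b
local notation "B₀" => QuadraticMap.polar (minQ F 3 a b)
local notation "Vm" => ((Fin 3 ⊕ Fin 3) ⊕ Fin 2 → F)
set_option quotPrecheck false in
local notation "Ω₀" => Cfsg.Omega F (DFunLike.coe (minQ F 3 a b))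

variable (h : Three a b)
include h

theorem plane_vectors : Q₀ (vW 1 0) = 1 ∧ Q₀ (vW (-(a / 2)) 1) = 1 ∧ B₀ (vW 1 0) (vW (-(a / 2)) 1) = 0 := by
  obtain ⟨-, h2, -⟩ := two_eq h
  have h4 : (4 : F) ≠ 0 := by
    rw [show (4 : F) = 2 * 2 by norm_num]; exact mul_ne_zero h2 h2
  have hb : b = 1 + a ^ 2 / 4 := by linear_combination coef_c h
  refine ⟨?_, ?_, ?_⟩
  · simp [vW, minQ_apply, Sum.elim_comp_inl, plusQ_apply, Cfsg.quadFormPlus]
  · simp [vW, minQ_apply, Sum.elim_comp_inl, plusQ_apply, Cfsg.quadFormPlus]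
    rw [hb]; field_simp; ring
  · simp [vW, minQ_polar, Sum.elim_comp_inl, plusQ_polar]; field_simp; ring

theorem plane_span {w : Vm} (hw : w ∘ Sum.inl = 0) :
    w = (w (Sum.inr 0) + a / 2 * w (Sum.inr 1)) • vW 1 0 + w (Sum.inr 1) • vW (-(a / 2)) 1 := by
  funext i
  rcases i with i | i
  · have := congrFun hw i
    simp [vW] at this ⊢
    exact this
  · fin_cases i <;> simp [vW]
    ring

/-- The plus type space as the orthogonal of the anisotropic plane. -/
noncomputable def decPlane : Embed.Dec (Q₀) (plusQ F 3) (Fin 2 → F) where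
  e :=
    { toFun := fun v => (v ∘ Sum.inr, v ∘ Sum.inl)
      map_add' := fun _ _ => rfl
      map_smul' := fun _ _ => rfl
      invFun := fun p => Sum.elim p.2 p.1
      left_inv := fun v => funext fun i => by rcases i with i | i <;> rfl
      right_inv := fun p => rfl }
  c := 1
  hc := one_ne_zero
  sum t w := by
    show minQ F 3 a b (Sum.elim w t) = minQ F 3 a b (Sum.elim 0 t) + 1 * plusQ F 3 w
    simp [minQ_apply, Sum.elim_comp_inl]
    ring
  perp x hx := by
    have hz : ∀ y, QuadraticMap.polar (minQ F 0 a b) (Sum.elim 0 (x ∘ Sum.inr)) y = 0 := fun y => by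
      have h1 : B₀ (Sum.elim 0 (y ∘ Sum.inr)) x = 0 := hx (y ∘ Sum.inr)
      have e0 : ∀ w : Fin 0 ⊕ Fin 0 → F, w = 0 := fun w => funext fun i => isEmptyElim i
      rw [minQ_polar] at h1 ⊢
      simp [Sum.elim_comp_inl, plusQ_polar] at h1 ⊢
      linear_combination h1
    have h0 := (minQ_nondeg 0 h.hab).1 _ hz
    funext i
    exact congrFun h0 (Sum.inr i)

/-- The setwise stabiliser of the anisotropic plane. -/
def setW {E : Type v} [Group E] [Finite E] (π : E →* Ω₀) : Subgroup E where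
  carrier := {x | ∀ w : Vm, w ∘ Sum.inl = 0 → (act (π x).1 w) ∘ Sum.inl = 0}
  one_mem' := fun w hw => by rw [map_one, Subgroup.coe_one, act_one]; exact hw
  mul_mem' := fun {x y} hx hy w hw => by
    rw [map_mul, Subgroup.coe_mul, act_mul]; exact hx _ (hy w hw)
  inv_mem' := fun {x} hx => by
    have hpow : ∀ n : ℕ, ∀ w : Vm, w ∘ Sum.inl = 0 → (act (π (x ^ n)).1 w) ∘ Sum.inl = 0 := by
      intro n
      induction n with
      | zero => intro w hw; rw [pow_zero, map_one, Subgroup.coe_one, act_one]; exact hw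
      | succ n ih =>
        intro w hw
        rw [pow_succ, map_mul, Subgroup.coe_mul, act_mul]
        exact ih _ (hx w hw)
    have e : x⁻¹ = x ^ (orderOf x - 1) := by
      refine inv_eq_of_mul_eq_one_right ?_
      rw [← pow_succ', Nat.sub_add_cancel (orderOf_pos x), pow_orderOf_eq_one]
    show ∀ w : Vm, w ∘ Sum.inl = 0 → (act (π x⁻¹).1 w) ∘ Sum.inl = 0
    rw [e]
    exact hpow _

theorem exists_word_ab : ∃ A B : Ω₀,
    act A.1 (vW 1 0) = -vW 1 0 ∧ act A.1 (vW (-(a / 2)) 1) = vW (-(a / 2)) 1 ∧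
    act B.1 (vW 1 0) = -vW (-(a / 2)) 1 ∧ act B.1 (vW (-(a / 2)) 1) = -vW 1 0 ∧
    A * A = 1 ∧ B * B = 1 ∧
    A.1 = reflect (Q₀) (vE 0 + vF 0) * reflect (Q₀) (vW 1 0) ∧
    (⁅A, B⁆).1 = reflect (Q₀) (vW 1 0) * reflect (Q₀) (vW (-(a / 2)) 1) := by
  obtain ⟨e2, h2, h3⟩ := two_eq h
  have hS := space3 h
  have hP := pair_EF h 0
  obtain ⟨qu, qu', o⟩ := plane_vectors h
  obtain ⟨u, hu⟩ : ∃ u : Vm, u = vW 1 0 := ⟨_, rfl⟩
  obtain ⟨u', hu'⟩ : ∃ u' : Vm, u' = vW (-(a / 2)) 1 := ⟨_, rfl⟩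
  rw [← hu, ← hu'] at o ⊢
  rw [← hu] at qu
  rw [← hu'] at qu'
  obtain ⟨p, hp⟩ : ∃ p : Vm, p = vE 0 + vF 0 := ⟨_, rfl⟩
  obtain ⟨n, hn⟩ : ∃ n : Vm, n = vE 0 + (-1 : F) • vF 0 := ⟨_, rfl⟩
  obtain ⟨s, hs⟩ : ∃ s : Vm, s = u + u' := ⟨_, rfl⟩
  rw [← hp]
  have o' : B₀ u' u = 0 := by rw [QuadraticMap.polar_comm]; exact o
  have Qp : Q₀ p = 1 := by
    rw [hp, QuadraticMap.map_add (Q₀), hP.hu, hP.hv, hP.huv]; ring
  have Qn : Q₀ n = -1 := by
    rw [hn, QuadraticMap.map_add (Q₀), QuadraticMap.map_smul, QuadraticMap.polar_smul_right, hP.hu, hP.hv, hP.huv]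
    simp
  have Qs : Q₀ s = -1 := by rw [hs, QuadraticMap.map_add (Q₀), qu, qu', o, ← e2]; ring
  have hW : ∀ w : Vm, w ∘ Sum.inl = 0 → B₀ p w = 0 ∧ B₀ n w = 0 := fun w hw => by
    have e1 : B₀ (vE 0) w = 0 := by
      rw [QuadraticMap.polar_comm, polar_E h]; exact congrFun hw _
    have e2 : B₀ (vF 0) w = 0 := by
      rw [QuadraticMap.polar_comm, polar_F h]; exact congrFun hw _
    simp [hp, hn, QuadraticMap.polar_add_left, QuadraticMap.polar_smul_left, e1, e2]
  have wu : u ∘ Sum.inl = 0 := by rw [hu]; exact Sum.elim_comp_inl _ _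
  have wu' : u' ∘ Sum.inl = 0 := by rw [hu']; exact Sum.elim_comp_inl _ _
  have ws : s ∘ Sum.inl = 0 := by rw [hs]; funext i; have := congrFun wu i; have := congrFun wu' i; simp_all
  have opn : B₀ p n = 0 := by
    simp [hp, hn, QuadraticMap.polar_add_left, QuadraticMap.polar_add_right, QuadraticMap.polar_smul_right,
      polar_self_zero hP.hu, polar_self_zero hP.hv, hP.huv, hP.hvu]
  have hF : Fintype.card F ≠ 2 := by rw [h.card]; decide
  have ne : (-1 : F) ≠ 0 := neg_ne_zero.2 one_ne_zero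
  have hB : reflect (Q₀) n * reflect (Q₀) s ∈ Ω₀ := by
    rw [mem_omega_iff hS.nondeg (Or.inl hF), map_mul,
      theta_reflect hS.nondeg (Or.inl hF) (by rw [Qn]; exact ne),
      theta_reflect hS.nondeg (Or.inl hF) (by rw [Qs]; exact ne), Qn, Qs]
    rcases Int.units_eq_one_or (chi (-1 : F)) with e | e <;> rw [e] <;> rfl
  have eu : act (reflect (Q₀) u) u = -u := by
    rw [act_reflect, OrthMult.polar_self', qu, inv_one, one_mul, mul_one]
    module
  have e3 : act (reflect (Q₀) s) u = -u' := by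
    rw [act_reflect, Qs, hs, QuadraticMap.polar_add_left, OrthMult.polar_self', qu, o',
      show ((-1 : F)⁻¹ * (2 * 1 + 0)) = 1 by rw [e2]; simp, one_smul]
    abel
  have e3' : act (reflect (Q₀) s) u' = -u := by
    rw [act_reflect, Qs, hs, QuadraticMap.polar_add_left, OrthMult.polar_self', qu', o,
      show ((-1 : F)⁻¹ * (0 + 2 * 1)) = 1 by rw [e2]; simp, one_smul]
    abel
  refine ⟨⟨_, NegLift.pair_mem_omega hS Qp qu⟩, ⟨_, hB⟩, ?_, ?_, ?_, ?_, Subtype.ext ?_, Subtype.ext ?_, rfl, ?_⟩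
  · rw [act_mul, eu, map_neg, act_reflect_fix (hW u wu).1]
  · rw [act_mul, act_reflect_fix o, act_reflect_fix (hW u' wu').1]
  · rw [act_mul, e3, map_neg, act_reflect_fix (hW u' wu').2]
  · rw [act_mul, e3', map_neg, act_reflect_fix (hW u wu).2]
  · exact NegLift.pair_sq (hW u wu).1
  · exact NegLift.pair_sq (hW s ws).2
  · have c1 := (NegLift.reflect_commute (hW u wu).2).eq
    have c2 := (NegLift.reflect_commute (hW s ws).1).eq
    have c3 := (NegLift.reflect_commute (hW u wu).1).eq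
    have c4 := (NegLift.reflect_commute (hW s ws).2).eq
    have c5 := (NegLift.reflect_commute opn).eq
    show reflect (Q₀) p * reflect (Q₀) u * (reflect (Q₀) n * reflect (Q₀) s) * (reflect (Q₀) p * reflect (Q₀) u)⁻¹ *
      (reflect (Q₀) n * reflect (Q₀) s)⁻¹ = reflect (Q₀) u * reflect (Q₀) u'
    have hi : ∀ v : Vm, (reflect (Q₀) v)⁻¹ = reflect (Q₀) v := fun v => inv_eq_of_mul_eq_one_right (reflect_sq v)
    have e4 : reflect (Q₀) s * reflect (Q₀) u * reflect (Q₀) s = reflect (Q₀) u' := by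
      have := Spinor.reflect_conj (reflect (Q₀) s) u
      rw [hi, e3] at this
      rw [this, ← neg_one_smul F u', Spinor.reflect_smul _ ne]
    rw [_root_.mul_inv_rev, _root_.mul_inv_rev, hi, hi, hi, hi]
    have hP' := reflect_sq (Q := Q₀) p
    have hN' := reflect_sq (Q := Q₀) n
    generalize reflect (Q₀) p = P at *
    generalize reflect (Q₀) n = N at *
    generalize reflect (Q₀) s = S at *
    generalize reflect (Q₀) u = U at *
    generalize reflect (Q₀) u' = U' at *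
    have cP : Commute P (U * N * S * U) :=
      (((show Commute P U from c3).mul_right c5).mul_right c2).mul_right c3
    calc P * U * (N * S) * (U * P) * (S * N) = P * (U * N * S * U) * P * (S * N) := by group
      _ = U * N * S * U * (P * P) * (S * N) := by rw [cP.eq]; group
      _ = U * N * (S * U * S) * N := by rw [hP']; group
      _ = U * (N * U') * N := by rw [e4]; group
      _ = U * U' := by
        have c6 : Commute N U' := by
          rw [← e4]
          exact ((show Commute N S from c4).mul_right (show Commute N U from c1)).mul_right (show Commute N S from c4)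
        rw [c6.eq, mul_assoc, mul_assoc, hN', mul_one]

/-- A kernel of two-power order has order at most two. -/
theorem two_bound {E : Type v} [Group E] [Finite E] {π : E →* Ω₀}
    (hs : Function.Surjective π) (hc : π.ker ≤ Subgroup.center E) (hperf : commutator E = ⊤)
    (hk : ∀ x, π x = 1 → ∃ n, x ^ 2 ^ n = 1) : Nat.card π.ker ≤ 2 := by
  classical
  haveI : Fact (Nat.Prime 2) := ⟨Nat.prime_two⟩
  obtain ⟨e2, h2, h3⟩ := two_eq h
  have hS := space3 h
  have hF : Fintype.card F ≠ 2 := by rw [h.card]; decide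
  obtain ⟨qu, qu', ouu⟩ := plane_vectors h
  obtain ⟨Φ, hΦ, hΦv, hr⟩ := Embed.omega_hom (decPlane h) hS.nondeg (plusQ_nondeg F 3) hF
  have hKperf : ⁅Φ.range, Φ.range⁆ = Φ.range := by
    refine Embed.fixer_perfect (decPlane h) hS.nondeg (plusQ_nondeg F 3) hF
      (commutator_omega_eq_top (plusQ_nondeg F 3) (plusFrame F le_rfl) (by simp)) hr
  have hK0 : ∀ g : Ω₀, g ∈ Φ.range ↔ ∀ w : Vm, w ∘ Sum.inl = 0 → act g.1 w = w := fun g => by
    rw [hr]
    constructor
    · intro hg w hw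
      have e : w = Sum.elim (0 : Fin 3 ⊕ Fin 3 → F) (w ∘ Sum.inr) := funext fun i => by
        rcases i with i | i
        · exact congrFun hw i
        · rfl
      rw [e]; exact hg _
    · exact fun hg t => hg _ (Sum.elim_comp_inl _ _)
  obtain ⟨K, hKd⟩ : ∃ K, K = (Φ.range).comap π := ⟨_, rfl⟩
  obtain ⟨D, hD⟩ : ∃ D, D = ⁅K, K⁆ := ⟨_, rfl⟩
  obtain ⟨hDm, hDp⟩ := Sections.derived_preimage hc (by rw [MonoidHom.range_eq_top.2 hs]; exact le_top) hKperf
    (hKd ▸ hD)
  -- the part inside the plus type group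
  have hDker : Nat.card ((D ⊓ π.ker : Subgroup E)) ≤ 2 := by
    obtain ⟨τ, hτ⟩ : ∃ τ : Φ.range ≃* Cfsg.Omega F ⇑(plusQ F 3), True :=
      ⟨(MonoidHom.ofInjective hΦ).symm, trivial⟩
    have hmem : ∀ x : D, π x.1 ∈ Φ.range := fun x => hDm.le ⟨x.1, x.2, rfl⟩
    obtain ⟨p, hp⟩ : ∃ p : D →* Φ.range, ∀ x, (p x).1 = π x.1 :=
      ⟨(π.comp D.subtype).codRestrict _ hmem, fun x => rfl⟩
    have hps : Function.Surjective p := fun g => by
      obtain ⟨x, hx, e⟩ := hDm.ge g.2
      exact ⟨⟨x, hx⟩, Subtype.ext (by rw [hp]; exact e)⟩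
    obtain ⟨π₀, hπ₀⟩ : ∃ π₀ : D →* CurtisTitsD.Oplus 3 F, π₀ =
        (Cfsg.Omega F ⇑(plusQ F 3)).subtype.comp (τ.toMonoidHom.comp p) := ⟨_, rfl⟩
    have hker : ∀ x : D, π₀ x = 1 ↔ π x.1 = 1 := fun x => by
      rw [hπ₀, MonoidHom.comp_apply, MonoidHom.comp_apply, Subgroup.coe_subtype, OneMemClass.coe_eq_one,
        MulEquiv.coe_toMonoidHom, map_eq_one_iff τ τ.injective, Subtype.ext_iff, hp]
      rfl
    have hrange : π₀.range = commutator (CurtisTitsD.Oplus 3 F) := by
      rw [hπ₀, MonoidHom.range_comp, MonoidHom.range_eq_top.2 (τ.surjective.comp hps), ← MonoidHom.range_eq_map,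
        Subgroup.range_subtype]
    have := PlusMult.card_ker_le_three le_rfl (by rw [Nat.card_eq_fintype_card, h.card]) D π₀ hDp
      (fun x hx => Subgroup.mem_center_iff.2 fun y =>
        Subtype.ext (Subgroup.mem_center_iff.1 (hc ((hker x).1 hx)) y.1)) hrange fun x hx => by
        obtain ⟨n, hn⟩ := hk x.1 ((hker x).1 hx)
        exact ⟨n, Subtype.ext (by rw [Subgroup.coe_pow]; exact hn)⟩
    refine le_trans (Nat.card_le_card_of_injective
      (fun x : (D ⊓ π.ker : Subgroup E) => (⟨⟨x.1, x.2.1⟩, (hker ⟨x.1, x.2.1⟩).2 x.2.2⟩ : π₀.ker)) ?_) this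
    intro x y e
    exact Subtype.ext (congrArg (fun q : π₀.ker => q.1.1) e)
  suffices hle : π.ker ≤ D by
    rwa [inf_eq_right.2 hle] at hDker
  -- the setwise stabiliser
  obtain ⟨H, hH⟩ : ∃ H, H = setW π := ⟨_, rfl⟩
  obtain ⟨A, B, Au, Au', Bu, Bu', AA, BB, hA, hAB⟩ := exists_word_ab h
  obtain ⟨ta, hta⟩ := hs A
  obtain ⟨tb, htb⟩ := hs B
  obtain ⟨u, hu⟩ : ∃ u : Vm, u = vW 1 0 := ⟨_, rfl⟩
  obtain ⟨u', hu'⟩ : ∃ u' : Vm, u' = vW (-(a / 2)) 1 := ⟨_, rfl⟩
  rw [← hu] at ouu Au Bu'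
  rw [← hu'] at ouu Au' Bu Bu'
  rw [← hu] at Bu
  rw [← hu] at qu hA hAB
  rw [← hu'] at qu' hAB
  have wu : u ∘ Sum.inl = 0 := by rw [hu]; exact Sum.elim_comp_inl _ _
  have wu' : u' ∘ Sum.inl = 0 := by rw [hu']; exact Sum.elim_comp_inl _ _
  have hspan : ∀ w : Vm, w ∘ Sum.inl = 0 → ∃ s t : F, w = s • u + t • u' := fun w hw =>
    ⟨_, _, hu.symm ▸ hu'.symm ▸ plane_span h hw⟩
  have hKfix : ∀ x : E, act (π x).1 u = u → act (π x).1 u' = u' → x ∈ K := fun x e1 e1' => by
    rw [hKd, Subgroup.mem_comap, hK0]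
    intro w hw
    obtain ⟨s, t, rfl⟩ := hspan w hw
    rw [map_add, map_smul, map_smul, e1, e1']
  have hHof : ∀ x : E, (act (π x).1 u) ∘ Sum.inl = 0 → (act (π x).1 u') ∘ Sum.inl = 0 → x ∈ H := by
    intro x e1 e1'
    rw [hH]
    intro w hw
    obtain ⟨s, t, rfl⟩ := hspan w hw
    rw [map_add, map_smul, map_smul]
    funext i
    have := congrFun e1 i
    have := congrFun e1' i
    simp_all
  have hneg : ∀ {w : Vm}, w ∘ Sum.inl = 0 → (-w) ∘ Sum.inl = 0 := fun {w} hw => by
    funext i; have := congrFun hw i; simp_all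
  have hKH : K ≤ H := fun x hx => by
    rw [hKd, Subgroup.mem_comap, hK0] at hx
    exact hHof x (by rw [hx u wu]; exact wu) (by rw [hx u' wu']; exact wu')
  have haH : ta ∈ H := hHof _ (by rw [hta, Au]; exact hneg wu) (by rw [hta, Au']; exact wu')
  have hbH : tb ∈ H := hHof _ (by rw [htb, Bu]; exact hneg wu') (by rw [htb, Bu']; exact hneg wu)
  -- the eight cosets
  obtain ⟨word, hword⟩ : ∃ word : Fin 8 → E,
      word = ![1, ta, tb * ta, ta * tb * ta, tb, ta * tb, tb * ta * tb, ta * tb * ta * tb] := ⟨_, rfl⟩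
  obtain ⟨img, himg⟩ : ∃ img : Fin 8 → Vm × Vm,
      img = ![(u, u'), (-u, u'), (u', -u), (u', u), (-u', -u), (-u', u), (u, -u'), (-u, -u')] := ⟨_, rfl⟩
  have hwimg : ∀ r, act (π (word r)).1 u = (img r).1 ∧ act (π (word r)).1 u' = (img r).2 := by
    intro r
    fin_cases r <;>
      simp [hword, himg, hta, htb, Subgroup.coe_mul, act_mul, act_one, Au, Au', Bu, Bu', map_neg]
  have huu' : ∀ s t : F, s • u + t • u' = 0 → s = 0 ∧ t = 0 := fun s t e => by
    have p1 := congrArg (fun w : Vm => w (Sum.inr 1)) e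
    have p0 := congrArg (fun w : Vm => w (Sum.inr 0)) e
    simp [hu, hu', vW] at p1 p0
    subst p1
    simpa using p0
  have himg_inj : Function.Injective img := by
    have ne1 : u ≠ -u := fun e => h2 (huu' 2 0 (by rw [zero_smul, add_zero, two_smul]; exact eq_neg_iff_add_eq_zero.1 e)).1
    have ne1' : u' ≠ -u' := fun e => h2 (huu' 0 2 (by rw [zero_smul, zero_add, two_smul]; exact eq_neg_iff_add_eq_zero.1 e)).2
    have ne2 : u ≠ u' := fun e => one_ne_zero (huu' 1 (-1) (by rw [e]; module)).1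
    have ne3 : u ≠ -u' := fun e => one_ne_zero (huu' 1 1 (by rw [e]; module)).1
    have ne4 : -u ≠ u' := fun e => ne3 (neg_eq_iff_eq_neg.1 e)
    intro r s e
    fin_cases r <;> fin_cases s <;>
      simp [himg, Prod.ext_iff, ne1, ne1.symm, ne1', ne1'.symm, ne2, ne2.symm, ne3, ne3.symm, ne4, ne4.symm,
        neg_inj] at e ⊢
  have hclass : ∀ x ∈ H, ∃ r, (word r)⁻¹ * x ∈ K := by
    intro x hx
    rw [hH] at hx
    obtain ⟨s, t, e⟩ := hspan _ (hx u wu)
    obtain ⟨s', t', e'⟩ := hspan _ (hx u' wu')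
    have hval : ∀ p q : F, Q₀ (p • u + q • u') = p * p + q * q := fun p q => by
      rw [QuadraticMap.map_add (Q₀), QuadraticMap.map_smul, QuadraticMap.map_smul, qu, qu',
        QuadraticMap.polar_smul_left, QuadraticMap.polar_smul_right, ouu]
      simp
    have f1 : 1 = s * s + t * t := by rw [← hval, ← e, act_map, qu]
    have f1' : 1 = s' * s' + t' * t' := by rw [← hval, ← e', act_map, qu']
    have hort : 2 * (s * s' + t * t') = 0 := by
      have := act_polar (π x).1 u u'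
      rw [ouu, e, e'] at this
      simp only [QuadraticMap.polar_add_left, QuadraticMap.polar_add_right, QuadraticMap.polar_smul_left,
        QuadraticMap.polar_smul_right, OrthMult.polar_self', qu, qu', ouu, QuadraticMap.polar_comm _ u' u,
        smul_eq_mul] at this
      linear_combination this
    obtain ⟨r, hr1, hr2⟩ : ∃ r, act (π x).1 u = (img r).1 ∧ act (π x).1 u' = (img r).2 := by
      rw [e, e']
      rcases three_cases h s with rfl | rfl | rfl <;> rcases three_cases h t with rfl | rfl | rfl <;>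
        simp at f1 <;>
        rcases three_cases h s' with rfl | rfl | rfl <;> rcases three_cases h t' with rfl | rfl | rfl <;>
        simp at f1' <;> simp [h2] at hort <;>
        first
          | (refine ⟨0, ?_, ?_⟩ <;> (simp [himg]; done))
          | (refine ⟨1, ?_, ?_⟩ <;> (simp [himg]; done))
          | (refine ⟨2, ?_, ?_⟩ <;> (simp [himg]; done))
          | (refine ⟨3, ?_, ?_⟩ <;> (simp [himg]; done))
          | (refine ⟨4, ?_, ?_⟩ <;> (simp [himg]; done))
          | (refine ⟨5, ?_, ?_⟩ <;> (simp [himg]; done))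
          | (refine ⟨6, ?_, ?_⟩ <;> (simp [himg]; done))
          | (refine ⟨7, ?_, ?_⟩ <;> (simp [himg]; done))
    refine ⟨r, hKfix _ ?_ ?_⟩
    · rw [map_mul, map_inv, Subgroup.coe_mul, Subgroup.coe_inv, act_mul, hr1, ← (hwimg r).1, Spinor.act_inv_cancel]
    · rw [map_mul, map_inv, Subgroup.coe_mul, Subgroup.coe_inv, act_mul, hr2, ← (hwimg r).2, Spinor.act_inv_cancel]
  -- the index is odd
  have hrel : K.relIndex H = 8 := by
    have hwH : ∀ r, word r ∈ H := fun r => by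
      fin_cases r <;> simp [hword] <;>
        first
          | exact one_mem _
          | exact haH
          | exact hbH
          | exact mul_mem hbH haH
          | exact mul_mem haH hbH
          | exact mul_mem (mul_mem haH hbH) haH
          | exact mul_mem (mul_mem hbH haH) hbH
          | exact mul_mem (mul_mem (mul_mem haH hbH) haH) hbH
    obtain ⟨f, hf⟩ : ∃ f : Fin 8 → H ⧸ K.subgroupOf H, f = fun r => QuotientGroup.mk ⟨word r, hwH r⟩ := ⟨_, rfl⟩
    have hb : Function.Bijective f := by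
      refine ⟨fun r s e => himg_inj ?_, fun q => ?_⟩
      · rw [hf] at e
        simp only [QuotientGroup.eq, Subgroup.mem_subgroupOf] at e
        rw [hKd, Subgroup.mem_comap, hK0] at e
        have k1 := congrArg (act (π (word r)).1) (e u wu)
        have k2 := congrArg (act (π (word r)).1) (e u' wu')
        simp only [Subgroup.coe_mul, Subgroup.coe_inv, map_mul, map_inv, ← act_mul, mul_inv_cancel_left] at k1 k2
        exact Prod.ext ((hwimg r).1.symm.trans (k1.symm.trans (hwimg s).1))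
          ((hwimg r).2.symm.trans (k2.symm.trans (hwimg s).2))
      · induction q using QuotientGroup.induction_on with
        | H x =>
          obtain ⟨r, hr⟩ := hclass x.1 x.2
          exact ⟨r, by rw [hf]; exact QuotientGroup.eq.2 (Subgroup.mem_subgroupOf.2 hr)⟩
    rw [Subgroup.relIndex, Subgroup.index_eq_card, ← Nat.card_eq_of_bijective f hb, Nat.card_fin]
  have hodd : ¬ 2 ∣ H.relIndex ⊤ := by
    obtain ⟨k, hk8⟩ : ∃ k, k = Nat.card (Cfsg.Omega F ⇑(plusQ F 3)) := ⟨_, rfl⟩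
    obtain ⟨w, hw⟩ : ∃ w, w = Nat.card Ω₀ := ⟨_, rfl⟩
    have hKc : K.index * k = w := by
      rw [hKd, Subgroup.index_comap_of_surjective _ hs, hk8, hw,
        Nat.card_congr (MonoidHom.ofInjective hΦ).toEquiv, Subgroup.index_mul_card]
    rw [← Subgroup.relIndex_mul_index hKH, hrel] at hKc
    have hk4 : k * 4 = 2 * 3 ^ 6 * (3 ^ 3 - 1) * ((3 ^ 2 - 1) * (3 ^ 4 - 1)) := by
      have h1 := natCard_O_plus (F := F) (q := 3) h.card 2
      rw [← (Cfsg.Omega F ⇑(plusQ F 3)).card_mul_index, ← hk8,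
        Spinor.omega_index (plusQ_nondeg F 3) h2 (by simp)] at h1
      rw [h1]
      simp [Finset.prod_range_succ]
    have hw4 : w * 4 = 2 * 3 ^ 12 * (3 ^ 4 + 1) * ((3 ^ 2 - 1) * (3 ^ 4 - 1) * (3 ^ 6 - 1)) := by
      have h0 : Nat.card (Cfsg.isometryGroup F ⇑(minQ F 0 a b)) = 2 * (3 + 1) := by
        obtain ⟨e⟩ := S0306.result h.card a b h.hab
        rw [minQ_eq, Nat.card_congr e.toEquiv, DihedralGroup.nat_card]
      have h1 := natCard_O_min (F := F) (q := 3) h.card h.hab h0 3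
      rw [← (Ω₀).card_mul_index, ← hw, Spinor.omega_index hS.nondeg h2 (by simp)] at h1
      rw [h1]
      simp [Finset.prod_range_succ]
    rw [Subgroup.relIndex_top_right]
    intro hd
    norm_num at hk4 hw4
    obtain ⟨m, hm⟩ := hd
    rw [hm] at hKc
    have hw' : w = 16 * m * k := by rw [← hKc]; ring
    rw [hw', show 16 * m * k * 4 = 16 * m * (k * 4) by ring, hk4] at hw4
    omega
  -- the commutator of the two lifts
  obtain ⟨c, hcd⟩ : ∃ c, c = ⁅ta, tb⁆ := ⟨_, rfl⟩
  have hsqz : ∀ {x : E}, π x * π x = 1 → x * x ∈ Subgroup.center E := fun {x} e =>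
    hc (by rw [MonoidHom.mem_ker, map_mul, e])
  have za := hsqz (x := ta) (by rw [hta, AA])
  have zb := hsqz (x := tb) (by rw [htb, BB])
  have hca : ta * c * ta⁻¹ = c⁻¹ := by
    have : ⁅ta * ta, tb⁆ = 1 := commutatorElement_eq_one_iff_commute.2 (Subgroup.mem_center_iff.1 za tb).symm
    rw [show ⁅ta * ta, tb⁆ = ta * ⁅ta, tb⁆ * ta⁻¹ * ⁅ta, tb⁆ by simp only [commutatorElement_def]; group,
      ← hcd] at this
    exact eq_inv_of_mul_eq_one_left this
  have hcb : tb * c * tb⁻¹ = c⁻¹ := by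
    have : ⁅ta, tb * tb⁆ = 1 := commutatorElement_eq_one_iff_commute.2 (Subgroup.mem_center_iff.1 zb ta)
    rw [show ⁅ta, tb * tb⁆ = ⁅ta, tb⁆ * (tb * ⁅ta, tb⁆ * tb⁻¹) by simp only [commutatorElement_def]; group,
      ← hcd] at this
    exact eq_inv_of_mul_eq_one_right this
  have hcπ : (π c).1 = reflect (Q₀) u * reflect (Q₀) u' := by rw [hcd, map_commutatorElement, hta, htb, hAB]
  have hc2 : c * c ∈ D := by
    have hD0 : ∀ p q r : Vm, p ∈ ({vE 0 + vF 0, vE 1 + vF 1, vE 2 + vF 2} : Set Vm) →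
        q ∈ ({vE 0 + vF 0, vE 1 + vF 1, vE 2 + vF 2} : Set Vm) →
        r ∈ ({vE 0 + vF 0, vE 1 + vF 1, vE 2 + vF 2} : Set Vm) → ∀ x y : E,
        (π x).1 = reflect (Q₀) p * reflect (Q₀) q → (π y).1 = reflect (Q₀) q * reflect (Q₀) r → ⁅x, y⁆ ∈ D := by
      intro p q r hp hq hr x y hx hy
      have hperp : ∀ z ∈ ({vE 0 + vF 0, vE 1 + vF 1, vE 2 + vF 2} : Set Vm), ∀ w : Vm, w ∘ Sum.inl = 0 →
          act (reflect (Q₀) z) w = w := by
        intro z hz w hw
        refine act_reflect_fix ?_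
        have e1 : ∀ i, B₀ (vE i) w = 0 := fun i => by
          rw [QuadraticMap.polar_comm, polar_E h]; exact congrFun hw _
        have e2 : ∀ i, B₀ (vF i) w = 0 := fun i => by
          rw [QuadraticMap.polar_comm, polar_F h]; exact congrFun hw _
        simp only [Set.mem_insert_iff, Set.mem_singleton_iff] at hz
        rcases hz with rfl | rfl | rfl <;> simp [QuadraticMap.polar_add_left, e1, e2]
      rw [hD]
      refine Subgroup.commutator_mem_commutator ?_ ?_ <;> rw [hKd, Subgroup.mem_comap, hK0] <;> intro w hw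
      · rw [hx, act_mul, hperp q hq w hw, hperp p hp w hw]
      · rw [hy, act_mul, hperp r hr w hw, hperp q hq w hw]
    have hq : ∀ i : Fin 3, Q₀ (vE i + vF i) = 1 := fun i => by
      have hP := pair_EF h i
      rw [QuadraticMap.map_add (Q₀), hP.hu, hP.hv, hP.huv]; ring
    have ho : ∀ i j : Fin 3, i ≠ j → B₀ (vE i + vF i) (vE j + vF j) = 0 := fun i j hij => by
      simp only [QuadraticMap.polar_add_right, polar_E h, polar_F h]
      simp [vE, vF, hij, hij.symm]
    have oe : ∀ w : Vm, w ∘ Sum.inl = 0 → B₀ (vE 0 + vF 0) w = 0 := fun w hw => by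
      rw [QuadraticMap.polar_comm, QuadraticMap.polar_add_right, polar_E h, polar_F h]
      have h1 := congrFun hw (Sum.inr 0)
      have h2 := congrFun hw (Sum.inl 0)
      simp at h1 h2
      rw [h1, h2, add_zero]
    -- transport to a triple in the plus type space
    obtain ⟨g, hg, g1, g2⟩ := exists_tr hS (hq 0) qu (hq 1) (oe u wu) (ho 0 1 (by decide))
    have g3 : B₀ (vE 0 + vF 0) (act g u') = 0 := by rw [← g1, act_polar]; exact oe u' wu'
    have g4 : B₀ (vE 1 + vF 1) (act g u') = 0 := by rw [← g2, act_polar]; exact ouu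
    obtain ⟨k, hk', k1, k2, k3⟩ := exists_tr2 hS (hq 0) (hq 1) (v := act g u') (by rw [act_map]; exact qu') (hq 2)
      (ho 0 1 (by decide)) g3 (ho 0 2 (by decide)) g4 (ho 1 2 (by decide))
    obtain ⟨e, he⟩ := hs ⟨k * g, mul_mem hk' hg⟩
    have hconj : ∀ v w : Vm, k * g * (reflect (Q₀) v * reflect (Q₀) w) * (k * g)⁻¹ =
        reflect (Q₀) (act (k * g) v) * reflect (Q₀) (act (k * g) w) := fun v w => by
      rw [← Spinor.reflect_conj, ← Spinor.reflect_conj]; group
    have hin := hD0 (vE 0 + vF 0) (vE 1 + vF 1) (vE 2 + vF 2) (by simp) (by simp) (by simp)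
      (e * ta * e⁻¹) (e * c * e⁻¹)
      (by
        rw [map_mul, map_mul, map_inv, he, hta, Subgroup.coe_mul, Subgroup.coe_mul, Subgroup.coe_inv, hA, hconj,
          act_mul, act_mul, g1, k1, g2, k2])
      (by
        rw [map_mul, map_mul, map_inv, he, Subgroup.coe_mul, Subgroup.coe_mul, Subgroup.coe_inv, hcπ, hconj,
          act_mul, act_mul, g2, k2, k3])
    rw [show ⁅e * ta * e⁻¹, e * c * e⁻¹⁆ = e * ⁅ta, c⁆ * e⁻¹ by simp only [commutatorElement_def]; group] at hin
    have hz : ⁅ta, c⁆ ∈ Subgroup.center E := hc (by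
      rw [MonoidHom.mem_ker, map_commutatorElement, commutatorElement_eq_one_iff_commute]
      refine Subtype.ext ?_
      show (π ta).1 * (π c).1 = (π c).1 * (π ta).1
      rw [hta, hA, hcπ]
      exact (NegLift.pair_commute (oe u wu) ouu (oe u' wu')).eq)
    rw [Subgroup.mem_center_iff.1 hz e, mul_inv_cancel_right, commutatorElement_def, hca] at hin
    have := inv_mem hin
    rwa [_root_.mul_inv_rev, inv_inv] at this
  have hKn : ∀ x ∈ H, ∀ y ∈ K, x * y * x⁻¹ ∈ K := by
    intro x hx y hy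
    rw [hKd, Subgroup.mem_comap, hK0] at hy ⊢
    intro w hw
    have hi : (act (π x⁻¹).1 w) ∘ Sum.inl = 0 := (hH ▸ inv_mem hx) w hw
    rw [map_mul, map_mul, Subgroup.coe_mul, Subgroup.coe_mul, act_mul, act_mul, hy _ hi, ← act_mul,
      ← Subgroup.coe_mul, ← map_mul, mul_inv_cancel, map_one, Subgroup.coe_one, act_one]
  have hDn : ∀ x ∈ H, ∀ y ∈ D, x * y * x⁻¹ ∈ D := by
    intro x hx y hy
    rw [hD] at hy ⊢
    have hm : (⁅K, K⁆).map (MulAut.conj x).toMonoidHom ≤ ⁅K, K⁆ := by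
      rw [Subgroup.map_commutator]
      exact Subgroup.commutator_mono (fun _ ⟨z, hz, e⟩ => e ▸ hKn x hx z hz) (fun _ ⟨z, hz, e⟩ => e ▸ hKn x hx z hz)
    exact hm ⟨y, hy, rfl⟩
  obtain ⟨N, hN⟩ : ∃ N : Subgroup H, N = D.subgroupOf H := ⟨_, rfl⟩
  haveI : N.Normal := ⟨fun n hn g => by
    rw [hN, Subgroup.mem_subgroupOf] at hn ⊢
    exact hDn g.1 g.2 n.1 hn⟩
  obtain ⟨q, hqd⟩ : ∃ q : H →* H ⧸ N, q = QuotientGroup.mk' N := ⟨_, rfl⟩
  obtain ⟨a', ha'⟩ : ∃ a' : H, a'.1 = ta := ⟨⟨ta, haH⟩, rfl⟩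
  obtain ⟨b', hb'⟩ : ∃ b' : H, b'.1 = tb := ⟨⟨tb, hbH⟩, rfl⟩
  have hqN : ∀ x : H, x.1 ∈ D → q x = 1 := fun x hx => by
    rw [hqd]; exact (QuotientGroup.eq_one_iff _).2 (hN ▸ hx)
  have hKz : ∀ x : H, x.1 ∈ K → q x ∈ Subgroup.center (H ⧸ N) := by
    intro x hx
    rw [hKd, Subgroup.mem_comap] at hx
    obtain ⟨d, hd, ed⟩ := hDm.ge hx
    have hdH : d ∈ H := hKH (hD.le.trans (Subgroup.commutator_le_self K) hd)
    have hz : d⁻¹ * x.1 ∈ Subgroup.center E := hc (by rw [MonoidHom.mem_ker, map_mul, map_inv, ed, inv_mul_cancel])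
    refine Subgroup.mem_center_iff.2 fun y => ?_
    obtain ⟨y, rfl⟩ : ∃ y', q y' = y := by rw [hqd]; exact QuotientGroup.mk'_surjective N y
    have e : x = ⟨d, hdH⟩ * ⟨d⁻¹ * x.1, mul_mem (inv_mem hdH) x.2⟩ := Subtype.ext (mul_inv_cancel_left _ _).symm
    rw [e, map_mul, hqN ⟨d, hdH⟩ hd, one_mul, ← map_mul, ← map_mul]
    exact congrArg q (Subtype.ext (Subgroup.mem_center_iff.1 hz y.1))
  obtain ⟨W, hW⟩ : ∃ W : Subgroup (H ⧸ N), W = Subgroup.closure {q a', q b'} := ⟨_, rfl⟩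
  have hcover : ∀ x : H, ∃ w ∈ W, w⁻¹ * q x ∈ Subgroup.center (H ⧸ N) := by
    intro x
    obtain ⟨r, hr⟩ := hclass x.1 x.2
    have ma : q a' ∈ W := hW ▸ Subgroup.subset_closure (by simp)
    have mb : q b' ∈ W := hW ▸ Subgroup.subset_closure (by simp)
    have hwW : ∀ r, ∃ y : H, y.1 = word r ∧ q y ∈ W := by
      intro r
      fin_cases r
      · exact ⟨1, by simp [hword], by rw [map_one]; exact one_mem _⟩
      · exact ⟨a', by simp [hword, ha'], ma⟩
      · exact ⟨b' * a', by simp [hword, ha', hb'], by rw [map_mul]; exact mul_mem mb ma⟩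
      · exact ⟨a' * b' * a', by simp [hword, ha', hb'],
          by rw [map_mul, map_mul]; exact mul_mem (mul_mem ma mb) ma⟩
      · exact ⟨b', by simp [hword, hb'], mb⟩
      · exact ⟨a' * b', by simp [hword, ha', hb'], by rw [map_mul]; exact mul_mem ma mb⟩
      · exact ⟨b' * a' * b', by simp [hword, ha', hb'],
          by rw [map_mul, map_mul]; exact mul_mem (mul_mem mb ma) mb⟩
      · exact ⟨a' * b' * a' * b', by simp [hword, ha', hb'],
          by rw [map_mul, map_mul, map_mul]; exact mul_mem (mul_mem (mul_mem ma mb) ma) mb⟩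
    obtain ⟨y, hy, hyW⟩ := hwW r
    exact ⟨q y, hyW, by rw [← map_inv, ← map_mul]; exact hKz _ (by rw [Subgroup.coe_mul, Subgroup.coe_inv, hy]; exact hr)⟩
  obtain ⟨cb, hcb'⟩ : ∃ cb, cb = ⁅q a', q b'⁆ := ⟨_, rfl⟩
  have hcbv : cb = q ⁅a', b'⁆ := by rw [hcb', map_commutatorElement]
  have ca : q a' * cb * (q a')⁻¹ = cb⁻¹ := by
    rw [hcbv, ← map_inv, ← map_inv, ← map_mul, ← map_mul]
    exact congrArg q (Subtype.ext (by
      show a'.1 * ⁅a'.1, b'.1⁆ * a'.1⁻¹ = ⁅a'.1, b'.1⁆⁻¹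
      rw [ha', hb', ← hcd, hca]))
  have cbb : q b' * cb * (q b')⁻¹ = cb⁻¹ := by
    rw [hcbv, ← map_inv, ← map_inv, ← map_mul, ← map_mul]
    exact congrArg q (Subtype.ext (by
      show b'.1 * ⁅a'.1, b'.1⁆ * b'.1⁻¹ = ⁅a'.1, b'.1⁆⁻¹
      rw [ha', hb', ← hcd, hcb]))
  have hnormC : ∀ w ∈ W, ∀ y ∈ Subgroup.zpowers cb, w * y * w⁻¹ ∈ Subgroup.zpowers cb := by
    intro w hw
    rw [hW] at hw
    induction hw using Subgroup.closure_induction'' with
    | mem g hg =>
      intro y hy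
      obtain ⟨n, rfl⟩ := Subgroup.mem_zpowers_iff.1 hy
      rw [← conj_zpow]
      rcases hg with rfl | hg
      · rw [ca]; exact zpow_mem (inv_mem (Subgroup.mem_zpowers _)) n
      · rw [Set.mem_singleton_iff] at hg; subst hg
        rw [cbb]; exact zpow_mem (inv_mem (Subgroup.mem_zpowers _)) n
    | inv_mem g hg =>
      intro y hy
      obtain ⟨n, rfl⟩ := Subgroup.mem_zpowers_iff.1 hy
      rw [← conj_zpow]
      refine zpow_mem ?_ n
      rcases hg with rfl | hg
      · rw [inv_inv, show (q a')⁻¹ * cb * q a' = ((q a')⁻¹ * (q a' * cb * (q a')⁻¹) * q a')⁻¹ by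
          rw [ca]; group]
        simp only [mul_assoc, inv_mul_cancel_left, inv_mul_cancel, mul_one]
        exact inv_mem (Subgroup.mem_zpowers _)
      · rw [Set.mem_singleton_iff] at hg; subst hg
        rw [inv_inv, show (q b')⁻¹ * cb * q b' = ((q b')⁻¹ * (q b' * cb * (q b')⁻¹) * q b')⁻¹ by
          rw [cbb]; group]
        simp only [mul_assoc, inv_mul_cancel_left, inv_mul_cancel, mul_one]
        exact inv_mem (Subgroup.mem_zpowers _)
    | one => intro y hy; simpa using hy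
    | mul g g' _ _ ihg ihg' =>
      intro y hy
      rw [show g * g' * y * (g * g')⁻¹ = g * (g' * y * g'⁻¹) * g⁻¹ by group]
      exact ihg _ (ihg' y hy)
  obtain ⟨C, hC⟩ : ∃ C : Subgroup W, C = (Subgroup.zpowers cb).subgroupOf W := ⟨_, rfl⟩
  haveI : C.Normal := ⟨fun n hn g => by
    rw [hC, Subgroup.mem_subgroupOf] at hn ⊢
    exact hnormC g.1 g.2 n.1 hn⟩
  have hWcomm : ∀ w ∈ W, ∀ w' ∈ W, ⁅w, w'⁆ ∈ Subgroup.zpowers cb := by
    intro w hw w' hw'
    obtain ⟨S, hSdef⟩ : ∃ S : Set W, S = W.subtype ⁻¹' {q a', q b'} := ⟨_, rfl⟩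
    have htop : Subgroup.closure S = ⊤ := by
      rw [hSdef]
      subst hW
      exact Subgroup.closure_closure_coe_preimage
    have hgen : ∀ s ∈ S, ∀ t ∈ S, ⁅s, t⁆ ∈ C := by
      intro s hs' t ht
      rw [hC, Subgroup.mem_subgroupOf]
      show ⁅s.1, t.1⁆ ∈ _
      rw [hSdef] at hs' ht
      rcases hs' with e1 | e1 <;> rcases ht with e3 | e3 <;>
        simp only [Set.mem_singleton_iff, Subgroup.coe_subtype] at e1 e3 <;> rw [e1, e3]
      · rw [commutatorElement_self]; exact one_mem _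
      · exact hcb' ▸ Subgroup.mem_zpowers _
      · rw [← commutatorElement_inv, ← hcb']; exact inv_mem (Subgroup.mem_zpowers _)
      · rw [commutatorElement_self]; exact one_mem _
    have hcc : ∀ s ∈ S, ∀ t : W, Commute (QuotientGroup.mk' C s) (QuotientGroup.mk' C t) := by
      intro s hs' t
      have ht : t ∈ Subgroup.closure S := htop ▸ Subgroup.mem_top t
      induction ht using Subgroup.closure_induction with
      | mem y hy =>
        rw [← commutatorElement_eq_one_iff_commute, ← map_commutatorElement]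
        exact (QuotientGroup.eq_one_iff _).2 (hgen s hs' y hy)
      | one => rw [map_one]; exact Commute.one_right _
      | mul x y _ _ hx hy => rw [map_mul]; exact hx.mul_right hy
      | inv x _ hx => rw [map_inv]; exact hx.inv_right
    have hall : ∀ s t : W, Commute (QuotientGroup.mk' C s) (QuotientGroup.mk' C t) := by
      intro s t
      have hs' : s ∈ Subgroup.closure S := htop ▸ Subgroup.mem_top s
      induction hs' using Subgroup.closure_induction with
      | mem y hy => exact hcc y hy t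
      | one => rw [map_one]; exact Commute.one_left _
      | mul x y _ _ hx hy => rw [map_mul]; exact hx.mul_left hy
      | inv x _ hx => rw [map_inv]; exact hx.inv_left
    have := hall ⟨w, hw⟩ ⟨w', hw'⟩
    rw [← commutatorElement_eq_one_iff_commute, ← map_commutatorElement, QuotientGroup.mk'_apply,
      QuotientGroup.eq_one_iff, hC, Subgroup.mem_subgroupOf] at this
    exact this
  intro z hz
  obtain ⟨n, hn⟩ := hk z hz
  have hzH := Descent.mem_derived (le_top : H ≤ ⊤) hodd (hc hz)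
    (by rw [← _root_.commutator_def, hperf]; trivial) hn
  obtain ⟨y, hy, rfl⟩ : ∃ y : H, y ∈ commutator H ∧ y.1 = z := by
    obtain ⟨y, hy, e⟩ := (Subgroup.map_subtype_commutator H).ge hzH
    exact ⟨y, hy, e⟩
  have hqy : q y ∈ Subgroup.zpowers cb := by
    have hle : (commutator H).map q ≤ Subgroup.zpowers cb := by
      rw [_root_.commutator_def, Subgroup.map_commutator, Subgroup.commutator_le]
      rintro _ ⟨s, -, rfl⟩ _ ⟨t, -, rfl⟩
      obtain ⟨w, hw, ew⟩ := hcover s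
      obtain ⟨w', hw', ew'⟩ := hcover t
      rw [Lift.comm_congr ew ew']
      exact hWcomm w hw w' hw'
    exact hle ⟨y, hy, rfl⟩
  obtain ⟨m, hm⟩ := Subgroup.mem_zpowers_iff.1 hqy
  have hyN : (⁅a', b'⁆ ^ m)⁻¹ * y ∈ N := by
    rw [← QuotientGroup.eq_one_iff]
    show QuotientGroup.mk' N _ = 1
    rw [← hqd, map_mul, map_inv, map_zpow, ← hcbv, hm, inv_mul_cancel]
  rw [hN, Subgroup.mem_subgroupOf] at hyN
  have hval : ((⁅a', b'⁆ ^ m)⁻¹ * y).1 = (c ^ m)⁻¹ * y.1 := by
    show (⁅a'.1, b'.1⁆ ^ m)⁻¹ * y.1 = _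
    rw [ha', hb', hcd]
  rw [hval] at hyN
  rcases Int.even_or_odd m with ⟨r, rfl⟩ | ⟨r, rfl⟩
  · have : c ^ (r + r) ∈ D := by rw [← two_mul, zpow_mul, zpow_two]; exact zpow_mem hc2 r
    simpa using mul_mem this hyN
  · exfalso
    have h1 : c⁻¹ * y.1 ∈ D := by
      have h2' : c ^ (2 * r) ∈ D := by rw [zpow_mul, zpow_two]; exact zpow_mem hc2 r
      have := mul_mem h2' hyN
      rwa [show c ^ (2 * r) * ((c ^ (2 * r + 1))⁻¹ * y.1) = c⁻¹ * y.1 by rw [zpow_add, zpow_one]; group] at this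
    have h5 := hD.le.trans (Subgroup.commutator_le_self K) h1
    rw [hKd, Subgroup.mem_comap, map_mul, map_inv, show π y.1 = 1 from hz, mul_one, inv_mem_iff, hK0] at h5
    have h6 := h5 u wu
    rw [hcπ, act_mul, act_reflect_fix (show B₀ u' u = 0 by rw [QuadraticMap.polar_comm]; exact ouu), act_reflect,
      OrthMult.polar_self', qu, inv_one, one_mul, mul_one] at h6
    exact h2 (huu' 2 0 (by rw [zero_smul, add_zero]; exact sub_eq_self.1 h6)).1

theorem large_prime {E : Type v} [Group E] [Finite E] {π : E →* Ω₀}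
    (hs : Function.Surjective π) (hc : π.ker ≤ Subgroup.center E) (hperf : commutator E = ⊤)
    {r : ℕ} (hr : r.Prime) (h2r : r ≠ 2) (h3r : r ≠ 3) : ¬ r ∣ Nat.card π.ker := by
  classical
  haveI : Fact r.Prime := ⟨hr⟩
  obtain ⟨-, h2, -⟩ := two_eq h
  have hS := space3 h
  have hG : commutator (Ω₀) = ⊤ :=
    commutator_omega_eq_top hS.nondeg (minFrame F (by norm_num) a b) (by simp)
  refine S0102.result hG (fun P => ?_) π hs hc hperf
  have hd := P.1.card_subgroup_dvd_card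
  obtain ⟨j, hj⟩ := IsPGroup.iff_card.1 P.2
  rw [hj] at hd
  have h0 : Nat.card (Cfsg.isometryGroup F ⇑(minQ F 0 a b)) = 2 * (3 + 1) := by
    obtain ⟨e⟩ := S0306.result h.card a b h.hab
    rw [minQ_eq, Nat.card_congr e.toEquiv, DihedralGroup.nat_card]
  have h1 := natCard_O_min (F := F) (q := 3) h.card h.hab h0 3
  rw [← (Ω₀).card_mul_index, Spinor.omega_index hS.nondeg h2 (by simp)] at h1
  have hd2 : r ^ j ∣ 2 * 3 ^ ((3 + 1) * 3) * (3 ^ (3 + 1) + 1) * ∏ i ∈ Finset.range 3, (3 ^ (2 * (i + 1)) - 1) :=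
    h1 ▸ Dvd.dvd.mul_right hd 4
  have e : (2 * 3 ^ ((3 + 1) * 3) * (3 ^ (3 + 1) + 1) * ∏ i ∈ Finset.range 3, (3 ^ (2 * (i + 1)) - 1) : ℕ) =
      2 ^ 12 * 3 ^ 12 * (5 * 7 * 13 * 41) := by
    norm_num [Finset.prod_range_succ]
  rw [e] at hd2
  have hcop : (r ^ j).Coprime (2 ^ 12 * 3 ^ 12) :=
    Nat.Coprime.mul_right (Nat.Coprime.pow _ _ ((Nat.coprime_primes hr Nat.prime_two).2 h2r))
      (Nat.Coprime.pow _ _ ((Nat.coprime_primes hr Nat.prime_three).2 h3r))
  have hd3 := hcop.dvd_of_dvd_mul_left hd2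
  have hj1 : j ≤ 1 := by
    by_contra hj2
    have hsq : r * r ∣ 5 * 7 * 13 * 41 := (dvd_trans ((pow_two r).symm ▸ pow_dvd_pow r (by omega : 2 ≤ j)) hd3)
    have hp : r ∣ 5 * 7 * 13 * 41 := dvd_trans (Dvd.intro r rfl) hsq
    have hmem : r ∈ Nat.primeFactors (5 * 7 * 13 * 41) := Nat.mem_primeFactors.2 ⟨hr, hp, by norm_num⟩
    have hall : r = 5 ∨ r = 7 ∨ r = 13 ∨ r = 41 := by
      rcases (Nat.Prime.dvd_mul hr).1 hp with hp | hp
      · rcases (Nat.Prime.dvd_mul hr).1 hp with hp | hp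
        · rcases (Nat.Prime.dvd_mul hr).1 hp with hp | hp
          · exact Or.inl ((Nat.prime_dvd_prime_iff_eq hr (by norm_num)).1 hp)
          · exact Or.inr (Or.inl ((Nat.prime_dvd_prime_iff_eq hr (by norm_num)).1 hp))
        · exact Or.inr (Or.inr (Or.inl ((Nat.prime_dvd_prime_iff_eq hr (by norm_num)).1 hp)))
      · exact Or.inr (Or.inr (Or.inr ((Nat.prime_dvd_prime_iff_eq hr (by norm_num)).1 hp)))
    rcases hall with rfl | rfl | rfl | rfl <;> norm_num at hsq
  rcases Nat.le_one_iff_eq_zero_or_eq_one.1 hj1 with rfl | rfl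
  · haveI : Subsingleton P.1 := (Nat.card_eq_one_iff_unique.1 (by rw [hj, pow_zero])).1
    exact isCyclic_of_subsingleton
  · exact isCyclic_of_prime_card (by rw [hj, pow_one])

/-- The bound. -/
theorem minus_three_ker_le (E : Type v) [Group E] [Finite E] (π : E →* Ω₀)
    (hs : Function.Surjective π) (hc : π.ker ≤ Subgroup.center E) (hperf : commutator E = ⊤) :
    Nat.card π.ker ≤ 2 := by
  classical
  have hnot3 : ¬ 3 ∣ Nat.card π.ker := by
    intro hd
    haveI : Fact (Nat.Prime 3) := ⟨Nat.prime_three⟩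
    obtain ⟨n, hn⟩ : ∃ n, n = Nat.card π.ker := ⟨_, rfl⟩
    obtain ⟨⟨z, hz⟩, hzo⟩ := exists_prime_orderOf_dvd_card' 3 hd
    rw [Subgroup.orderOf_mk] at hzo
    let N : Subgroup E :=
      { carrier := {x | x ∈ π.ker ∧ x ^ (ordCompl[3] n) = 1}
        one_mem' := ⟨one_mem _, one_pow _⟩
        mul_mem' := fun {x y} hx hy => ⟨mul_mem hx.1 hy.1, by
          rw [(show Commute x y from (Subgroup.mem_center_iff.1 (hc hx.1) y).symm).mul_pow, hx.2, hy.2, one_mul]⟩
        inv_mem' := fun {x} hx => ⟨inv_mem hx.1, by rw [inv_pow, hx.2, inv_one]⟩ }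
    haveI hNn : N.Normal := ⟨fun x hx g => by
      rwa [Subgroup.mem_center_iff.1 (hc hx.1) g, mul_inv_cancel_right]⟩
    let π' : E ⧸ N →* Ω₀ := QuotientGroup.lift N π fun x hx => hx.1
    have hk' : ∀ y, π' y = 1 → ∃ x ∈ π.ker, QuotientGroup.mk' N x = y := fun y hy => by
      obtain ⟨x, rfl⟩ := QuotientGroup.mk'_surjective N y
      exact ⟨x, hy, rfl⟩
    have := three_trivial h (π := π') (fun g => by obtain ⟨x, rfl⟩ := hs g; exact ⟨QuotientGroup.mk x, rfl⟩)
      (fun y hy => by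
        obtain ⟨x, hx, rfl⟩ := hk' y hy
        refine Subgroup.mem_center_iff.2 fun g => ?_
        obtain ⟨g, rfl⟩ := QuotientGroup.mk'_surjective N g
        rw [← map_mul, ← map_mul, Subgroup.mem_center_iff.1 (hc hx) g])
      (by
        rw [_root_.commutator_def, ← Subgroup.map_top_of_surjective (QuotientGroup.mk' N)
          (QuotientGroup.mk'_surjective N), ← Subgroup.map_commutator, ← _root_.commutator_def, hperf])
      (fun y hy => by
        obtain ⟨x, hx, rfl⟩ := hk' y hy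
        refine ⟨n.factorization 3, ?_⟩
        rw [← map_pow, QuotientGroup.mk'_apply, QuotientGroup.eq_one_iff]
        refine ⟨pow_mem hx _, ?_⟩
        rw [← pow_mul, Nat.ordProj_mul_ordCompl_eq_self, hn]
        exact congrArg Subtype.val (pow_card_eq_one' (x := (⟨x, hx⟩ : π.ker))))
    have hz' : QuotientGroup.mk' N z ∈ π'.ker := hz
    rw [this, Subgroup.mem_bot, QuotientGroup.mk'_apply, QuotientGroup.eq_one_iff] at hz'
    exact Nat.not_dvd_ordCompl (by norm_num : Nat.Prime 3) (hn ▸ Nat.card_pos.ne' : n ≠ 0)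
      ((dvd_of_eq hzo.symm).trans (orderOf_dvd_of_pow_eq_one hz'.2))
  have hpow : ∃ k, Nat.card π.ker = 2 ^ k := by
    refine ⟨(Nat.card π.ker).primeFactorsList.length, ?_⟩
    refine Nat.eq_prime_pow_of_unique_prime_dvd (Nat.card_pos.ne') fun {d} hd hdd => ?_
    by_contra hne
    by_cases h3 : d = 3
    · exact hnot3 (h3 ▸ hdd)
    · exact large_prime h hs hc hperf hd hne h3 hdd
  obtain ⟨k, hk⟩ := hpow
  exact two_bound h hs hc hperf fun x hx => ⟨k, by
    rw [← hk]
    exact congrArg Subtype.val (pow_card_eq_one' (x := (⟨x, hx⟩ : π.ker)))⟩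

end Cfsg.Agent.OrthMult.Minus3
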