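import Cfsg.Agent.Lib.OrthMult.OddMain
import Cfsg.Agent.Lib.AutPOmega.Minus

/-!
A perfect central extension of `Ω` of minus type in odd characteristic has kernel of order at most two, the
eight-dimensional space over three elements aside: the stabilisers of vectors of norm one are odd-dimensional
orthogonal groups.
-/

set_option autoImplicit false
set_option linter.unusedSectionVars false

open scoped commutatorElement

namespace Cfsg.Agent.OrthMult

open Cfsg.Agent.Forms Cfsg.Agent.Forms.QuadStd Cfsg.Agent.Forms.Reflections Cfsg.Agent.Forms.PlusStd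
  Cfsg.Agent.Classical.Orth Cfsg.Agent.Classical.OrthForms

universe u v

variable {F : Type u} [Field F] [Fintype F] {a b : F}

theorem coef_ne (h2 : (2 : F) ≠ 0) (hd : 4 * b - a ^ 2 ≠ 0) : b - a ^ 2 / 4 ≠ 0 := fun e => hd (by
  have h4 : (4 : F) ≠ 0 := by
    rw [show (4 : F) = 2 * 2 by norm_num]
    exact mul_ne_zero h2 h2
  field_simp at e
  linear_combination e)

/-- The stabiliser of a vector of the anisotropic plane. -/
noncomputable def decW (k : ℕ) (h2 : (2 : F) ≠ 0) (hd : 4 * b - a ^ 2 ≠ 0) :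
    Embed.Dec (minQ F k a b) (oddQ F k) F where
  e :=
    { toFun := fun v => (v (Sum.inr 0) + a / 2 * v (Sum.inr 1),
        Sum.elim (fun _ => v (Sum.inr 1))
          (Sum.elim (fun i => v (Sum.inl (Sum.inl i))) (fun i => v (Sum.inl (Sum.inr i)) / (b - a ^ 2 / 4))))
      map_add' := fun u v => by
        refine Prod.ext ?_ (funext fun i => ?_)
        · simp only [Pi.add_apply, Prod.fst_add]; ring
        · rcases i with ⟨⟩ | i | i <;> simp only [Pi.add_apply, Prod.snd_add, Sum.elim_inl, Sum.elim_inr]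
          ring
      map_smul' := fun c v => by
        refine Prod.ext ?_ (funext fun i => ?_)
        · simp only [Pi.smul_apply, smul_eq_mul, RingHom.id_apply, Prod.smul_fst]; ring
        · rcases i with ⟨⟩ | i | i <;>
            simp only [Pi.smul_apply, smul_eq_mul, RingHom.id_apply, Prod.smul_snd, Sum.elim_inl, Sum.elim_inr]
          ring
      invFun := fun p => Sum.elim
        (Sum.elim (fun i => p.2 (Sum.inr (Sum.inl i))) (fun i => (b - a ^ 2 / 4) * p.2 (Sum.inr (Sum.inr i))))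
        ![p.1 - a / 2 * p.2 (Sum.inl ()), p.2 (Sum.inl ())]
      left_inv := fun v => funext fun i => by
        rcases i with (i | i) | i
        · rfl
        · simp only [Sum.elim_inl, Sum.elim_inr]
          rw [mul_div_cancel₀ _ (coef_ne h2 hd)]
        · fin_cases i <;> simp
      right_inv := fun p => by
        obtain ⟨t, w⟩ := p
        refine Prod.ext ?_ (funext fun i => ?_)
        · simp
        · rcases i with ⟨⟩ | i | i
          · simp
          · simp
          · simp only [Sum.elim_inl, Sum.elim_inr]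
            rw [mul_div_cancel_left₀ _ (coef_ne h2 hd)] }
  c := b - a ^ 2 / 4
  hc := coef_ne h2 hd
  sum t w := by
    show minQ F k a b (Sum.elim
        (Sum.elim (fun i => w (Sum.inr (Sum.inl i))) (fun i => (b - a ^ 2 / 4) * w (Sum.inr (Sum.inr i))))
        ![t - a / 2 * w (Sum.inl ()), w (Sum.inl ())]) =
      minQ F k a b (Sum.elim (Sum.elim (fun _ => (0 : F)) (fun _ => (b - a ^ 2 / 4) * 0))
        ![t - a / 2 * 0, 0]) + (b - a ^ 2 / 4) * oddQ F k w
    have h4 : (4 : F) ≠ 0 := by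
      rw [show (4 : F) = 2 * 2 by norm_num]
      exact mul_ne_zero h2 h2
    simp [minQ_apply, oddQ_apply, plusQ_apply, Cfsg.quadFormPlus, Finset.mul_sum, mul_add, mul_left_comm]
    field_simp
    ring
  perp x h := by
    have h1 : QuadraticMap.polar (minQ F k a b) (Sum.elim (Sum.elim (fun _ => (0 : F))
        (fun _ => (b - a ^ 2 / 4) * 0)) ![(1 : F) - a / 2 * 0, 0]) x = 0 := h 1
    show x (Sum.inr 0) + a / 2 * x (Sum.inr 1) = 0
    simp [minQ_polar, plusQ_polar] at h1
    field_simp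
    linear_combination h1

/-- The common stabiliser of two orthogonal vectors. -/
noncomputable def decWH (n : ℕ) (h2 : (2 : F) ≠ 0) (hd : 4 * b - a ^ 2 ≠ 0) :
    Embed.Dec (minQ F (n + 1) a b) (minQ F n 0 (-(b - a ^ 2 / 4)⁻¹)) (F × F) where
  e :=
    { toFun := fun v =>
        ((v (Sum.inr 0) + a / 2 * v (Sum.inr 1), (v (Sum.inl (Sum.inl 0)) + v (Sum.inl (Sum.inr 0))) / 2),
          Sum.elim (Sum.elim (fun i => v (Sum.inl (Sum.inl i.succ)))
              (fun i => v (Sum.inl (Sum.inr i.succ)) / (b - a ^ 2 / 4)))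
            ![v (Sum.inr 1), (v (Sum.inl (Sum.inl 0)) - v (Sum.inl (Sum.inr 0))) / 2])
      map_add' := fun u v => by
        refine Prod.ext (Prod.ext ?_ ?_) (funext fun i => ?_)
        · simp only [Pi.add_apply, Prod.fst_add]; ring
        · simp only [Pi.add_apply, Prod.fst_add, Prod.snd_add]; ring
        · rcases i with (i | i) | i
          · rfl
          · simp only [Pi.add_apply, Prod.snd_add, Sum.elim_inl, Sum.elim_inr]; ring
          · fin_cases i <;> simp
            ring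
      map_smul' := fun c v => by
        refine Prod.ext (Prod.ext ?_ ?_) (funext fun i => ?_)
        · simp only [Pi.smul_apply, smul_eq_mul, RingHom.id_apply, Prod.smul_fst]; ring
        · simp only [Pi.smul_apply, smul_eq_mul, RingHom.id_apply, Prod.smul_fst, Prod.smul_snd]; ring
        · rcases i with (i | i) | i
          · rfl
          · simp only [Pi.smul_apply, smul_eq_mul, RingHom.id_apply, Prod.smul_snd, Sum.elim_inl, Sum.elim_inr]
            ring
          · fin_cases i <;> simp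
            ring
      invFun := fun p => Sum.elim
        (Sum.elim (Fin.cons (p.1.2 + p.2 (Sum.inr 1)) fun i => p.2 (Sum.inl (Sum.inl i)))
          (Fin.cons (p.1.2 - p.2 (Sum.inr 1)) fun i => (b - a ^ 2 / 4) * p.2 (Sum.inl (Sum.inr i))))
        ![p.1.1 - a / 2 * p.2 (Sum.inr 0), p.2 (Sum.inr 0)]
      left_inv := fun v => funext fun i => by
        rcases i with (i | i) | i
        · induction i using Fin.cases with
          | zero => simp; field_simp; ring
          | succ i => simp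
        · induction i using Fin.cases with
          | zero => simp; field_simp; ring
          | succ i => simp only [Sum.elim_inl, Sum.elim_inr, Fin.cons_succ]; rw [mul_div_cancel₀ _ (coef_ne h2 hd)]
        · fin_cases i <;> simp
      right_inv := fun p => by
        obtain ⟨⟨s, t⟩, w⟩ := p
        refine Prod.ext (Prod.ext ?_ ?_) (funext fun i => ?_)
        · simp
        · simp; field_simp; ring
        · rcases i with (i | i) | i
          · simp
          · simp only [Sum.elim_inl, Sum.elim_inr, Fin.cons_succ]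
            rw [mul_div_cancel_left₀ _ (coef_ne h2 hd)]
          · fin_cases i <;> simp
            field_simp
            ring }
  c := b - a ^ 2 / 4
  hc := coef_ne h2 hd
  sum t w := by
    show minQ F (n + 1) a b (Sum.elim
        (Sum.elim (Fin.cons (t.2 + w (Sum.inr 1)) fun i => w (Sum.inl (Sum.inl i)))
          (Fin.cons (t.2 - w (Sum.inr 1)) fun i => (b - a ^ 2 / 4) * w (Sum.inl (Sum.inr i))))
        ![t.1 - a / 2 * w (Sum.inr 0), w (Sum.inr 0)]) =
      minQ F (n + 1) a b (Sum.elim (Sum.elim (Fin.cons (t.2 + 0) fun _ => (0 : F))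
          (Fin.cons (t.2 - 0) fun _ => (b - a ^ 2 / 4) * 0))
        ![t.1 - a / 2 * 0, 0]) + (b - a ^ 2 / 4) * minQ F n 0 (-(b - a ^ 2 / 4)⁻¹) w
    obtain ⟨c, hc⟩ : ∃ c, c = b - a ^ 2 / 4 := ⟨_, rfl⟩
    have hc0 : c ≠ 0 := hc ▸ coef_ne h2 hd
    have h4 : (4 : F) ≠ 0 := by
      rw [show (4 : F) = 2 * 2 by norm_num]
      exact mul_ne_zero h2 h2
    have hb : b = c + a ^ 2 / 4 := by rw [hc]; ring
    rw [← hc, hb]
    simp [minQ_apply, plusQ_apply, Cfsg.quadFormPlus, Fin.sum_univ_succ, Finset.mul_sum, mul_add, mul_left_comm]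
    field_simp
    ring
  perp x h := by
    have h1 : QuadraticMap.polar (minQ F (n + 1) a b) (Sum.elim (Sum.elim (Fin.cons ((0 : F) + 0) fun _ => (0 : F))
        (Fin.cons ((0 : F) - 0) fun _ => (b - a ^ 2 / 4) * 0)) ![(1 : F) - a / 2 * 0, 0]) x = 0 := h (1, 0)
    have h0 : QuadraticMap.polar (minQ F (n + 1) a b) (Sum.elim (Sum.elim (Fin.cons ((1 : F) + 0) fun _ => (0 : F))
        (Fin.cons ((1 : F) - 0) fun _ => (b - a ^ 2 / 4) * 0)) ![(0 : F) - a / 2 * 0, 0]) x = 0 := h (0, 1)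
    simp [minQ_polar, plusQ_polar, Fin.sum_univ_succ] at h1 h0
    refine Prod.ext ?_ ?_
    · show x (Sum.inr 0) + a / 2 * x (Sum.inr 1) = 0
      field_simp
      linear_combination h1
    · show (x (Sum.inl (Sum.inl 0)) + x (Sum.inl (Sum.inr 0))) / 2 = 0
      rw [show x (Sum.inl (Sum.inl 0)) + x (Sum.inl (Sum.inr 0)) = 0 by linear_combination h0, zero_div]

theorem decW_symm (k : ℕ) (h2 : (2 : F) ≠ 0) (hd : 4 * b - a ^ 2 ≠ 0) (t : F) :
    (decW k h2 hd).e.symm (t, 0) = t • (decW k h2 hd).e.symm (1, 0) := by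
  rw [← map_smul]; simp

theorem minus_card_ker_le {k : ℕ} (hk : 3 ≤ k) (h2 : (2 : F) ≠ 0) (h5 : k = 3 → 5 ≤ Fintype.card F)
    (hab : ∀ z₁ z₂ : F, z₁ ^ 2 + a * z₁ * z₂ + b * z₂ ^ 2 = 0 → z₁ = 0 ∧ z₂ = 0)
    (E : Type v) [Group E] [Finite E] (π : E →* Cfsg.Omega F ⇑(minQ F k a b)) (hs : Function.Surjective π)
    (hc : π.ker ≤ Subgroup.center E) (hperf : commutator E = ⊤) : Nat.card π.ker ≤ 2 := by
  have hF : Fintype.card F ≠ 2 := fun e => h2 (by
    have := Nat.cast_card_eq_zero F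
    rw [e] at this
    exact_mod_cast this)
  have hd := disc_ne_zero hab
  obtain ⟨n, rfl⟩ : ∃ n, k = n + 1 := ⟨k - 1, by omega⟩
  have hQ := minQ_nondeg (n + 1) hab
  have hS : Space (minQ F (n + 1) a b) := ⟨hQ, h2, by simp; omega, fun e => absurd e (by simp; omega)⟩
  have hQ' : (QuadraticMap.polarBilin (minQ F n 0 (-(b - a ^ 2 / 4)⁻¹))).Nondegenerate :=
    AutPOmega.Minus.nondeg_of_disc (by
      rw [zero_pow two_ne_zero, sub_zero]
      exact mul_ne_zero (by rw [show (4 : F) = 2 * 2 by norm_num]; exact mul_ne_zero h2 h2)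
        (neg_ne_zero.2 (inv_ne_zero (coef_ne h2 hd))))
  obtain ⟨D1, hD1⟩ : ∃ D1, D1 = decW (n + 1) h2 hd := ⟨_, rfl⟩
  obtain ⟨D2, hD2⟩ : ∃ D2, D2 = decWH n h2 hd := ⟨_, rfl⟩
  have v1 : minQ F (n + 1) a b (D1.e.symm (1, 0)) = 1 := by
    rw [hD1]
    show minQ F (n + 1) a b (Sum.elim (Sum.elim (fun _ => (0 : F)) (fun _ => (b - a ^ 2 / 4) * 0))
      ![(1 : F) - a / 2 * 0, 0]) = 1
    simp [minQ_apply, plusQ_apply, Cfsg.quadFormPlus]
  obtain ⟨v₀, hv₀⟩ : ∃ v₀ : Sph (minQ F (n + 1) a b), v₀.1 = D1.e.symm (1, 0) := ⟨⟨_, v1⟩, rfl⟩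
  have hval : ∀ t : F × F, minQ F (n + 1) a b (D2.e.symm (t, 0)) = t.1 * t.1 + t.2 * t.2 := fun t => by
    rw [hD2]
    show minQ F (n + 1) a b (Sum.elim (Sum.elim (Fin.cons (t.2 + 0) fun _ => (0 : F))
        (Fin.cons (t.2 - 0) fun _ => (b - a ^ 2 / 4) * 0)) ![t.1 - a / 2 * 0, 0]) = _
    simp [minQ_apply, plusQ_apply, Cfsg.quadFormPlus, Fin.sum_univ_succ, sq]
    ring
  obtain ⟨u₀, hu₀⟩ : ∃ u₀ : Sph (minQ F (n + 1) a b), u₀.1 = D2.e.symm ((1, 0), 0) :=
    ⟨⟨_, by rw [hval]; simp⟩, rfl⟩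
  obtain ⟨w₀, hw₀⟩ : ∃ w₀ : Sph (minQ F (n + 1) a b), w₀.1 = D2.e.symm ((0, 1), 0) :=
    ⟨⟨_, by rw [hval]; simp⟩, rfl⟩
  have horth : QuadraticMap.polar (minQ F (n + 1) a b) u₀.1 w₀.1 = 0 := by
    rw [hu₀, hw₀, QuadraticMap.polar, ← map_add, Prod.mk_add_mk, add_zero, hval, hval, hval]
    simp
  have hK : ⁅MulAction.stabilizer (Cfsg.Omega F ⇑(minQ F (n + 1) a b)) u₀ ⊓
        MulAction.stabilizer (Cfsg.Omega F ⇑(minQ F (n + 1) a b)) w₀,
      MulAction.stabilizer (Cfsg.Omega F ⇑(minQ F (n + 1) a b)) u₀ ⊓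
        MulAction.stabilizer (Cfsg.Omega F ⇑(minQ F (n + 1) a b)) w₀⁆ =
      MulAction.stabilizer (Cfsg.Omega F ⇑(minQ F (n + 1) a b)) u₀ ⊓
        MulAction.stabilizer (Cfsg.Omega F ⇑(minQ F (n + 1) a b)) w₀ := by
    refine Embed.fixer_perfect D2 hQ hQ' hF
      (commutator_omega_eq_top hQ' (minFrame F (by omega) _ _) (by simp; omega)) fun g => ?_
    rw [Subgroup.mem_inf, MulAction.mem_stabilizer_iff, MulAction.mem_stabilizer_iff, smul_eq_iff, smul_eq_iff,
      hu₀, hw₀]
    refine ⟨fun h t => ?_, fun h => ⟨h _, h _⟩⟩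
    have e : (t, (0 : (Fin n ⊕ Fin n) ⊕ Fin 2 → F)) = t.1 • ((1, 0), 0) + t.2 • ((0, 1), 0) := by simp
    rw [e, map_add, map_smul, map_smul, map_add, map_smul, map_smul, h.1, h.2]
  have hfix : ∀ g : Cfsg.Omega F ⇑(minQ F (n + 1) a b),
      g ∈ MulAction.stabilizer (Cfsg.Omega F ⇑(minQ F (n + 1) a b)) v₀ ↔
        ∀ t : F, act g.1 (D1.e.symm (t, 0)) = D1.e.symm (t, 0) := fun g => by
    rw [MulAction.mem_stabilizer_iff, smul_eq_iff, hv₀]
    refine ⟨fun h t => ?_, fun h => h 1⟩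
    rw [hD1] at h ⊢
    rw [decW_symm, map_smul, h]
  refine Sections.card_ker_le (geo_of hS (minFrame F (by omega) a b) (pair_of hS u₀ w₀ horth hK)) hs hc hperf v₀
    (Embed.fixer_perfect D1 hQ (oddQ_nondeg h2 _) hF
      (commutator_omega_eq_top (oddQ_nondeg h2 _) (oddFrame F (by omega)) (by simp; omega)) hfix)
    fun D p hp hpc hpD => ?_
  obtain ⟨Φ, hΦ, -, hr⟩ := Embed.omega_hom D1 hQ (oddQ_nondeg h2 (n + 1)) hF
  have hK1 : MulAction.stabilizer (Cfsg.Omega F ⇑(minQ F (n + 1) a b)) v₀ = Φ.range := Subgroup.ext fun g => by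
    rw [hfix, hr]
  obtain ⟨τ, hτ⟩ : ∃ τ : MulAction.stabilizer (Cfsg.Omega F ⇑(minQ F (n + 1) a b)) v₀ ≃*
      Cfsg.Omega F ⇑(oddQ F (n + 1)), True :=
    ⟨(MulEquiv.subgroupCongr hK1).trans (MonoidHom.ofInjective hΦ).symm, trivial⟩
  have hker : (τ.toMonoidHom.comp p).ker = p.ker := by
    ext x
    simp [MonoidHom.mem_ker]
  rw [← hker]
  exact card_ker_le_odd hk h2 h5 D (τ.toMonoidHom.comp p) (τ.surjective.comp hp) (hker ▸ hpc) hpD

end Cfsg.Agent.OrthMult
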