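import Cfsg.Agent.Lib.OrthMult.MinusOdd
import Cfsg.Agent.Lib.OrthMult.NegLift

/-!
The Schur multiplier of the orthogonal groups of minus type in odd characteristic, given the bound two.
-/

set_option autoImplicit false
set_option linter.unusedSectionVars false

open scoped commutatorElement

namespace Cfsg.Agent.OrthMult

open Cfsg.Agent.Forms Cfsg.Agent.Forms.QuadStd Cfsg.Agent.Forms.Reflections Cfsg.Agent.Forms.PlusStd
  Cfsg.Agent.Classical.Orth Cfsg.Agent.Classical.OrthForms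

universe u

variable {F : Type u} [Field F] [Fintype F] {a b : F}

/-- The minus space inside the plus space one dimension pair up. -/
noncomputable def decMinUp (k : ℕ) (h2 : (2 : F) ≠ 0) (hd : 4 * b - a ^ 2 ≠ 0) :
    Embed.Dec (plusQ F (k + 2)) (minQ F k a b) (F × F) where
  e :=
    { toFun := fun v =>
        (((v (Sum.inr 0) - a / 2 * ((v (Sum.inr 1) - a / 2 * v (Sum.inr 0)) / (b - a ^ 2 / 4)) - v (Sum.inl 0)) / 2,
            ((v (Sum.inr 1) - a / 2 * v (Sum.inr 0)) / (b - a ^ 2 / 4) - v (Sum.inl 1)) / 2),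
          Sum.elim (Sum.elim (fun i => v (Sum.inl i.succ.succ)) (fun i => v (Sum.inr i.succ.succ)))
            ![(v (Sum.inr 0) - a / 2 * ((v (Sum.inr 1) - a / 2 * v (Sum.inr 0)) / (b - a ^ 2 / 4))
                + v (Sum.inl 0)) / 2,
              ((v (Sum.inr 1) - a / 2 * v (Sum.inr 0)) / (b - a ^ 2 / 4) + v (Sum.inl 1)) / 2])
      map_add' := fun u v => by
        refine Prod.ext (Prod.ext ?_ ?_) (funext fun i => ?_)
        · simp only [Pi.add_apply, Prod.fst_add]; ring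
        · simp only [Pi.add_apply, Prod.fst_add, Prod.snd_add]; ring
        · rcases i with (i | i) | i
          · rfl
          · rfl
          · fin_cases i <;> simp <;> ring
      map_smul' := fun c v => by
        refine Prod.ext (Prod.ext ?_ ?_) (funext fun i => ?_)
        · simp only [Pi.smul_apply, smul_eq_mul, RingHom.id_apply, Prod.smul_fst]; ring
        · simp only [Pi.smul_apply, smul_eq_mul, RingHom.id_apply, Prod.smul_fst, Prod.smul_snd]; ring
        · rcases i with (i | i) | i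
          · rfl
          · rfl
          · fin_cases i <;> simp <;> ring
      invFun := fun p => Sum.elim
        (Fin.cons (p.2 (Sum.inr 0) - p.1.1) (Fin.cons (p.2 (Sum.inr 1) - p.1.2) fun i => p.2 (Sum.inl (Sum.inl i))))
        (Fin.cons (p.2 (Sum.inr 0) + p.1.1 + a / 2 * (p.2 (Sum.inr 1) + p.1.2))
          (Fin.cons (a / 2 * (p.2 (Sum.inr 0) + p.1.1) + b * (p.2 (Sum.inr 1) + p.1.2))
            fun i => p.2 (Sum.inl (Sum.inr i))))
      left_inv := fun v => funext fun i => by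
        obtain ⟨c, hc⟩ : ∃ c, c = b - a ^ 2 / 4 := ⟨_, rfl⟩
        have hc0 : c ≠ 0 := hc ▸ coef_ne h2 hd
        have h4 : (4 : F) ≠ 0 := by
          rw [show (4 : F) = 2 * 2 by norm_num]; exact mul_ne_zero h2 h2
        have hb : b = c + (a / 2) * (a / 2) := by rw [hc]; field_simp; ring
        rcases i with i | i
        · induction i using Fin.cases with
          | zero => simp only [← hc]; simp; field_simp; ring
          | succ i =>
            induction i using Fin.cases with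
            | zero => simp only [← hc]; simp; field_simp; ring
            | succ i => simp
        · induction i using Fin.cases with
          | zero => simp only [← hc]; simp; field_simp; ring
          | succ i =>
            induction i using Fin.cases with
            | zero => simp only [← hc]; rw [hb]; simp; field_simp; ring
            | succ i => simp
      right_inv := fun p => by
        obtain ⟨⟨s, t⟩, w⟩ := p
        obtain ⟨c, hc⟩ : ∃ c, c = b - a ^ 2 / 4 := ⟨_, rfl⟩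
        have hc0 : c ≠ 0 := hc ▸ coef_ne h2 hd
        have h4 : (4 : F) ≠ 0 := by
          rw [show (4 : F) = 2 * 2 by norm_num]; exact mul_ne_zero h2 h2
        have hb : b = c + (a / 2) * (a / 2) := by rw [hc]; field_simp; ring
        refine Prod.ext (Prod.ext ?_ ?_) (funext fun i => ?_)
        · simp only [← hc]; rw [hb]; simp; field_simp; ring
        · simp only [← hc]; rw [hb]; simp; field_simp; ring
        · rcases i with (i | i) | i
          · simp
          · simp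
          · fin_cases i <;> (simp only [← hc]; rw [hb]; simp; field_simp; ring) }
  c := 1
  hc := one_ne_zero
  sum t w := by
    show plusQ F (k + 2) (Sum.elim
        (Fin.cons (w (Sum.inr 0) - t.1) (Fin.cons (w (Sum.inr 1) - t.2) fun i => w (Sum.inl (Sum.inl i))))
        (Fin.cons (w (Sum.inr 0) + t.1 + a / 2 * (w (Sum.inr 1) + t.2))
          (Fin.cons (a / 2 * (w (Sum.inr 0) + t.1) + b * (w (Sum.inr 1) + t.2))
            fun i => w (Sum.inl (Sum.inr i))))) =
      plusQ F (k + 2) (Sum.elim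
        (Fin.cons ((0 : F) - t.1) (Fin.cons ((0 : F) - t.2) fun _ => (0 : F)))
        (Fin.cons ((0 : F) + t.1 + a / 2 * ((0 : F) + t.2))
          (Fin.cons (a / 2 * ((0 : F) + t.1) + b * ((0 : F) + t.2)) fun _ => (0 : F)))) + 1 * minQ F k a b w
    simp [minQ_apply, plusQ_apply, Cfsg.quadFormPlus, Fin.sum_univ_succ]
    field_simp
    ring
  perp x h := by
    have h1 : QuadraticMap.polar (plusQ F (k + 2)) (Sum.elim
        (Fin.cons ((0 : F) - 1) (Fin.cons ((0 : F) - 0) fun _ => (0 : F)))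
        (Fin.cons ((0 : F) + 1 + a / 2 * ((0 : F) + 0))
          (Fin.cons (a / 2 * ((0 : F) + 1) + b * ((0 : F) + 0)) fun _ => (0 : F)))) x = 0 := h (1, 0)
    have h0 : QuadraticMap.polar (plusQ F (k + 2)) (Sum.elim
        (Fin.cons ((0 : F) - 0) (Fin.cons ((0 : F) - 1) fun _ => (0 : F)))
        (Fin.cons ((0 : F) + 0 + a / 2 * ((0 : F) + 1))
          (Fin.cons (a / 2 * ((0 : F) + 0) + b * ((0 : F) + 1)) fun _ => (0 : F)))) x = 0 := h (0, 1)
    simp [plusQ_polar, Fin.sum_univ_succ] at h1 h0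
    obtain ⟨c, hc⟩ : ∃ c, c = b - a ^ 2 / 4 := ⟨_, rfl⟩
    have hc0 : c ≠ 0 := hc ▸ coef_ne h2 hd
    have h4 : (4 : F) ≠ 0 := by
      rw [show (4 : F) = 2 * 2 by norm_num]; exact mul_ne_zero h2 h2
    have hb : b = c + (a / 2) * (a / 2) := by rw [hc]; field_simp; ring
    have e1 : x (Sum.inr 0) = x (Sum.inl 0) + a / 2 * x (Sum.inl 1) := by linear_combination -h1
    have e0 : x (Sum.inr 1) = a / 2 * x (Sum.inl 0) + b * x (Sum.inl 1) := by linear_combination -h0
    refine Prod.ext ?_ ?_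
    · show (x (Sum.inr 0) - a / 2 * ((x (Sum.inr 1) - a / 2 * x (Sum.inr 0)) / (b - a ^ 2 / 4))
          - x (Sum.inl 0)) / 2 = 0
      rw [← hc, e0, e1, hb]; field_simp; ring
    · show ((x (Sum.inr 1) - a / 2 * x (Sum.inr 0)) / (b - a ^ 2 / 4) - x (Sum.inl 1)) / 2 = 0
      rw [← hc, e0, e1, hb]; field_simp; ring

/-- A perfect central double cover of minus type. -/
theorem exists_minus_cover {k : ℕ} (hk : 3 ≤ k) (h2 : (2 : F) ≠ 0) (hF : Fintype.card F ≠ 2)
    (hab : ∀ z₁ z₂ : F, z₁ ^ 2 + a * z₁ * z₂ + b * z₂ ^ 2 = 0 → z₁ = 0 ∧ z₂ = 0) :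
    ∃ (E : Type u) (_ : Group E) (_ : Finite E) (π : E →* Cfsg.isometryGroup F ⇑(minQ F k a b))
      (e₁ e₂ e₃ : (Fin k ⊕ Fin k) ⊕ Fin 2 → F),
      commutator E = ⊤ ∧ π.ker ≤ Subgroup.center E ∧ π.range = Cfsg.Omega F ⇑(minQ F k a b) ∧
      minQ F k a b e₁ = 1 ∧ minQ F k a b e₂ = 1 ∧ minQ F k a b e₃ = 1 ∧
      QuadraticMap.polar (minQ F k a b) e₁ e₂ = 0 ∧ QuadraticMap.polar (minQ F k a b) e₁ e₃ = 0 ∧
      QuadraticMap.polar (minQ F k a b) e₂ e₃ = 0 ∧
      ∀ x y, π x = reflect (minQ F k a b) e₁ * reflect (minQ F k a b) e₂ →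
        π y = reflect (minQ F k a b) e₂ * reflect (minQ F k a b) e₃ → ⁅x, y⁆ ≠ 1 := by
  obtain ⟨E, iE, iF, π, -, hc, hr, hne⟩ := PlusMult.exists_double_cover_flips (F := F) (m := k + 2) (by omega) h2
  have hd := disc_ne_zero hab
  have hQ := minQ_nondeg k hab
  obtain ⟨Dc, hDc⟩ : ∃ Dc, Dc = decMinUp (F := F) k h2 hd := ⟨_, rfl⟩
  obtain ⟨H, hH⟩ : ∃ H, H = (Cfsg.Omega F ⇑(minQ F k a b)).map (Embed.j Dc) := ⟨_, rfl⟩
  have hHr : H ≤ π.range := by
    rw [hH, hr]
    rintro _ ⟨g, hg, rfl⟩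
    exact (Embed.mem_omega_j Dc (plusQ_nondeg F _) hQ hF g).2 hg
  have hHp : ⁅H, H⁆ = H := by
    rw [hH, ← Subgroup.map_commutator, Sections.eq_of_commutator_top
      (commutator_omega_eq_top hQ (minFrame F (by omega) a b) (by simp; omega))]
  obtain ⟨D, hD⟩ : ∃ D, D = ⁅H.comap π, H.comap π⁆ := ⟨_, rfl⟩
  obtain ⟨hDm, hDp⟩ := Sections.derived_preimage hc hHr hHp hD
  have hmem : ∀ x : D, π x.1 ∈ (Cfsg.Omega F ⇑(minQ F k a b)).map (Embed.j Dc) :=
    fun x => hH ▸ hDm.le ⟨x.1, x.2, rfl⟩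
  obtain ⟨τ, hτ⟩ : ∃ τ : (Cfsg.Omega F ⇑(minQ F k a b)).map (Embed.j Dc) ≃* Cfsg.Omega F ⇑(minQ F k a b),
      ∀ x, Embed.j Dc (τ x).1 = x.1 :=
    ⟨((Cfsg.Omega F ⇑(minQ F k a b)).equivMapOfInjective (Embed.j Dc) (Embed.j_injective Dc)).symm, fun x => by
      conv_rhs => rw [← MulEquiv.apply_symm_apply
        ((Cfsg.Omega F ⇑(minQ F k a b)).equivMapOfInjective (Embed.j Dc) (Embed.j_injective Dc)) x]
      rfl⟩
  obtain ⟨π₁, hπ₁⟩ : ∃ π₁ : D →* Cfsg.isometryGroup F ⇑(minQ F k a b), π₁ =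
      (Cfsg.Omega F ⇑(minQ F k a b)).subtype.comp (τ.toMonoidHom.comp ((π.comp D.subtype).codRestrict _ hmem)) :=
    ⟨_, rfl⟩
  have hjπ : ∀ x : D, Embed.j Dc (π₁ x) = π x.1 := fun x => by rw [hπ₁]; exact hτ ⟨π x.1, hmem x⟩
  obtain ⟨E₁, hE₁⟩ : ∃ E₁ : Fin k → (Fin k ⊕ Fin k) ⊕ Fin 2 → F,
      E₁ = fun i => Sum.elim (PlusMult.hv i) 0 := ⟨_, rfl⟩
  obtain ⟨i, hi⟩ : ∃ i : Fin k, i.val = 0 := ⟨⟨0, by omega⟩, rfl⟩
  obtain ⟨j, hj⟩ : ∃ j : Fin k, j.val = 1 := ⟨⟨1, by omega⟩, rfl⟩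
  obtain ⟨l, hl⟩ : ∃ l : Fin k, l.val = 2 := ⟨⟨2, by omega⟩, rfl⟩
  have hij : i ≠ j := fun e => by subst e; omega
  have hjl : j ≠ l := fun e => by subst e; omega
  have hil : i ≠ l := fun e => by subst e; omega
  have hflip : ∀ i : Fin k, Embed.j Dc (reflect (minQ F k a b) (E₁ i)) =
      CurtisTitsD.flip (k + 2) F i.succ.succ := fun i => by
    rw [Embed.j_reflect, ← PlusMult.reflect_hv, hE₁, hDc]
    congr 1
    funext z
    show Sum.elim
        (Fin.cons ((0 : F) - 0) (Fin.cons ((0 : F) - 0) fun r => PlusMult.hv i (Sum.inl r)))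
        (Fin.cons ((0 : F) + 0 + a / 2 * ((0 : F) + 0))
          (Fin.cons (a / 2 * ((0 : F) + 0) + b * ((0 : F) + 0)) fun r => PlusMult.hv i (Sum.inr r))) z = _
    rcases z with z | z <;> induction z using Fin.cases with
    | zero => simp [PlusMult.hv, Chevalley.Natural.bv, Pi.single_apply, (Fin.succ_ne_zero _).symm]
    | succ z =>
      induction z using Fin.cases with
      | zero => simp [PlusMult.hv, Chevalley.Natural.bv, Pi.single_apply, Fin.ext_iff]
      | succ z => simp [PlusMult.hv, Chevalley.Natural.bv, Pi.single_apply]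
  refine ⟨D, inferInstance, inferInstance, π₁, E₁ i, E₁ j, E₁ l, hDp, fun x hx => ?_, ?_, ?_, ?_, ?_, ?_, ?_, ?_,
    fun x y hx hy h => ?_⟩
  · refine Subgroup.mem_center_iff.2 fun y => Subtype.ext (Subgroup.mem_center_iff.1 (hc (?_ : π x.1 = 1)) y.1)
    rw [← hjπ, show π₁ x = 1 from hx, map_one]
  · rw [hπ₁, MonoidHom.range_comp, MonoidHom.range_eq_top.2, ← MonoidHom.range_eq_map, Subgroup.range_subtype]
    intro g
    obtain ⟨c, hc'⟩ := τ.surjective g
    obtain ⟨x, hx, ex⟩ := hDm.ge (show c.1 ∈ H by rw [hH]; exact c.2)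
    exact ⟨⟨x, hx⟩, by rw [MonoidHom.comp_apply, show ((π.comp D.subtype).codRestrict _ hmem) ⟨x, hx⟩ = c from
      Subtype.ext ex]; exact hc'⟩
  · rw [hE₁, minQ_inl, PlusMult.Q_hv]
  · rw [hE₁, minQ_inl, PlusMult.Q_hv]
  · rw [hE₁, minQ_inl, PlusMult.Q_hv]
  · rw [hE₁, minQ_polar_inl, PlusMult.B_hv hij]
  · rw [hE₁, minQ_polar_inl, PlusMult.B_hv hil]
  · rw [hE₁, minQ_polar_inl, PlusMult.B_hv hjl]
  have hs : ∀ {p q : Fin k}, p ≠ q → p.succ.succ ≠ q.succ.succ := fun h e =>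
    h (Fin.succ_injective _ (Fin.succ_injective _ e))
  refine hne _ _ _ (hs hij) (hs hjl) (hs hil) x.1 y.1 ?_ ?_ (congrArg Subtype.val h)
  · rw [← hjπ, hx, map_mul, hflip, hflip]
  · rw [← hjπ, hy, map_mul, hflip, hflip]

theorem gcd_four_minus {q l : ℕ} (hq : q % 2 = 1) :
    (Odd l ∧ q % 4 = 3 → Nat.gcd 4 (q ^ l + 1) = 4) ∧ (¬ (Odd l ∧ q % 4 = 3) → Nat.gcd 4 (q ^ l + 1) = 2) := by
  have key : ∀ t, t % 2 = 1 → (q ^ (2 * t) % 4 = 1) := fun t _ => by
    rw [pow_mul, Nat.pow_mod]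
    have : q ^ 2 % 4 = 1 := by
      rw [Nat.pow_mod]
      rcases (show q % 4 = 1 ∨ q % 4 = 3 by omega) with h | h <;> rw [h]
    rw [this, one_pow]
    rfl
  have hev : ∀ t, q ^ (2 * t) % 4 = 1 := fun t => by
    rw [pow_mul, Nat.pow_mod]
    have : q ^ 2 % 4 = 1 := by
      rw [Nat.pow_mod]
      rcases (show q % 4 = 1 ∨ q % 4 = 3 by omega) with h | h <;> rw [h]
    rw [this, one_pow]
    rfl
  constructor
  · rintro ⟨⟨t, rfl⟩, h3⟩
    have : q ^ (2 * t + 1) % 4 = 3 := by rw [pow_succ, Nat.mul_mod, hev, h3]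
    exact Nat.gcd_eq_left (by omega)
  · intro h
    have : q ^ l % 4 = 1 := by
      rcases Nat.even_or_odd l with ⟨t, rfl⟩ | ⟨t, rfl⟩
      · rw [← two_mul]; exact hev t
      · have h1 : q % 4 = 1 := by
          by_contra h1
          exact h ⟨⟨t, rfl⟩, by omega⟩
        rw [pow_succ, Nat.mul_mod, hev, h1]
    rw [Nat.gcd_rec, show (q ^ l + 1) % 4 = 2 by omega]
    rfl

/-- The multiplier, given the bound. -/
theorem minus_multiplier_odd {k : ℕ} (hk : 3 ≤ k) (h2 : (2 : F) ≠ 0)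
    (hab : ∀ z₁ z₂ : F, z₁ ^ 2 + a * z₁ * z₂ + b * z₂ ^ 2 = 0 → z₁ = 0 ∧ z₂ = 0)
    (hbound : ∀ (D : Type u) [Group D] [Finite D] (π : D →* Cfsg.Omega F ⇑(minQ F k a b)),
      Function.Surjective π → π.ker ≤ Subgroup.center D → commutator D = ⊤ → Nat.card π.ker ≤ 2) :
    Cfsg.HasCyclicSchurMultiplier (Cfsg.POmega F (Cfsg.quadFormMinus k F a b))
      (Nat.gcd 4 (Fintype.card F ^ (k + 1) + 1)) := by
  classical
  rw [← minQ_eq]
  have hF : Fintype.card F ≠ 2 := fun e => h2 (by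
    have := Nat.cast_card_eq_zero F
    rw [e] at this
    exact_mod_cast this)
  have hodd : Fintype.card F % 2 = 1 := PlusMult.card_mod_of_ne h2
  have hQ := minQ_nondeg k hab
  have hS : Space (minQ F k a b) := ⟨hQ, h2, by simp; omega, fun e => absurd e (by simp; omega)⟩
  obtain ⟨E, iE, iF, π, e₁, e₂, e₃, hperf, hc, hr, q1, q2, q3, o12, o13, o23, hne⟩ := exists_minus_cover hk h2 hF hab
  obtain ⟨x₁, hx₁⟩ := NegLift.hlift' hS hr q1 q2
  obtain ⟨y₁, hy₁⟩ := NegLift.hlift' hS hr q2 q3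
  obtain ⟨z, hz⟩ : ∃ z, z = ⁅x₁, y₁⁆ := ⟨_, rfl⟩
  have hzπ : π z = 1 := by
    rw [hz, map_commutatorElement, hx₁, hy₁, commutatorElement_eq_one_iff_commute]
    exact NegLift.pair_commute o12 o23 o13
  have hz1 : z ≠ 1 := hz ▸ hne x₁ y₁ hx₁ hy₁
  have hmax : ∀ (D : Type u) [Group D] [Finite D] (π' : D →* Cfsg.isometryGroup F ⇑(minQ F k a b)),
      commutator D = ⊤ → π'.ker ≤ Subgroup.center D → π'.range = Cfsg.Omega F ⇑(minQ F k a b) →
        Nat.card π'.ker ≤ 2 := fun D _ _ π' ha hb hc' => by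
    obtain ⟨p, hp⟩ : ∃ p, p = π'.codRestrict (Cfsg.Omega F ⇑(minQ F k a b)) fun x => hc' ▸ ⟨x, rfl⟩ := ⟨_, rfl⟩
    have hpk : p.ker = π'.ker := by rw [hp, MonoidHom.ker_codRestrict]
    rw [← hpk]
    refine hbound D p (fun y => ?_) (hpk ▸ hb) ha
    obtain ⟨x, hx⟩ := hc'.ge y.2
    exact ⟨x, Subtype.ext (by rw [hp]; exact hx)⟩
  have h2card : Nat.card π.ker = 2 := by
    have := hmax E π hperf hc hr
    rcases Nat.lt_or_ge 1 (Nat.card π.ker) with h | h
    · omega
    · exact absurd (Subgroup.mem_bot.1 ((Subgroup.eq_bot_of_card_le _ h) ▸ (hzπ : z ∈ π.ker))) hz1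
  have hker : ∀ x, π x = 1 → x = 1 ∨ x = z := fun x hx => by
    obtain ⟨u, -, huniq⟩ := (Nat.card_eq_two_iff' (1 : π.ker)).1 h2card
    by_cases h : x = 1
    · exact Or.inl h
    · right
      have e1 := huniq ⟨x, hx⟩ fun e => h (congrArg Subtype.val e)
      have e2 := huniq ⟨z, hzπ⟩ fun e => hz1 (congrArg Subtype.val e)
      exact congrArg Subtype.val (e1.trans e2.symm)
  let O : Subgroup (Cfsg.isometryGroup F ⇑(minQ F k a b)) := Cfsg.Omega F ⇑(minQ F k a b)
  have hr' : π.range = O := hr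
  let p : O →* Cfsg.POmega F ⇑(minQ F k a b) := QuotientGroup.mk' (Subgroup.center O)
  obtain ⟨π₀, hπ₀⟩ : ∃ π₀ : E →* O, π₀ = π.codRestrict O fun x => hr' ▸ ⟨x, rfl⟩ := ⟨_, rfl⟩
  have hK : ∀ x, x ∈ (p.comp π₀).ker ↔ π₀ x ∈ Subgroup.center O := fun x => by
    rw [MonoidHom.mem_ker, MonoidHom.comp_apply]
    exact QuotientGroup.eq_one_iff _
  have hπ₀x : ∀ x, (π₀ x).1 = π x := fun x => by rw [hπ₀]; rfl
  have hnm := AutPOmega.Minus.negMem_iff (F := F) (k := k) (a := a) (b := b) (Nat.odd_iff.2 hodd) hab hk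
  suffices hcyc : IsCyclic (p.comp π₀).ker ∧
      Nat.card (p.comp π₀).ker = Nat.gcd 4 (Fintype.card F ^ (k + 1) + 1) by
    obtain ⟨h1, h2'⟩ := hcyc
    rw [← h2']
    subst hπ₀
    exact PlusMult.hasSchurMultiplier_of_max (O := O) π hperf hc hr'
      (fun D _ _ π' a b c => (hmax D π' a b c).trans h2card.ge) p (QuotientGroup.mk'_surjective _)
      (QuotientGroup.ker_mk' _).le (zmodCyclicMulEquiv h1).symm
  obtain ⟨g4, g2⟩ := gcd_four_minus (l := k + 1) hodd
  by_cases hneg : ∃ g ∈ Cfsg.Omega F ⇑(minQ F k a b),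
      ((g : Matrix.GeneralLinearGroup ((Fin k ⊕ Fin k) ⊕ Fin 2) F) : Matrix ((Fin k ⊕ Fin k) ⊕ Fin 2) ((Fin k ⊕ Fin k) ⊕ Fin 2) F) = -1
  · obtain ⟨hev, hq3⟩ := hnm.1 hneg
    rw [g4 ⟨hev.add_one, hq3⟩]
    obtain ⟨g, hg, hgm⟩ := hneg
    have hgx : ∀ y, act g y = -y := fun y => by rw [act_apply, hgm, Matrix.neg_mulVec, Matrix.one_mulVec]
    obtain ⟨v, hv, hvo, hspan⟩ := NegLift.exists_basis hS (n := 2 * k + 1) (by simp; omega) ⟨k + 1, by omega⟩ hg hgx
    have hzz : z * z = 1 := by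
      have := pow_card_eq_one' (x := (⟨z, hzπ⟩ : π.ker))
      rw [h2card, pow_two] at this
      exact congrArg Subtype.val this
    obtain ⟨x, hxz, hx1, hxneg⟩ := NegLift.exists_neg_lift hS hc hr hker hzz hzπ q1 q2 q3 o12 o13 o23 hne
      (l := k + 1) hev.add_one (v := fun i => v ⟨i.val, by omega⟩) (fun i => hv _)
      (fun i j h => hvo _ _ fun e => h (Fin.ext (congrArg (fun r : Fin (2 * k + 1 + 1) => r.val) e)))
      (by
        rw [← hspan]
        congr 1)
      (by omega)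
    have hxK : x ∈ (p.comp π₀).ker := (hK x).2 ((mem_center_iff hQ (minFrame F (by omega) a b) (by simp; omega) _).2
      ⟨-1, by ring, fun y => by rw [hπ₀x, hxneg, neg_smul, one_smul]⟩)
    have hsub : ∀ y ∈ (p.comp π₀).ker, y = 1 ∨ y = z ∨ y = x ∨ y = x * z := fun y hy => by
      obtain ⟨t, ht, hty⟩ := (mem_center_iff hQ (minFrame F (by omega) a b) (by simp; omega) _).1 ((hK y).1 hy)
      rcases mul_self_eq_one_iff.1 ht with rfl | rfl
      · rcases hker y (act_ext fun w => by rw [← hπ₀x, hty, one_smul, act_one]) with h | h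
        · exact Or.inl h
        · exact Or.inr (Or.inl h)
      · have e : π y = π x := act_ext fun w => by rw [← hπ₀x, hty, hxneg, neg_smul, one_smul]
        rcases hker (x⁻¹ * y) (by rw [map_mul, map_inv, e, inv_mul_cancel]) with h | h
        · exact Or.inr (Or.inr (Or.inl (inv_mul_eq_one.1 h).symm))
        · exact Or.inr (Or.inr (Or.inr (by rw [← h, mul_inv_cancel_left])))
    have hord : orderOf (⟨x, hxK⟩ : (p.comp π₀).ker) = 4 := by
      refine orderOf_eq_prime_pow (p := 2) (n := 1) (fun h => hx1 ?_) ?_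
      · have := congrArg Subtype.val h
        simpa [pow_two] using this
      · refine Subtype.ext ?_
        show x ^ (2 ^ 2) = 1
        rw [show (2 : ℕ) ^ 2 = 2 * 2 from rfl, pow_mul, pow_two x, hxz, pow_two, hzz]
    have hcard : Nat.card (p.comp π₀).ker ≤ 4 := by
      have hsub' : ((p.comp π₀).ker : Set E) ⊆ {1, z, x, x * z} := fun y hy => hsub y hy
      calc Nat.card (p.comp π₀).ker ≤ ({1, z, x, x * z} : Set E).ncard := by
            rw [← Nat.card_coe_set_eq]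
            exact Nat.card_mono (Set.toFinite _) hsub'
        _ ≤ 4 := by
            refine (Set.ncard_insert_le _ _).trans (Nat.add_le_add_right ?_ 1)
            refine (Set.ncard_insert_le _ _).trans (Nat.add_le_add_right ?_ 1)
            exact (Set.ncard_insert_le _ _).trans (by rw [Set.ncard_singleton])
    have hcard4 : Nat.card (p.comp π₀).ker = 4 :=
      le_antisymm hcard (hord ▸ orderOf_le_card)
    exact ⟨isCyclic_of_orderOf_eq_card (⟨x, hxK⟩ : (p.comp π₀).ker) (hord.trans hcard4.symm), hcard4⟩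
  · rw [g2 (fun ⟨ho, h3⟩ => hneg (hnm.2 ⟨by simpa [parity_simps] using ho, h3⟩))]
    have hz0 : Subgroup.center O = ⊥ := Subgroup.card_eq_one.1
      (natCard_center_one hQ (minFrame F (by omega) a b) (by simp; omega) (Or.inr hneg))
    have e : (p.comp π₀).ker = π.ker := by
      ext y
      rw [hK, hz0, Subgroup.mem_bot, MonoidHom.mem_ker, ← hπ₀x]
      exact Subtype.ext_iff
    rw [e]
    exact ⟨isCyclic_of_prime_card (p := 2) h2card, h2card⟩

end Cfsg.Agent.OrthMult
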